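import Cfsg.Agent.Lib.Comp.PermChain
import Cfsg.Agent.Lib.FischerTetrad.ModelData

/-!
The 126 points of the elliptic quadric geometry of dimension six over three elements, in the numbering of
`refRows`, and the forty-seven reflections on them.
-/

set_option autoImplicit false

namespace CfsgLib.FischerTetrad.Model

open CfsgLib.Comp

/-- The vectors in base three; coordinates `0, 1, 2, 3, 4, 5` stand for `inl (inl 0)`, `inl (inl 1)`,
`inl (inr 0)`, `inl (inr 1)`, `inr 0`, `inr 1` of `quadFormMinus 2 (ZMod 3) 0 1`, which takes the value one. -/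
def orthoCodes : List ℕ := [486, 162, 99, 180, 216, 234, 126, 135, 153, 207, 87, 96, 105, 168, 177, 186, 60, 20, 134, 239, 215, 68, 83, 158, 164, 44, 69, 26, 122, 218, 203, 74, 89, 137, 170, 32, 78, 23, 110, 233, 191, 62, 86, 152, 167, 47, 261, 540, 297, 504, 288, 531, 315, 558, 249, 492, 357, 600, 438, 681, 258, 501, 366, 609, 447, 690, 267, 510, 375, 618, 456, 699, 245, 488, 272, 515, 299, 542, 335, 578, 416, 659, 362, 605, 443, 686, 389, 632, 470, 713, 248, 491, 383, 626, 464, 707, 338, 581, 419, 662, 284, 527, 374, 617, 455, 698, 320, 563, 251, 494, 359, 602, 440, 683, 341, 584, 422, 665, 314, 557, 296, 539, 404, 647, 485, 728]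

/-- The reflections at the first forty-seven points on the 126 points. -/
noncomputable def ref126 (k : Fin 47) : Equiv.Perm (Fin 126) := PermCode.val 126 (refRows.getD k.val 0)

theorem ref126_ok : ∀ k : Fin 47, PermCode.okb 126 (refRows.getD k.val 0) = true := by decide +kernel

end CfsgLib.FischerTetrad.Model
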