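import Cfsg.Agent.Lib.FischerTetrad.OrthoData
import Cfsg.Agent.Lib.Classical.Quad.Std
import Cfsg.Agent.Lib.Classical.SmallIso.O6Minus
import Mathlib.FieldTheory.Finite.GaloisField

/-!
The group generated by the forty-seven reflections on the 126 points contains a copy of the
four-dimensional unitary simple group over nine elements.
-/

set_option autoImplicit false

namespace CfsgLib.FischerTetrad.Model.Ortho

open CfsgLib.Classical.Quad CfsgLib.Comp QuadraticMap

/-- The space of dimension six in the coordinates of the model forms. -/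
abbrev Sp : Type := ((Fin 2 → ZMod 3) × (Fin 2 → ZMod 3)) × (Fin 2 → ZMod 3)

/-- The form of minus type. -/
abbrev qf : QuadraticForm (ZMod 3) Sp := hypForm 2 (binForm (0 : ZMod 3) 1)

/-- A digit in base three. -/
def dig (c i : ℕ) : ZMod 3 := (⟨c / 3 ^ i % 3, Nat.mod_lt _ (by decide)⟩ : Fin 3)

/-- The vector with a given code. -/
def mkv (c : ℕ) : Sp := ((![dig c 0, dig c 1], ![dig c 2, dig c 3]), ![dig c 4, dig c 5])

/-- The code of a vector. -/
def code (v : Sp) : ℕ :=
  (v.1.1 0).val + 3 * (v.1.1 1).val + 9 * (v.1.2 0).val + 27 * (v.1.2 1).val + 81 * (v.2 0).val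
    + 243 * (v.2 1).val

/-- The value of the form. -/
def qv (v : Sp) : ZMod 3 :=
  v.1.1 0 * v.1.2 0 + v.1.1 1 * v.1.2 1 + v.2 0 * v.2 0 + v.2 1 * v.2 1

/-- The polar of the form. -/
def bv (x y : Sp) : ZMod 3 :=
  x.1.1 0 * y.1.2 0 + y.1.1 0 * x.1.2 0 + x.1.1 1 * y.1.2 1 + y.1.1 1 * x.1.2 1
    + 2 * (x.2 0 * y.2 0) + 2 * (x.2 1 * y.2 1)

/-- The reflection in a vector of value one. -/
def rv (v x : Sp) : Sp :=
  let t := bv x v
  ((fun i => x.1.1 i - t * v.1.1 i, fun i => x.1.2 i - t * v.1.2 i), fun i => x.2 i - t * v.2 i)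

/-- The chosen vector of a point. -/
def vec (i : Fin 126) : Sp := mkv (orthoCodes.getD i.val 0)

/-- The point of a vector. -/
def pt (v : Sp) : Fin 126 :=
  ⟨orthoCodes.findIdx (fun d => Nat.beq d (code v) || Nat.beq d (code (-v))) % 126,
    Nat.mod_lt _ (by decide)⟩

theorem qf_eq (v : Sp) : qf v = qv v := by
  simp [qv, hypForm_apply, binForm_apply, Fin.sum_univ_two]
  ring

theorem polar_qf (x y : Sp) : polar qf x y = bv x y := by
  simp [bv, polar_hypForm, polar_binForm, Fin.sum_univ_two]
  ring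

theorem qv_vec : ∀ i, qv (vec i) = 1 := by decide +kernel

theorem pt_vec : ∀ i, pt (vec i) = i ∧ pt (-vec i) = i := by decide +kernel

theorem cover : ∀ c : Fin 729, qv (mkv c) = 1 →
    vec (pt (mkv c)) = mkv c ∨ vec (pt (mkv c)) = -mkv c := by decide +kernel

theorem ref_table : ∀ (k : Fin 47) (i : Fin 126),
    (pt (rv (vec ⟨k.val, by omega⟩) (vec i))).val = PermCode.get (refRows.getD k.val 0) i.val := by
  decide +kernel

theorem two_rounds : ∀ t : Fin 126, ∃ k l : Fin 47,
    PermCode.get (refRows.getD l.val 0) (PermCode.get (refRows.getD k.val 0) t.val) < 47 := by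
  decide +kernel

theorem moved : ∃ i, pt (rv (vec 0) (rv (vec 1) (vec i))) ≠ i := by decide +kernel

theorem code_digits : ∀ a b c d e f : ZMod 3,
    code ((![a, b], ![c, d]), ![e, f]) < 729 ∧
    mkv (code ((![a, b], ![c, d]), ![e, f])) = ((![a, b], ![c, d]), ![e, f]) := by decide +kernel

theorem code_spec (v : Sp) : code v < 729 ∧ mkv (code v) = v := by
  have h : ∀ w : Fin 2 → ZMod 3, ![w 0, w 1] = w := fun w => by ext i; fin_cases i <;> rfl
  have := code_digits (v.1.1 0) (v.1.1 1) (v.1.2 0) (v.1.2 1) (v.2 0) (v.2 1)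
  rwa [h, h, h] at this

theorem vec_pt {v : Sp} (h : qf v = 1) : vec (pt v) = v ∨ vec (pt v) = -v := by
  obtain ⟨hc, he⟩ := code_spec v
  have := cover ⟨code v, hc⟩
  simp only [he] at this
  exact this (qf_eq v ▸ h)

theorem qf_vec (i : Fin 126) : qf (vec i) = 1 := by rw [qf_eq, qv_vec]

theorem pt_neg {v : Sp} (h : qf v = 1) : pt (-v) = pt v := by
  rcases vec_pt h with e | e
  · conv_lhs => rw [← e]
    rw [(pt_vec _).2]
  · conv_lhs => rw [← e]
    rw [(pt_vec _).1]

theorem image_mul (g h : Orth qf) (i : Fin 126) :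
    pt ((g * h).1 (vec i)) = pt (g.1 (vec (pt (h.1 (vec i))))) := by
  have hq : qf (h.1 (vec i)) = 1 := by rw [orth_Q, qf_vec]
  rcases vec_pt hq with e | e
  · rw [e, Classical.Quad.mul_apply]
  · rw [e, map_neg, pt_neg (by rw [orth_Q, hq]), Classical.Quad.mul_apply]

/-- The action on the points. -/
noncomputable def act126 : Orth qf →* Equiv.Perm (Fin 126) :=
  MonoidHom.mk' (fun g =>
    { toFun := fun i => pt (g.1 (vec i))
      invFun := fun i => pt ((g⁻¹).1 (vec i))
      left_inv := fun i => by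
        dsimp only
        rw [← image_mul, inv_mul_cancel, Classical.Quad.one_apply, (pt_vec i).1]
      right_inv := fun i => by
        dsimp only
        rw [← image_mul, mul_inv_cancel, Classical.Quad.one_apply, (pt_vec i).1] })
    fun g h => Equiv.ext fun i => image_mul g h i

theorem act126_apply (g : Orth qf) (i : Fin 126) : act126 g i = pt (g.1 (vec i)) := rfl

theorem refl_eq_rv {v : Sp} (h : qf v = 1) (x : Sp) : (refl qf v).1 x = rv v x := by
  rw [refl_apply, h, div_one, polar_qf]
  refine Prod.ext (Prod.ext (funext fun i => ?_) (funext fun i => ?_)) (funext fun i => ?_) <;>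
    simp [rv] <;> ring

theorem ref126_eq (k : Fin 47) :
    ref126 k = act126 (refl qf (vec ⟨k.val, by omega⟩)) := by
  refine Equiv.ext fun i => Fin.ext ?_
  rw [ref126, PermCode.val_apply (PermCode.ok_of_okb (ref126_ok k)), act126_apply,
    refl_eq_rv (qf_vec _), ref_table]

theorem refl_image (g : Orth qf) (i : Fin 126) :
    act126 (refl qf (vec (act126 g i))) = act126 g * act126 (refl qf (vec i)) * (act126 g)⁻¹ := by
  rw [← map_mul, ← map_inv, ← map_mul, refl_conj, act126_apply]
  rcases vec_pt (v := g.1 (vec i)) (by rw [orth_Q, qf_vec]) with e | e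
  · rw [e]
  · rw [e, ← neg_one_smul (ZMod 3) (g.1 (vec i)), refl_smul (by decide)]

/-- The group generated by the forty-seven reflections. -/
abbrev W : Subgroup (Equiv.Perm (Fin 126)) := Subgroup.closure (Set.range ref126)

theorem refl_mem (t : Fin 126) : act126 (refl qf (vec t)) ∈ W := by
  have hstep : ∀ (k : Fin 47) (s : Fin 126), act126 (refl qf (vec (ref126 k s))) ∈ W →
      act126 (refl qf (vec s)) ∈ W := by
    intro k s hs
    have hk : ref126 k ∈ W := Subgroup.subset_closure ⟨k, rfl⟩
    have h := refl_image (refl qf (vec ⟨k.val, by omega⟩)) (ref126 k s)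
    rw [← ref126_eq] at h
    have hi : ref126 k (ref126 k s) = s := by
      rw [ref126_eq, ← Equiv.Perm.mul_apply, ← map_mul, refl_mul_self, map_one, Equiv.Perm.one_apply]
    rw [hi] at h
    rw [h]
    exact mul_mem (mul_mem hk hs) (inv_mem hk)
  obtain ⟨k, l, hlt⟩ := two_rounds t
  refine hstep k t (hstep l _ ?_)
  have hv : (ref126 l (ref126 k t)).val < 47 := by
    simp only [ref126, PermCode.val_apply (PermCode.ok_of_okb (ref126_ok _))]
    exact hlt
  have := ref126_eq ⟨_, hv⟩
  simp only [Fin.eta] at this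
  rw [← this]
  exact Subgroup.subset_closure ⟨_, rfl⟩

theorem conj_mem_W (g : Orth qf) {x : Equiv.Perm (Fin 126)} (hx : x ∈ W) :
    act126 g * x * (act126 g)⁻¹ ∈ W := by
  have h : W.map (MulAut.conj (act126 g)).toMonoidHom ≤ W := by
    rw [MonoidHom.map_closure, Subgroup.closure_le]
    rintro _ ⟨_, ⟨k, rfl⟩, rfl⟩
    show act126 g * ref126 k * (act126 g)⁻¹ ∈ W
    rw [ref126_eq, ← refl_image]
    exact refl_mem _
  exact h ⟨x, hx, rfl⟩

theorem isAniso : IsAniso (0 : ZMod 3) 1 := by unfold IsAniso; decide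

theorem ndPolar_qf : NDPolar qf := ndPolar_hypForm (ndPolar_binForm isAniso) 2

/-- A frame. -/
noncomputable def frm : Frame qf :=
  hypFrameKernel (R := binForm (0 : ZMod 3) 1) le_rfl ![1, 0] (by simp [binForm_apply])

/-- A product of two reflections which moves a point. -/
noncomputable def g₀ : siegelGroup qf :=
  ⟨refl qf (vec 0) * refl qf (vec 1), by
    refine (QuotientGroup.eq_one_iff _).1 ?_
    rw [← QuotientGroup.mk'_apply, map_mul, reflClass_eq ndPolar_qf frm, reflClass_eq ndPolar_qf frm,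
      qf_vec, qf_vec, reflClass_mul_self]⟩

theorem act126_g₀ : act126 g₀.1 ≠ 1 := by
  obtain ⟨i, hi⟩ := moved
  intro h
  apply hi
  have h1 := Equiv.congr_fun h i
  simp only [g₀, act126_apply, Classical.Quad.mul_apply, refl_eq_rv (qf_vec _),
    Equiv.Perm.one_apply] at h1
  exact h1

/-- The action of the Siegel group. -/
noncomputable def hom : siegelGroup qf →* Equiv.Perm (Fin 126) :=
  act126.comp (siegelGroup qf).subtype

theorem hom_eq_one_of {g : siegelGroup qf}
    (h : (∀ x, g.1.1 x = x) ∨ (∀ x, g.1.1 x = -x)) : hom g = 1 := by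
  refine Equiv.ext fun i => ?_
  show pt (g.1.1 (vec i)) = i
  rcases h with h | h <;> rw [h]
  · exact (pt_vec i).1
  · exact (pt_vec i).2

theorem ker_hom : hom.ker = Subgroup.center (siegelGroup qf) := by
  refine le_antisymm (fun g hg => ?_) (fun g hg => ?_)
  · rcases normal_siegelGroup_dichotomy ndPolar_qf frm hom.ker inferInstance with h | h
    · exact (mem_center_siegelGroup_iff ndPolar_qf frm g).2 (h g hg)
    · exact absurd (MonoidHom.mem_ker.1 (h.symm ▸ Subgroup.mem_top g₀ : g₀ ∈ hom.ker)) act126_g₀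
  · exact hom_eq_one_of ((mem_center_siegelGroup_iff ndPolar_qf frm g).1 hg)

theorem range_hom_le : hom.range ≤ W := by
  have hn : (W.comap hom).Normal := ⟨fun x hx g => by
    show hom (g * x * g⁻¹) ∈ W
    rw [map_mul, map_mul, map_inv]
    exact conj_mem_W g.1 hx⟩
  rcases normal_siegelGroup_dichotomy ndPolar_qf frm (W.comap hom) hn with h | h
  · refine absurd (hom_eq_one_of (h g₀ ?_)) act126_g₀
    show act126 (refl qf (vec 0) * refl qf (vec 1)) ∈ W
    rw [map_mul]
    exact mul_mem (refl_mem 0) (refl_mem 1)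
  · rintro _ ⟨x, rfl⟩
    exact (h.symm ▸ Subgroup.mem_top x : x ∈ W.comap hom)

/-- The image of the Siegel group is `POmega`. -/
noncomputable def rangeEquiv :
    ↥hom.range ≃* Cfsg.POmega (ZMod 3) (Cfsg.quadFormMinus 2 (ZMod 3) 0 1) :=
  ((QuotientGroup.quotientKerEquivRange hom).symm.trans
    (QuotientGroup.quotientMulEquivOfEq ker_hom)).trans
      (pomegaEquiv (minusEquiv 2 (ZMod 3)) (minusEquiv_spec 2 0 1) ndPolar_qf frm).symm

theorem card_range_hom : Nat.card ↥hom.range = 3265920 := by
  rw [Nat.card_congr rangeEquiv.toEquiv]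
  have h := card_pomega_minus isAniso (m := 2) le_rfl
  rw [Nat.card_zmod, Finset.prod_range_succ, Finset.prod_range_one] at h
  norm_num at h
  omega

theorem isSimple_range_hom : IsSimpleGroup ↥hom.range := by
  have := isSimpleGroup_pomega (minusEquiv 2 (ZMod 3)) (minusEquiv_spec 2 0 1) ndPolar_qf frm
  have := rangeEquiv.toEquiv.nontrivial
  exact IsSimpleGroup.isSimpleGroup_of_surjective rangeEquiv.symm.toMonoidHom
    rangeEquiv.symm.surjective

end CfsgLib.FischerTetrad.Model.Ortho

namespace CfsgLib.FischerTetrad.Model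

/-- The reflections on the 126 points generate a group containing the simple unitary group. -/
theorem exists_psu_le :
    ∃ (K : Type) (_ : Field K) (_ : Fintype K) (P : Subgroup (Equiv.Perm (Fin 126))),
      Fintype.card K = 9 ∧ IsSimpleGroup P ∧ Nat.card P = 3265920 ∧
      P ≤ Subgroup.closure (Set.range ref126) ∧ Nonempty (P ≃* Cfsg.PSU 4 K 3) := by
  have : Fact (Nat.Prime 3) := ⟨Nat.prime_three⟩
  let _ : Fintype (GaloisField 3 2) := Fintype.ofFinite _
  have hK : Fintype.card (GaloisField 3 2) = 9 := by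
    rw [← Nat.card_eq_fintype_card, GaloisField.card 3 2 (by decide)]; norm_num
  obtain ⟨e⟩ := CfsgLib.Classical.SmallIso.nonempty_pomega6_minus_equiv (F := ZMod 3)
    (K := GaloisField 3 2) (q := 3) (ZMod.card 3) (by rw [hK]; norm_num) 0 1 Ortho.isAniso
  exact ⟨GaloisField 3 2, inferInstance, inferInstance, Ortho.hom.range, hK, Ortho.isSimple_range_hom,
    Ortho.card_range_hom, Ortho.range_hom_le, ⟨Ortho.rangeEquiv.trans e⟩⟩

end CfsgLib.FischerTetrad.Model
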