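import Cfsg.Agent.Lib.FischerTetrad.Refl
import Cfsg.Agent.Lib.FischerTetrad.Ortho
import Cfsg.Agent.Lib.Components.GenFitting
import Cfsg.Agent.Lib.LargeXS.Congr

/-!
The centraliser of the product of four commuting members, from a numbering of the tetrads.
-/

set_option autoImplicit false
set_option linter.unusedSectionVars false

namespace CfsgLib.FischerTetrad

open Subgroup
open CfsgLib.ThreeTrans (mul_self inv_eq)
open CfsgLib.FischerType CfsgLib.FischerInvol CfsgLib.FischerTriple

theorem exists_far_point : ∀ i : Fin 45, ∃ j : Fin 45, Model.perp j i = false := by decide +kernel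

variable {G : Type*} [Group G] [Finite G] {D : Set G} {z a b c d : G} {F : Type} [Field F] [Fintype F]

namespace Chart

variable (X : Chart D z a b c d F)

include X

theorem ker_actC : (actC X.cls).ker = (Zfix X.baseTT).subgroupOf (CC z) := by
  ext g
  rw [MonoidHom.mem_ker, Subgroup.mem_subgroupOf]
  refine ⟨fun h => ⟨g.2, fun T _ => ?_⟩, fun h => X.Zfix_act h⟩
  exact congrArg Subtype.val (Equiv.congr_fun h T)

theorem Zfix_le_CC : Zfix X.baseTT ≤ CC z := fun _ hg => hg.1

theorem card_ker_actC : Nat.card (actC (z := z) X.cls).ker = 24576 := by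
  rw [X.ker_actC, Nat.card_congr (Subgroup.subgroupOfEquivOfLe X.Zfix_le_CC).toEquiv, X.card_Zfix]

theorem card_range_actC : Nat.card (actC (z := z) X.cls).range = 6531840 := by
  have h := (actC (z := z) X.cls).ker.card_mul_index
  rw [index_ker, X.card_ker_actC, X.card_CC] at h
  omega

/-- A member times the first of the four lies in the derived centraliser. -/
theorem member_mul_a (j : Fin 45) : X.member j 0 * a ∈ CC z := by
  have hz : Commute (X.member j 0) z := (TT.mem_D (X.linkTT j) (X.mem_linkTT.2 ⟨0, rfl⟩)).2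
  refine mem_CC.2 ⟨?_, hz.mul_left X.tet.comm_z.1⟩
  rcases mem_or_mul_mem X.cls X.tet.ma (X.member j 0) with h | h
  · exact absurd h (X.not_mem_L (X.member_mem j 0).1.1.1)
  · exact h

theorem actC_member_a (j : Fin 45) : actC X.cls ⟨X.member j 0 * a, X.member_mul_a j⟩ =
    refl X.cls (X.linkTT j) * refl X.cls X.baseTT := by
  rw [refl_eq X.env (X.mem_linkTT.2 ⟨0, rfl⟩), refl_eq X.env (T := X.baseTT) (x := a) (Or.inl rfl), ← map_mul]
  rfl

/-- Nothing centralises the transitive group. -/
theorem eq_one_of_central {ι : Equiv.Perm (TT D z)}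
    (hc : ∀ g : ↥(CC z), Commute ι (actC X.cls g)) : ι = 1 := by
  have hcomm : ∀ (g : ↥(CC z)) (S : TT D z), actC X.cls g (ι S) = ι (actC X.cls g S) :=
    fun g S => Equiv.congr_fun (hc g).symm.eq S
  by_cases hb : ι X.baseTT = X.baseTT
  · refine Equiv.ext fun S => ?_
    obtain ⟨g, rfl⟩ := X.env.actC_transitive X.baseTT S
    rw [← hcomm g, hb]
    rfl
  exfalso
  have hfix : ∀ j, actC X.cls ⟨X.member j 0 * a, X.member_mul_a j⟩ (ι X.baseTT) = ι X.baseTT := by
    intro j
    rw [hcomm, X.actC_member_a, Equiv.Perm.mul_apply, refl_linked X.env (linked_self X.hset _),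
      refl_linked X.env (X.linked_base j).symm]
  by_cases hl : Linked X.baseTT (ι X.baseTT)
  · obtain ⟨i, hi⟩ := (X.eq_link_of_linked hl).resolve_left hb
    obtain ⟨j, hj⟩ := exists_far_point i
    have h := hfix j
    rw [X.actC_member_a, Equiv.Perm.mul_apply, hi, refl_linked X.env (X.linked_base i), X.refl_link] at h
    exact Model.rf_move j i hj (X.linkTT_inj h)
  · obtain ⟨j, hj⟩ := X.sigma_nonempty hl
    have h := hfix j
    rw [X.actC_member_a, Equiv.Perm.mul_apply] at h
    have hj' := refl_linked X.env (X.mem_sigma.1 hj)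
    exact refl_moves X.env hl ((refl X.cls (X.linkTT j)).injective (h.trans hj'.symm))

/-- The centraliser of the product of the four members in the derived group. -/
theorem centralizer_structure
    (hphi : ∃ φ : Fin 126 ≃ TT D z, ∀ (k : Fin 47) (t : Fin 126),
      refl X.cls (φ (k.castLE (by norm_num))) (φ t) = φ (Model.ref126 k t)) :
    ∃ (Q : Subgroup ↥(CC z)) (_ : Q.Normal), Cfsg.generalizedFittingSubgroup ↥(CC z) = Q ∧
      Cfsg.IsExtraspecial 2 ↥Q ∧ Nat.card Q = 2 ^ 13 ∧
      ∃ (N M : Subgroup ↥(CC z)) (_ : N.Normal) (_ : M.Normal), Q ≤ N ∧ N ≤ M ∧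
        Nat.card N = 3 * Nat.card Q ∧ (∃ (K : Type) (_ : Field K) (_ : Fintype K), Fintype.card K = 9 ∧
          Nonempty (↥M ⧸ N.subgroupOf M ≃* Cfsg.PSU 4 K 3)) ∧ M.index = 2 := by
  have : Fact (Nat.Prime 2) := ⟨Nat.prime_two⟩
  obtain ⟨φ, hφ⟩ := hphi
  obtain ⟨K, i1, i2, P, hK, hPsimple, hPcard, hPle, ⟨eP⟩⟩ := Model.exists_psu_le
  set A := actC (z := z) X.cls with hA
  set R := A.range with hR
  set e := φ.permCongrHom with he
  set P' := P.map e.toMonoidHom with hP'
  let eP' : P ≃* P' := P.equivMapOfInjective e.toMonoidHom e.injective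
  have hP'card : Nat.card P' = 3265920 := by rw [← Nat.card_congr eP'.toEquiv, hPcard]
  haveI : IsSimpleGroup P' := by
    haveI := eP'.symm.toEquiv.nontrivial
    exact IsSimpleGroup.isSimpleGroup_of_surjective eP'.toMonoidHom eP'.surjective
  -- the reflections of the model are reflections at tetrads
  have hP'act : P' ≤ (act (z := z) X.cls).range := by
    refine (Subgroup.map_mono hPle).trans ?_
    rw [MonoidHom.map_closure, closure_le]
    rintro _ ⟨_, ⟨k, rfl⟩, rfl⟩
    refine ⟨memOf (φ (k.castLE (by norm_num))), Equiv.ext fun T => ?_⟩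
    obtain ⟨t, rfl⟩ := φ.surjective T
    refine (hφ k t).trans ?_
    simp [he, Equiv.permCongrHom_coe, Equiv.permCongr_apply]
  -- commutators of the centraliser lie in the derived centraliser
  have hcomm : ∀ p ∈ P', ∀ q ∈ P', p * q * p⁻¹ * q⁻¹ ∈ R := by
    intro p hp q hq
    obtain ⟨g, rfl⟩ := hP'act hp
    obtain ⟨g', rfl⟩ := hP'act hq
    have hC : (g : G) * g' * (g : G)⁻¹ * (g' : G)⁻¹ ∈ CC z := by
      refine mem_CC.2 ⟨?_, mem_centralizer_singleton_iff.1 (g * g' * g⁻¹ * g'⁻¹).2⟩
      rw [← commutatorElement_def, _root_.commutator_def]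
      exact commutator_mem_commutator (mem_top _) (mem_top _)
    refine ⟨⟨_, hC⟩, ?_⟩
    show act X.cls (Subgroup.inclusion CC_le ⟨_, hC⟩) = _
    rw [← map_inv, ← map_inv, ← map_mul, ← map_mul, ← map_mul]
    rfl
  have hP'R : P' ≤ R := by
    have hc : _root_.commutator ↥P' ≤ R.subgroupOf P' := by
      rw [_root_.commutator_def, commutator_le]
      intro p _ q _
      exact hcomm p.1 p.2 q.1 q.2
    rcases (show (_root_.commutator ↥P').Normal from inferInstance).eq_bot_or_eq_top with h | h
    · exfalso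
      have hab : ∀ p q : ↥P', p * q = q * p := fun p q => by
        have hm : p * q * p⁻¹ * q⁻¹ ∈ _root_.commutator ↥P' := by
          rw [← commutatorElement_def, _root_.commutator_def]
          exact commutator_mem_commutator (mem_top _) (mem_top _)
        rw [h, mem_bot, mul_inv_eq_one, mul_inv_eq_iff_eq_mul] at hm
        exact hm
      letI : CommGroup ↥P' := { (inferInstance : Group ↥P') with mul_comm := hab }
      have hp := IsSimpleGroup.prime_card (α := ↥P')
      rw [hP'card] at hp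
      norm_num at hp
    · rw [h, top_le_iff, subgroupOf_eq_top] at hc
      exact hc
  -- the subgroup of index two
  set M := P'.comap A with hM
  have hMidx : M.index = 2 := by
    rw [hM, index_comap, ← hR, relIndex]
    have h := (P'.subgroupOf R).card_mul_index
    rw [Nat.card_congr (Subgroup.subgroupOfEquivOfLe hP'R).toEquiv, hP'card,
      show Nat.card ↥R = 6531840 from X.card_range_actC] at h
    omega
  have hMn : M.Normal := normal_of_index_eq_two hMidx
  have hNM : A.ker ≤ M := fun g hg => by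
    show A g ∈ P'
    rw [MonoidHom.mem_ker.1 hg]
    exact one_mem _
  -- the core
  set Q := (Qg D z).subgroupOf (CC z) with hQ
  have hQn : Q.Normal := ⟨fun q hq g => Qg_conj X.cls (mem_CC.1 g.2).2 hq⟩
  let eQ : ↥Q ≃* ↥(Qg D z) := Subgroup.subgroupOfEquivOfLe (Qg_le_CC X.cls)
  have hQcard : Nat.card Q = 2 ^ 13 := by rw [Nat.card_congr eQ.toEquiv, X.card_Qg]
  have hQN : Q ≤ A.ker := by
    rw [hA, X.ker_actC]
    exact fun q hq => Qg_le_Zfix X.env _ hq
  have hcore : Cfsg.pCore 2 ↥(CC z) = Q := by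
    set O := Cfsg.pCore 2 ↥(CC z) with hO
    have hOn : O.Normal := inferInstance
    have hOp : IsPGroup 2 O := CfsgLib.Components.isPGroup_pCore 2
    have hQO : Q ≤ O := CfsgLib.Components.le_pCore_of_normal hQn (IsPGroup.of_card hQcard)
    set Z := O.map A with hZ
    have hZR : Z ≤ R := map_le_range A O
    have hZn : ∀ r ∈ R, ∀ x ∈ Z, r * x * r⁻¹ ∈ Z := by
      rintro _ ⟨g, rfl⟩ _ ⟨x, hx, rfl⟩
      exact ⟨g * x * g⁻¹, hOn.conj_mem x hx g, by rw [map_mul, map_mul, map_inv]⟩
    have hZp : IsPGroup 2 ↥Z := hOp.map A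
    have hdisj : ∀ x ∈ Z, x ∈ P' → x = 1 := by
      have hn : (Z.subgroupOf P').Normal := ⟨fun x hx p => hZn p.1 (hP'R p.2) x.1 hx⟩
      rcases hn.eq_bot_or_eq_top with h | h
      · intro x hx hxP
        have := subgroupOf_eq_bot.1 h
        exact Subgroup.disjoint_def.1 this hx hxP
      · exfalso
        rw [subgroupOf_eq_top] at h
        obtain ⟨k, hk⟩ := IsPGroup.iff_card.1 (hZp.to_le h)
        rw [hP'card] at hk
        have h3 : 3 ∣ 2 ^ k := ⟨1088640, by omega⟩
        exact absurd ((Nat.prime_dvd_prime_iff_eq Nat.prime_three Nat.prime_two).1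
          (Nat.prime_three.dvd_of_dvd_pow h3)) (by norm_num)
    have hcard2 : Nat.card Z ≤ 2 := by
      have hinj : Function.Injective (fun p : Z × P' => (⟨p.1.1 * p.2.1, mul_mem (hZR p.1.2) (hP'R p.2.2)⟩ : R)) := by
        rintro ⟨x, p⟩ ⟨y, q⟩ h
        have h' : x.1 * p.1 = y.1 * q.1 := congrArg Subtype.val h
        have h1 : y.1⁻¹ * x.1 = q.1 * p.1⁻¹ := by
          rw [inv_mul_eq_iff_eq_mul, ← mul_assoc, ← h', mul_inv_cancel_right]
        have h2 := hdisj _ (mul_mem (inv_mem y.2) x.2) (h1 ▸ mul_mem q.2 (inv_mem p.2))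
        obtain rfl : x = y := Subtype.ext (inv_mul_eq_one.1 h2).symm
        obtain rfl : p = q := Subtype.ext (mul_left_cancel h')
        rfl
      have h := Nat.card_le_card_of_injective _ hinj
      rw [Nat.card_prod, hP'card, show Nat.card ↥R = 6531840 from X.card_range_actC] at h
      omega
    have hcentral : ∀ x ∈ Z, x = 1 := by
      intro x hx
      by_contra hne
      refine hne (X.eq_one_of_central fun g => ?_)
      have hy : A g * x * (A g)⁻¹ ∈ Z := hZn _ ⟨g, rfl⟩ x hx
      by_contra hnc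
      have hne2 : A g * x * (A g)⁻¹ ≠ x := fun e' => hnc (mul_inv_eq_iff_eq_mul.1 e').symm
      have hne1 : A g * x * (A g)⁻¹ ≠ 1 := fun e' => hne (by
        rw [mul_inv_eq_one] at e'
        exact mul_left_cancel (e'.trans (mul_one _).symm))
      have hsub : ({1, x, A g * x * (A g)⁻¹} : Set (Equiv.Perm (TT D z))) ⊆ (Z : Set _) := by
        rintro y (rfl | rfl | rfl)
        exacts [one_mem Z, hx, hy]
      have h3 := Set.ncard_le_ncard hsub (Set.toFinite _)
      rw [Set.ncard_insert_of_notMem (by simp [Ne.symm hne, Ne.symm hne1]) (Set.toFinite _),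
        Set.ncard_pair hne2.symm, ← Nat.card_coe_set_eq] at h3
      exact absurd (h3.trans hcard2) (by norm_num)
    have hOker : O ≤ A.ker := fun g hg => MonoidHom.mem_ker.2 (hcentral _ ⟨g, hg, rfl⟩)
    obtain ⟨k, hk⟩ := IsPGroup.iff_card.1 hOp
    have hdvd := Subgroup.card_dvd_of_le hOker
    rw [hk, X.card_ker_actC, show 24576 = 2 ^ 13 * 3 by norm_num] at hdvd
    have h2 : 2 ^ k ∣ 2 ^ 13 := (Nat.Coprime.pow_left k (by norm_num)).dvd_of_dvd_mul_right hdvd
    refine (eq_of_le_of_card_ge hQO ?_).symm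
    rw [hQcard, hk]
    exact Nat.le_of_dvd (by norm_num) h2
  have hFit : Cfsg.generalizedFittingSubgroup ↥(CC z) = Q := by
    rw [(CfsgLib.Components.genFitting_eq_pCore_iff 2).2 ?_, hcore]
    rw [hcore]
    intro g hg
    rcases X.eq_one_or_z_of_comm (g := (g : G)) (mem_CC.1 g.2).2 (fun q hq => by
      have := mem_centralizer_iff.1 hg ⟨q, Qg_le_CC X.cls hq⟩ hq
      exact (congrArg Subtype.val this).symm) with h | h
    · show (g : G) ∈ Qg D z
      rw [h]; exact one_mem _
    · show (g : G) ∈ Qg D z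
      rw [h]; exact z_mem_Qg X.tet
  refine ⟨Q, hQn, hFit, CfsgLib.LargeXS.isExtraspecial_congr eQ.symm X.isExtraspecial_Qg, hQcard, A.ker, M,
    inferInstance, hMn, hQN, hNM, ?_, ⟨K, i1, i2, hK, ?_⟩, hMidx⟩
  · rw [hQcard, X.card_ker_actC]
    norm_num
  · let f : ↥M →* ↥P' := (A.comp M.subtype).codRestrict P' fun m => m.2
    have hf : Function.Surjective f := fun p => by
      obtain ⟨g, hg⟩ := hP'R p.2
      exact ⟨⟨g, show A g ∈ P' from hg ▸ p.2⟩, Subtype.ext hg⟩
    have hker : A.ker.subgroupOf M = f.ker := by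
      ext m
      rw [mem_subgroupOf, MonoidHom.mem_ker, MonoidHom.mem_ker, ← Subtype.val_inj]
      rfl
    exact ⟨((QuotientGroup.quotientMulEquivOfEq hker).trans
      (QuotientGroup.quotientKerEquivOfSurjective f hf)).trans (eP'.symm.trans eP)⟩

end Chart

end CfsgLib.FischerTetrad
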