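import Cfsg.Agent.Lib.FischerTetrad.ModelCheck

/-!
A group of permutations of the forty-five points preserving orthogonality has at most 51840 elements.
-/

set_option autoImplicit false
set_option maxRecDepth 100000

namespace CfsgLib.FischerTetrad.Model

/-- Thirty-two points are not collinear with a point. -/
theorem far_count' : ∀ p : Fin 45, (Finset.univ.filter fun q : Fin 45 => perp p q = false).card = 32 := by decide +kernel

theorem autSeq_new : ∀ k : Fin 45, autSeq.getD k.val 0 ∉ autSeq.take k.val := by decide +kernel

theorem card_le_aux : ∀ n k : ℕ, k + n = 45 → ∀ H : Subgroup (Equiv.Perm (Fin 45)),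
    (∀ g ∈ H, ∀ i j, perp (g i) (g j) = perp i j) → (∀ g ∈ H, ∀ x ∈ autSeq.take k, g x = x) →
    Nat.card H ≤ ((List.range' k n).map fun k => (cand k).length).prod := by
  intro n
  induction n with
  | zero =>
    intro k hk H _ hfix
    have hbot : H = ⊥ := (Subgroup.eq_bot_iff_forall H).2 fun g hg => Equiv.ext fun x =>
      hfix g hg x (by
        rw [List.take_of_length_le (by rw [autSeq_length]; omega)]
        exact autSeq_mem x)
    rw [hbot, Subgroup.card_bot]
    simp
  | succ n ih =>
    intro k hk H hp hfix
    set x := autSeq.getD k 0 with hx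
    have horb : MulAction.orbit H x ⊆ ↑(cand k).toFinset := by
      rintro _ ⟨g, rfl⟩
      rw [Finset.mem_coe, List.mem_toFinset, cand, List.mem_filter]
      refine ⟨List.mem_finRange _, ?_⟩
      simp only [Bool.and_eq_true, Bool.not_eq_true', List.contains_eq_mem, decide_eq_false_iff_not,
        List.all_eq_true, beq_iff_eq]
      refine ⟨fun hmem => ?_, fun b hb => ?_⟩
      · have h1 := hfix g g.2 _ hmem
        have h2 : g.1 x = x := g.1.injective h1
        change g.1 x ∈ _ at hmem
        rw [h2] at hmem
        exact autSeq_new ⟨k, by omega⟩ hmem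
      · have := hp g g.2 x b
        rwa [hfix g g.2 b hb] at this
    have h1 : (MulAction.stabilizer H x).index ≤ (cand k).length := by
      rw [MulAction.index_stabilizer]
      refine (Set.ncard_le_ncard horb (Set.toFinite _)).trans ?_
      rw [Set.ncard_coe_finset]
      exact List.toFinset_card_le _
    have h2 : Nat.card ↥(MulAction.stabilizer H x) ≤
        ((List.range' (k + 1) n).map fun k => (cand k).length).prod := by
      rw [Nat.card_congr (Subgroup.equivMapOfInjective _ H.subtype H.subtype_injective).toEquiv]
      refine ih (k + 1) (by omega) _ ?_ ?_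
      · rintro _ ⟨g, -, rfl⟩
        exact hp g g.2
      · rintro _ ⟨g, hg, rfl⟩ y hy
        have hlen : k < autSeq.length := by rw [autSeq_length]; omega
        rw [← List.take_append_getElem hlen, List.mem_append] at hy
        rcases hy with hy | hy
        · exact hfix g g.2 y hy
        · rw [List.mem_singleton.1 hy]
          have := MulAction.mem_stabilizer_iff.1 hg
          rw [hx, show autSeq.getD k 0 = autSeq[k] from by simp [List.getD, hlen]] at this
          exact this
    rw [← (MulAction.stabilizer H x).card_mul_index, List.range'_succ, List.map_cons, List.prod_cons,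
      mul_comm]
    exact Nat.mul_le_mul h1 h2

/-- The bound. -/
theorem card_le_51840 (H : Subgroup (Equiv.Perm (Fin 45)))
    (hp : ∀ g ∈ H, ∀ i j, perp (g i) (g j) = perp i j) : Nat.card H ≤ 51840 := by
  refine (card_le_aux 45 0 rfl H hp (by simp)).trans ?_
  rw [← List.range_eq_range', cand_prod]

end CfsgLib.FischerTetrad.Model
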