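import Cfsg.Agent.Lib.FischerTetrad.Rho

/-!
There are 126 tetrads: the base, forty-five linked to it and eighty others.
-/

set_option autoImplicit false
set_option linter.unusedSectionVars false

namespace CfsgLib.FischerTetrad

open Subgroup CfsgLib.Classical.Herm HermSpace CfsgLib.UnitaryTransv
open CfsgLib.ThreeTrans (link mul_self inv_eq braid conj_self_of_commute commute_conj_iff')
open CfsgLib.FischerType CfsgLib.FischerInvol CfsgLib.FischerTriple
open CfsgLib.FischerThompson (v0 hv0 v0_ne_zero)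
open CfsgLib.FischerType.U6 (proj proj_surjective ptv)
open CfsgLib.FischerOrder

variable {G : Type*} [Group G] [Finite G] {D : Set G}

/-- The members commuting with a member. -/
def comN (D : Set G) (x : G) : Set G := {y | y ∈ D ∧ Commute y x}

/-- The members commuting with none of three members. -/
def triFar (D : Set G) (a b c : G) : Set G :=
  {x | x ∈ D ∧ ¬ Commute x a ∧ ¬ Commute x b ∧ ¬ Commute x c}

/-- The members centralising a product and far from its first member. -/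
def farSet (D : Set G) (z a : G) : Set G := {x | x ∈ D ∧ Commute x z ∧ ¬ Commute x a}

theorem Env.ncard_comN (E : Env D) {x : G} (hx : x ∈ D) : (comN D x).ncard = 31672 := by
  have e : comN D x = insert x (link D x) := by
    ext y
    constructor
    · rintro ⟨hy, hc⟩
      by_cases h : y = x
      · exact Or.inl h
      · exact Or.inr ⟨hy, h, hc.symm⟩
    · rintro (rfl | hy)
      exacts [⟨hx, Commute.refl _⟩, ⟨hy.1, hy.2.2.symm⟩]
  rw [e, Set.ncard_insert_of_notMem (fun h => h.2.1 rfl) (Set.toFinite _),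
    M24.ncard_link E.S E.typ hx]

/-- Two commuting members have 3510 common neighbours. -/
theorem Env.ncard_link_inter (E : Env D) {a b : G} (ha : a ∈ D) (hb : b ∈ link D a) :
    (link D a ∩ link D b).ncard = 3510 := by
  obtain ⟨d, hM⟩ := E.data
  have hset := E.S.cls.1
  have hpair := pair_of_typeM23_img hM.hX
  have hnc := hM.S.noCentral hM.mem hpair
  obtain ⟨u, hu, -⟩ := id hpair
  obtain ⟨g, ga, gb⟩ := E.S.exists_conj_pair hM.mem hu ha hb
  have hinj : Function.Injective fun e => g * e * g⁻¹ := fun e f h =>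
    mul_left_cancel (mul_right_cancel h)
  have himg : link D a ∩ link D b = (fun e => g * e * g⁻¹) '' (link D d ∩ link D u) := by
    rw [Set.image_inter hinj, CfsgLib.ThreeTrans.link_conj E.S.cls, CfsgLib.ThreeTrans.link_conj E.S.cls,
      ga, gb]
  rw [himg, Set.ncard_image_of_injective _ hinj, ← M23.ncard_link hM.SX hM.hX (toImg_mem hu)]
  refine Set.ncard_congr (fun w hw => toImg D d hw.1) (fun w hw => ⟨toImg_mem hw.1, fun e => ?_, ?_⟩)
    (fun v w hv hw h => eq_of_toImg hset hnc hv.1 hw.1 h) fun q hq => ?_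
  · exact hw.2.2.1 (eq_of_toImg hset hnc hw.1 hu e)
  · exact commute_toImg hu hw.1 hw.2.2.2
  · obtain ⟨w, hw, rfl⟩ := exists_toImg hq.1
    exact ⟨w, ⟨hw, hw.1, fun e => hq.2.1 (by subst e; rfl), commute_of_toImg hset hu hw hq.2.2⟩, rfl⟩

theorem Env.ncard_comN_inter (E : Env D) {a b : G} (ha : a ∈ D) (hb : b ∈ link D a) :
    (comN D a ∩ comN D b).ncard = 3512 := by
  have e : comN D a ∩ comN D b = insert a (insert b (link D a ∩ link D b)) := by
    ext y
    constructor
    · rintro ⟨⟨hy, hya⟩, -, hyb⟩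
      by_cases h1 : y = a
      · exact Or.inl h1
      by_cases h2 : y = b
      · exact Or.inr (Or.inl h2)
      · exact Or.inr (Or.inr ⟨⟨hy, h1, hya.symm⟩, ⟨hy, h2, hyb.symm⟩⟩)
    · rintro (rfl | rfl | hy)
      exacts [⟨⟨ha, Commute.refl _⟩, ha, hb.2.2⟩, ⟨⟨hb.1, hb.2.2.symm⟩, hb.1, Commute.refl _⟩,
        ⟨⟨hy.1.1, hy.1.2.2.symm⟩, hy.1.1, hy.2.2.2.symm⟩]
  rw [e, Set.ncard_insert_of_notMem ?_ (Set.toFinite _), Set.ncard_insert_of_notMem ?_ (Set.toFinite _),
    E.ncard_link_inter ha hb]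
  · exact fun h => h.2.2.1 rfl
  · rintro (h | h)
    exacts [hb.2.1 h.symm, h.1.2.1 rfl]

/-- The member commuting with three members which is determined by a member far from them. -/
def fourth (a b c x : G) : G := x * (a * b * c * x * (a * b * c)⁻¹) * x⁻¹

section Fourth

variable (hset : Cfsg.IsThreeTranspositionSet D) (hc : Cfsg.IsThreeTranspositionClass D) {a b c x : G}

include hset hc

omit [Finite G] in
theorem commute_fourth (hT : Tri D a b c) (hx : x ∈ D) (hxa : ¬ Commute x a) (hxb : ¬ Commute x b)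
    (hxc : ¬ Commute x c) : Commute a (fourth a b c x) := by
  have ha2 := mul_self hset hT.1
  have hA : a * (a * b * c) = b * c := by rw [← mul_assoc, ← mul_assoc, ha2, one_mul]
  have h1 := commute_conj_of_pair hset hx hT.2.1.1 hT.2.2.1.1 hT.2.2.2.2.2 hxb hxc
  rw [← hA] at h1
  have h2 : Commute (x * a * x⁻¹) (a * b * c * x * (a * b * c)⁻¹) := by
    rw [inv_eq hset hx, braid hset hx hT.1 hxa]
    refine (commute_conj_iff' a _ _).1 ?_
    have e1 : a * (a * x * a) * a⁻¹ = x := by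
      rw [inv_eq hset hT.1]
      calc a * (a * x * a) * a = (a * a) * x * (a * a) := by simp only [mul_assoc]
        _ = x := by rw [ha2, one_mul, mul_one]
    rw [e1]
    simpa [mul_assoc, inv_eq hset hT.1] using h1
  have h3 := (commute_conj_iff' x _ _).2 h2
  have e2 : x * (x * a * x⁻¹) * x⁻¹ = a := by
    rw [inv_eq hset hx]
    calc x * (x * a * x) * x = (x * x) * a * (x * x) := by simp only [mul_assoc]
      _ = a := by rw [mul_self hset hx, one_mul, mul_one]
  rwa [e2] at h3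

omit [Finite G] in
theorem fourth_mem_link (hT : Tri D a b c) (hx : x ∈ D) (hxa : ¬ Commute x a) (hxb : ¬ Commute x b)
    (hxc : ¬ Commute x c) : fourth a b c x ∈ link D a := by
  refine ⟨CfsgLib.ThreeTransp.class_conj_mem hc x (CfsgLib.ThreeTransp.class_conj_mem hc _ hx), fun e => ?_,
    commute_fourth hset hc hT hx hxa hxb hxc⟩
  have ha2 := mul_self hset hT.1
  have hx2 := mul_self hset hx
  have e1 : a * b * c * x * (a * b * c)⁻¹ = a * x * a := by
    rw [fourth, inv_eq hset hx] at e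
    calc a * b * c * x * (a * b * c)⁻¹ = (x * x) * (a * b * c * x * (a * b * c)⁻¹) * (x * x) := by
          rw [hx2, one_mul, mul_one]
      _ = x * (x * (a * b * c * x * (a * b * c)⁻¹) * x) * x := by simp only [mul_assoc]
      _ = a * x * a := by rw [e, braid hset hx hT.1 hxa]
  refine hxb (commute_of_commute_mul_two hset hT.2.1.1 hT.2.2.1.1 hx hT.2.2.2.2.1.symm ?_).1
  have e2 : b * c * x * (b * c)⁻¹ = x := by
    calc b * c * x * (b * c)⁻¹ = a⁻¹ * (a * b * c * x * (a * b * c)⁻¹) * a := by group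
      _ = (a * a) * x * (a * a) := by rw [e1, inv_eq hset hT.1]; simp only [mul_assoc]
      _ = x := by rw [ha2, one_mul, mul_one]
  exact (mul_inv_eq_iff_eq_mul.1 e2).symm

omit [Finite G] hc in
theorem fourth_perm (hT : Tri D a b c) : fourth b a c x = fourth a b c x ∧ fourth c a b x = fourth a b c x := by
  constructor
  · rw [fourth, fourth, hT.2.1.2.2.eq]
  · have e : c * a * b = a * b * c := by
      rw [mul_assoc, (hT.2.2.1.2.2.mul_left hT.2.2.2.2.2).eq]
    rw [fourth, fourth, e]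

omit [Finite G] in
theorem fourth_mem (hT : Tri D a b c) (hx : x ∈ D) (hxa : ¬ Commute x a) (hxb : ¬ Commute x b)
    (hxc : ¬ Commute x c) : fourth a b c x ∈ triLink D a b c := by
  have hb : Tri D b a c :=
    ⟨hT.2.1.1, ⟨hT.1, hT.2.1.2.1.symm, hT.2.1.2.2.symm⟩, hT.2.2.2, hT.2.2.1⟩
  have hcc : Tri D c a b :=
    ⟨hT.2.2.1.1, ⟨hT.1, hT.2.2.1.2.1.symm, hT.2.2.1.2.2.symm⟩,
      ⟨hT.2.1.1, hT.2.2.2.2.1.symm, hT.2.2.2.2.2.symm⟩, hT.2.1⟩
  refine ⟨⟨fourth_mem_link hset hc hT hx hxa hxb hxc, ?_⟩, ?_⟩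
  · rw [← (fourth_perm hset hT).1]; exact fourth_mem_link hset hc hb hx hxb hxa hxc
  · rw [← (fourth_perm hset hT).2]; exact fourth_mem_link hset hc hcc hx hxc hxa hxb

omit [Finite G] in
theorem commute_mul_fourth (hT : Tri D a b c) (hx : x ∈ D) (hxa : ¬ Commute x a) (hxb : ¬ Commute x b)
    (hxc : ¬ Commute x c) : Commute x (a * b * c * fourth a b c x) := by
  have hA : (a * b * c) * (a * b * c) = 1 := by
    have := pr3_mul hset hT (true, true, true) (true, true, true)
    simpa [pr3, bp] using this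
  have hAi : (a * b * c)⁻¹ = a * b * c := inv_eq_of_mul_eq_one_right hA
  have hcA : Commute a (a * b * c) := ((Commute.refl a).mul_right hT.2.1.2.2).mul_right hT.2.2.1.2.2
  set A := a * b * c with hAdef
  have hy : A * x * A⁻¹ ∈ D := CfsgLib.ThreeTransp.class_conj_mem hc A hx
  have hnc : ¬ Commute x (A * x * A⁻¹) := by
    intro hcom
    have e : fourth a b c x = A * x * A⁻¹ := by
      rw [fourth, ← hAdef]
      exact conj_self_of_commute hcom
    have h1 := commute_fourth hset hc hT hx hxa hxb hxc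
    rw [e, ← conj_self_of_commute hcA.symm] at h1
    exact hxa ((commute_conj_iff' A a x).1 h1).symm
  have hb := braid hset hx hy hnc
  rw [hAi] at hb
  rw [fourth, ← hAdef, hAi, inv_eq hset hx]
  show x * (A * (x * (A * x * A) * x)) = A * (x * (A * x * A) * x) * x
  calc x * (A * (x * (A * x * A) * x)) = x * (A * x * A) * x * (A * x) := by simp only [mul_assoc]
    _ = A * x * A * x * (A * x * A) * (A * x) := by rw [hb]
    _ = A * x * A * x * A * x * (A * A) * x := by simp only [mul_assoc]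
    _ = A * x * A * x * A * (x * x) := by rw [hA, mul_one]; simp only [mul_assoc]
    _ = A * x * A * x * A := by rw [mul_self hset hx, mul_one]
    _ = _ := by
      simp only [mul_assoc, mul_self hset hx, mul_one]

omit [Finite G] in
theorem eq_fourth {e : G} (hT : Tri D a b c) (he : e ∈ triLink D a b c) (hx : x ∈ D) (hxa : ¬ Commute x a)
    (hxe : Commute x (a * b * c * e)) : e = fourth a b c x := by
  have hTet : Tet D (a * b * c * e) a b c e :=
    { ma := hT.1, mb := hT.2.1.1, mc := hT.2.2.1.1, md := he.1.1.1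
      nab := hT.2.1.2.1.symm, nac := hT.2.2.1.2.1.symm, nad := he.1.1.2.1.symm
      nbc := hT.2.2.2.2.1.symm, nbd := he.1.2.2.1.symm, ncd := he.2.2.1.symm
      cab := hT.2.1.2.2, cac := hT.2.2.1.2.2, cad := he.1.1.2.2
      cbc := hT.2.2.2.2.2, cbd := he.1.2.2.2, ccd := he.2.2.2
      prod := rfl }
  have hne := (hTet.commute_none hset hx hxe hxa).2.2
  have hb := braid hset hx he.1.1.1 hne
  have hce : Commute (a * b * c) e := (he.1.1.2.2.mul_left he.1.2.2.2).mul_left he.2.2.2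
  have hx2 := mul_self hset hx
  have he2 := mul_self hset he.1.1.1
  have h1 : a * b * c * x * (a * b * c)⁻¹ = x * e * x := by
    have hA : a * b * c = a * b * c * e * e := by rw [mul_assoc (a * b * c) e e, he2, mul_one]
    set B := a * b * c * e with hBdef
    have hBe : Commute B e := hce.mul_left (Commute.refl e)
    calc a * b * c * x * (a * b * c)⁻¹ = B * (e * x * e) * B⁻¹ := by
          rw [hA, mul_inv_rev, inv_eq hset he.1.1.1]; simp only [mul_assoc]
      _ = B * (x * e * x) * B⁻¹ := by rw [hb]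
      _ = (B * x * B⁻¹) * (B * e * B⁻¹) * (B * x * B⁻¹) := by group
      _ = x * e * x := by rw [conj_self_of_commute hxe.symm, conj_self_of_commute hBe]
  rw [fourth, h1, inv_eq hset hx]
  calc e = (x * x) * e * (x * x) := by rw [hx2, one_mul, mul_one]
    _ = _ := by simp only [mul_assoc]

end Fourth

namespace Chart

variable {z a b c d : G} {F : Type} [Field F] [Fintype F] (X : Chart D z a b c d F)

include X

theorem exists_conj_d {w : G} (hw : w ∈ triLink D a b c) : ∃ k ∈ C3 a b c, k * d * k⁻¹ = w := by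
  obtain ⟨v, hv⟩ := X.over_of_mem hw
  obtain ⟨g, hg, hgv⟩ := rootGen_transitive (big_std X.hF (n := 6) (by norm_num)) (hv0 X.hF) v0_ne_zero
    hv.2.1 hv.2.2.1
  obtain ⟨k, hk⟩ := X.surj (proj X.hF ⟨g, rootGen_le_ker_det hg⟩)
  have h := X.over_d.conj X k ⟨g, rootGen_le_ker_det hg⟩ hk.symm
  exact ⟨k, k.2, Over.unique X h hv (α := 1) (by rw [one_smul]; exact hgv.symm)⟩

/-- Three members have 693 common neighbours. -/
theorem ncard_triLink : (triLink D a b c).ncard = 693 := by
  have horb : {y | ∃ k ∈ C3 a b c, k * d * k⁻¹ = y} = triLink D a b c := by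
    ext y
    exact ⟨fun ⟨k, hk, e⟩ => e ▸ X.conj_triLink hk X.d_mem, fun hy => X.exists_conj_d hy⟩
  have h1 := M23.card_orbit_conj_mul (C3 a b c) d
  rw [horb, show Nat.card ↥(C3 a b c ⊓ centralizer ({d} : Set G)) = Nat.card X.Kd from rfl, X.card_Kd] at h1
  have hker : Nat.card X.θ.ker = 8 := by
    have hmem : ∀ i, pr3 a b c i ∈ C3 a b c := by
      have hle : closure ({a, b, c} : Set G) ≤ C3 a b c := (closure_le _).2 (by
        have h := X.tet
        rintro s (rfl | rfl | rfl) <;> refine mem_C3.2 ?_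
        · exact ⟨Commute.refl _, h.cab, h.cac⟩
        · exact ⟨h.cab.symm, Commute.refl _, h.cbc⟩
        · exact ⟨h.cac.symm, h.cbc.symm, Commute.refl _⟩)
      exact fun i => hle ((mem_closure_three X.hset X.tet.tri).2 ⟨i, rfl⟩)
    let f : Bool × Bool × Bool → X.θ.ker := fun i =>
      ⟨⟨pr3 a b c i, hmem i⟩,
        MonoidHom.mem_ker.2 (X.le_ker _ ((mem_closure_three X.hset X.tet.tri).2 ⟨i, rfl⟩))⟩
    have hf : Function.Bijective f := by
      refine ⟨fun i j h => pr3_injective X.env X.tet.tri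
        (congrArg (fun k : X.θ.ker => ((k.1 : ↥(C3 a b c)) : G)) h), fun k => ?_⟩
      obtain ⟨i, hi⟩ := (mem_closure_three X.hset X.tet.tri).1 (X.ker_le _ (MonoidHom.mem_ker.1 k.2))
      exact ⟨i, Subtype.ext (Subtype.ext hi)⟩
    rw [← Nat.card_congr (Equiv.ofBijective f hf)]
    simp [Nat.card_prod]
  have hC : Nat.card ↥(C3 a b c) = 8 * 9196830720 := by
    rw [← X.θ.ker.card_mul_index, index_ker, MonoidHom.range_eq_top.2 X.surj, card_top, hker,
      CfsgLib.U6Cover.card_psu_six (by rw [Nat.card_eq_fintype_card, X.hF]; norm_num)]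
  rw [hC] at h1
  omega

theorem ncard_triFar : (triFar D a b c).ncard = 221760 := by
  have hE := X.env
  have h := X.tet
  have hNab : (comN D a ∩ comN D b).ncard = 3512 := hE.ncard_comN_inter h.ma h.tri.2.1
  have hNac : (comN D a ∩ comN D c).ncard = 3512 := hE.ncard_comN_inter h.ma h.tri.2.2.1
  have hNbc : (comN D b ∩ comN D c).ncard = 3512 := hE.ncard_comN_inter h.mb h.tri.2.2.2
  have hall : ((comN D a ∩ comN D c) ∩ (comN D b ∩ comN D c)).ncard = 696 := by
    have e : (comN D a ∩ comN D c) ∩ (comN D b ∩ comN D c) = insert a (insert b (insert c (triLink D a b c))) := by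
      ext y
      constructor
      · rintro ⟨⟨⟨hy, hya⟩, -, hyc⟩, ⟨-, hyb⟩, -⟩
        by_cases h1 : y = a
        · exact Or.inl h1
        by_cases h2 : y = b
        · exact Or.inr (Or.inl h2)
        by_cases h3 : y = c
        · exact Or.inr (Or.inr (Or.inl h3))
        · exact Or.inr (Or.inr (Or.inr ⟨⟨⟨hy, h1, hya.symm⟩, ⟨hy, h2, hyb.symm⟩⟩, ⟨hy, h3, hyc.symm⟩⟩))
      · rintro (rfl | rfl | rfl | hy)
        exacts [⟨⟨⟨h.ma, .refl _⟩, h.ma, h.cac⟩, ⟨h.ma, h.cab⟩, h.ma, h.cac⟩,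
          ⟨⟨⟨h.mb, h.cab.symm⟩, h.mb, h.cbc⟩, ⟨h.mb, .refl _⟩, h.mb, h.cbc⟩,
          ⟨⟨⟨h.mc, h.cac.symm⟩, h.mc, .refl _⟩, ⟨h.mc, h.cbc.symm⟩, h.mc, .refl _⟩,
          ⟨⟨⟨hy.1.1.1, hy.1.1.2.2.symm⟩, hy.1.1.1, hy.2.2.2.symm⟩,
            ⟨hy.1.1.1, hy.1.2.2.2.symm⟩, hy.1.1.1, hy.2.2.2.symm⟩]
    rw [e, Set.ncard_insert_of_notMem ?_ (Set.toFinite _), Set.ncard_insert_of_notMem ?_ (Set.toFinite _),
      Set.ncard_insert_of_notMem ?_ (Set.toFinite _), X.ncard_triLink]
    · exact fun h => h.2.2.1 rfl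
    · rintro (e | e)
      exacts [h.nbc e, e.1.2.2.1 rfl]
    · rintro (e | e | e)
      exacts [h.nab e, h.nac e, e.1.1.2.1 rfl]
  have h1 := Set.ncard_union_add_ncard_inter (comN D a) (comN D b) (Set.toFinite _) (Set.toFinite _)
  have h2 := Set.ncard_union_add_ncard_inter (comN D a ∪ comN D b) (comN D c) (Set.toFinite _) (Set.toFinite _)
  have h3 := Set.ncard_union_add_ncard_inter (comN D a ∩ comN D c) (comN D b ∩ comN D c)
    (Set.toFinite _) (Set.toFinite _)
  rw [← Set.union_inter_distrib_right, hNac, hNbc, hall] at h3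
  rw [hE.ncard_comN h.ma, hE.ncard_comN h.mb, hNab] at h1
  rw [hE.ncard_comN h.mc] at h2
  have hdec : D = triFar D a b c ∪ ((comN D a ∪ comN D b) ∪ comN D c) := by
    ext y
    simp only [triFar, comN, Set.mem_union, Set.mem_ofPred_eq]
    tauto
  have hdisj : Disjoint (triFar D a b c) ((comN D a ∪ comN D b) ∪ comN D c) := by
    rw [Set.disjoint_left]
    rintro y ⟨-, na, nb, nc⟩ ((⟨-, hy⟩ | ⟨-, hy⟩) | ⟨-, hy⟩)
    exacts [na hy, nb hy, nc hy]
  have h4 := M24.ncard_class hE.S hE.typ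
  rw [hdec, Set.ncard_union_eq hdisj (Set.toFinite _) (Set.toFinite _)] at h4
  omega

/-- A member centralising the product and far from the base is far from three of its members. -/
theorem farSet_iff {x : G} : x ∈ farSet D z a ↔ x ∈ triFar D a b c ∧ Commute x (a * b * c * d) := by
  constructor
  · rintro ⟨hx, hz, ha⟩
    obtain ⟨hb, hc, -⟩ := X.tet.commute_none X.hset hx hz ha
    exact ⟨⟨hx, ha, hb, hc⟩, by rwa [X.tet.prod]⟩
  · rintro ⟨⟨hx, ha, -, -⟩, hz⟩
    exact ⟨hx, by rwa [X.tet.prod] at hz, ha⟩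

theorem ncard_farSet : (farSet D z a).ncard = 320 := by
  classical
  have hset := X.hset
  have hc := X.cls
  have hT := X.tet.tri
  let Fd : G → Set G := fun e => {x | x ∈ triFar D a b c ∧ Commute x (a * b * c * e)}
  have hFd : ∀ e ∈ triLink D a b c, (Fd e).ncard = (farSet D z a).ncard := by
    intro e he
    obtain ⟨k, hk, hke⟩ := X.exists_conj_d he
    obtain ⟨ka, kb, kc⟩ := mem_C3.1 hk
    have hinj : Function.Injective fun x => k * x * k⁻¹ := fun e f h =>
      mul_left_cancel (mul_right_cancel h)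
    rw [← Set.ncard_image_of_injective (farSet D z a) hinj]
    congr 1
    have hA : k * (a * b * c * d) * k⁻¹ = a * b * c * e := by
      rw [← hke, show k * (a * b * c * d) * k⁻¹ =
        (k * a * k⁻¹) * (k * b * k⁻¹) * (k * c * k⁻¹) * (k * d * k⁻¹) by group,
        conj_self_of_commute ka, conj_self_of_commute kb, conj_self_of_commute kc]
    have hfix : ∀ {y}, Commute k y → ∀ x, Commute (k * x * k⁻¹) y ↔ Commute x y := fun {y} hy x => by
      have h := commute_conj_iff' k x y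
      rwa [conj_self_of_commute hy] at h
    ext y
    constructor
    · intro hy
      obtain ⟨⟨hyD, na, nb, nc⟩, hyc⟩ := hy
      have e1 : k * (k⁻¹ * y * k) * k⁻¹ = y := by group
      refine ⟨k⁻¹ * y * k, X.farSet_iff.2 ⟨⟨?_, ?_, ?_, ?_⟩, ?_⟩, e1⟩
      · simpa using CfsgLib.ThreeTransp.class_conj_mem hc k⁻¹ hyD
      · rwa [← hfix ka, e1]
      · rwa [← hfix kb, e1]
      · rwa [← hfix kc, e1]
      · rwa [← commute_conj_iff' k, e1, hA]
    · rintro ⟨x, hx, rfl⟩
      obtain ⟨⟨hxD, na, nb, nc⟩, hxc⟩ := X.farSet_iff.1 hx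
      refine ⟨⟨CfsgLib.ThreeTransp.class_conj_mem hc k hxD, ?_, ?_, ?_⟩, ?_⟩
      · rwa [hfix ka]
      · rwa [hfix kb]
      · rwa [hfix kc]
      · rw [← hA]
        exact (commute_conj_iff' k _ _).2 hxc
  let Φ : (Σ e : triLink D a b c, Fd e.1) → triFar D a b c := fun p => ⟨p.2.1, p.2.2.1⟩
  have hΦ : Function.Bijective Φ := by
    refine ⟨?_, fun ⟨x, hx⟩ => ?_⟩
    · rintro ⟨⟨e, he⟩, ⟨x, hx⟩⟩ ⟨⟨e', he'⟩, ⟨x', hx'⟩⟩ h
      obtain rfl : x = x' := congrArg Subtype.val h
      obtain rfl : e = e' := (eq_fourth hset hc hT he hx.1.1 hx.1.2.1 hx.2).trans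
        (eq_fourth hset hc hT he' hx.1.1 hx.1.2.1 hx'.2).symm
      rfl
    · exact ⟨⟨⟨fourth a b c x, fourth_mem hset hc hT hx.1 hx.2.1 hx.2.2.1 hx.2.2.2⟩,
        ⟨x, hx, commute_mul_fourth hset hc hT hx.1 hx.2.1 hx.2.2.1 hx.2.2.2⟩⟩, rfl⟩
  have h := Nat.card_congr (Equiv.ofBijective Φ hΦ)
  haveI : Fintype (triLink D a b c) := Fintype.ofFinite _
  rw [Nat.card_sigma, Finset.sum_congr rfl (fun e _ => (Nat.card_coe_set_eq _).trans (hFd e.1 e.2)),
    Finset.sum_const, Finset.card_univ, ← Nat.card_eq_fintype_card, Nat.card_coe_set_eq,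
    Nat.card_coe_set_eq, X.ncard_triLink, X.ncard_triFar, smul_eq_mul] at h
  omega

theorem linked_base_iff {T : TT D z} {x : G} (hx : x ∈ T.1) : Linked X.baseTT T ↔ Commute x a :=
  ⟨fun h => (h.all X.hset a (Or.inl rfl) x hx).symm, fun h => ⟨a, Or.inl rfl, x, hx, h.symm⟩⟩

/-- Every member centralising the product lies in a tetrad. -/
theorem exists_tt {x : G} (hx : x ∈ D) (hxz : Commute x z) : ∃ T : TT D z, x ∈ T.1 := by
  by_cases hxa : Commute x a
  · by_cases hb : x ∈ X.baseTT.1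
    · exact ⟨_, hb⟩
    obtain ⟨c1, c2, c3⟩ := X.tet.commute_all X.hset hx hxz hxa
    obtain ⟨h1, h2, h3, h4⟩ := X.tet.mem_tt
    have hne : ∀ {y}, y ∈ X.baseTT.1 → x ≠ y := fun hy e => hb (e ▸ hy)
    obtain ⟨i, l, e⟩ := X.exists_member
      (w := x) ⟨⟨⟨hx, hne h1, hxa.symm⟩, ⟨hx, hne h2, c1.symm⟩⟩, ⟨hx, hne h3, c2.symm⟩⟩ c3 (hne h4)
    exact ⟨X.linkTT i, X.mem_linkTT.2 ⟨l, e⟩⟩
  · exact ⟨(X.tet.far_tet X.hset X.cls hx hxz hxa).tt, Or.inl rfl⟩

/-- Eighty tetrads are not linked to the base. -/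
theorem card_far : Nat.card {T : TT D z // ¬ Linked X.baseTT T} = 80 := by
  classical
  let Φ : (Σ T : {T : TT D z // ¬ Linked X.baseTT T}, T.1.1) → farSet D z a := fun p =>
    ⟨p.2.1, (p.1.1.mem_D p.2.2).1, (p.1.1.mem_D p.2.2).2, fun h => p.1.2 ((X.linked_base_iff p.2.2).2 h)⟩
  have hΦ : Function.Bijective Φ := by
    refine ⟨?_, fun ⟨x, hx⟩ => ?_⟩
    · rintro ⟨⟨T, hT⟩, ⟨x, hx⟩⟩ ⟨⟨T', hT'⟩, ⟨x', hx'⟩⟩ h
      obtain rfl : x = x' := congrArg Subtype.val h
      obtain rfl : T = T' := TT.eq_of_mem X.hset X.env.sep hx hx'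
      rfl
    · obtain ⟨T, hT⟩ := X.exists_tt hx.1 hx.2.1
      exact ⟨⟨⟨T, fun h => hx.2.2 ((X.linked_base_iff hT).1 h)⟩, ⟨x, hT⟩⟩, rfl⟩
  have h := Nat.card_congr (Equiv.ofBijective Φ hΦ)
  haveI : Fintype {T : TT D z // ¬ Linked X.baseTT T} := Fintype.ofFinite _
  have h4 : ∀ T : TT D z, Nat.card T.1 = 4 := by
    intro T
    obtain ⟨p, q, r, s, hT, e⟩ := T.2
    rw [Nat.card_coe_set_eq, e, Set.ncard_insert_of_notMem (by simp [hT.nab, hT.nac, hT.nad]) (Set.toFinite _),
      Set.ncard_insert_of_notMem (by simp [hT.nbc, hT.nbd]) (Set.toFinite _), Set.ncard_pair hT.ncd]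
  rw [Nat.card_sigma, Finset.sum_congr rfl (fun T _ => h4 T.1), Finset.sum_const, Finset.card_univ,
    ← Nat.card_eq_fintype_card, Nat.card_coe_set_eq, X.ncard_farSet, smul_eq_mul] at h
  omega

/-- There are 126 tetrads. -/
theorem card_TT : Nat.card (TT D z) = 126 := by
  classical
  let g : Option (Fin 45) ⊕ {T : TT D z // ¬ Linked X.baseTT T} → TT D z :=
    Sum.elim (fun o => o.elim X.baseTT X.linkTT) Subtype.val
  have hg : Function.Bijective g := by
    refine ⟨?_, fun T => ?_⟩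
    · rintro ((_ | i) | ⟨T, hT⟩) ((_ | j) | ⟨T', hT'⟩) h <;> simp only [g, Sum.elim_inl, Sum.elim_inr,
        Option.elim_none, Option.elim_some] at h
      · rfl
      · exact absurd h.symm (X.linkTT_ne_base j)
      · exact absurd (h ▸ linked_self X.hset X.baseTT) hT'
      · exact absurd h (X.linkTT_ne_base i)
      · rw [X.linkTT_inj h]
      · exact absurd (h ▸ X.linked_base i) hT'
      · exact absurd (h ▸ linked_self X.hset X.baseTT) hT
      · exact absurd (h ▸ X.linked_base j) hT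
      · exact congrArg Sum.inr (Subtype.ext h)
    · by_cases hT : Linked X.baseTT T
      · rcases X.eq_link_of_linked hT with rfl | ⟨i, rfl⟩
        exacts [⟨Sum.inl none, rfl⟩, ⟨Sum.inl (some i), rfl⟩]
      · exact ⟨Sum.inr ⟨T, hT⟩, rfl⟩
  rw [← Nat.card_congr (Equiv.ofBijective g hg), Nat.card_sum, X.card_far]
  simp [Nat.card_eq_fintype_card]

end Chart

end CfsgLib.FischerTetrad
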