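import Cfsg.Agent.Lib.FischerTetrad.Swap
import Cfsg.Agent.Lib.FischerTetrad.AutBound

/-!
The elements fixing each tetrad linked to the base form a group of order `3 * 2 ^ 13`, which fixes all tetrads.
-/

set_option autoImplicit false
set_option linter.unusedSectionVars false

namespace CfsgLib.FischerTetrad

open Subgroup CfsgLib.Classical.Herm HermSpace
open CfsgLib.ThreeTrans (link mul_self inv_eq conj_self_of_commute commute_conj_iff')
open CfsgLib.FischerType CfsgLib.FischerInvol CfsgLib.FischerTriple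
open CfsgLib.FischerOrder

variable {G : Type*} [Group G] {D : Set G} {z : G}

theorem CC_le : CC z ≤ centralizer ({z} : Set G) := inf_le_right

/-- The centraliser in the derived group on the tetrads. -/
def actC (hc : Cfsg.IsThreeTranspositionClass D) : ↥(CC z) →* Equiv.Perm (TT D z) :=
  (act hc).comp (Subgroup.inclusion CC_le)

theorem actC_val (hc : Cfsg.IsThreeTranspositionClass D) (g : ↥(CC z)) (T : TT D z) :
    (actC hc g T).1 = (fun x => (g : G) * x * (g : G)⁻¹) '' T.1 := rfl

theorem linked_act {hc : Cfsg.IsThreeTranspositionClass D} (g : ↥(centralizer ({z} : Set G))) {T T' : TT D z}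
    (h : Linked T T') : Linked (act hc g T) (act hc g T') := by
  obtain ⟨x, hx, y, hy, hxy⟩ := h
  exact ⟨_, ⟨x, hx, rfl⟩, _, ⟨y, hy, rfl⟩, (commute_conj_iff' (g : G) x y).2 hxy⟩

theorem linked_act_iff {hc : Cfsg.IsThreeTranspositionClass D} (g : ↥(centralizer ({z} : Set G)))
    {T T' : TT D z} : Linked (act hc g T) (act hc g T') ↔ Linked T T' := by
  refine ⟨fun h => ?_, linked_act g⟩
  have h' := linked_act (hc := hc) g⁻¹ h
  rwa [← Equiv.Perm.mul_apply, ← Equiv.Perm.mul_apply, ← map_mul, inv_mul_cancel, map_one] at h'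

variable [Finite G]

theorem Env.actC_transitive (E : Env D) (T T' : TT D z) : ∃ g : ↥(CC z), actC E.S.cls g T = T' := by
  obtain ⟨x, hx⟩ := T.nonempty
  obtain ⟨y, hy⟩ := T'.nonempty
  obtain ⟨p, q, r, h, rfl⟩ := T.exists_first hx
  obtain ⟨p', q', r', h', rfl⟩ := T'.exists_first hy
  obtain ⟨g, hg, e, -⟩ := E.exists_move h h'
  refine ⟨⟨g, hg⟩, ?_⟩
  exact act_eq_of_mem E.S.cls.1 E.S.cls E.sep (Subgroup.inclusion CC_le ⟨g, hg⟩) hx
    (show g * x * g⁻¹ ∈ _ from e ▸ hy)

namespace Chart

variable {a b c d : G} {F : Type} [Field F] [Fintype F] (X : Chart D z a b c d F)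

include X

theorem exists_linkPerm {g : ↥(centralizer ({z} : Set G))} (hg : act X.cls g X.baseTT = X.baseTT) :
    ∃ π : Equiv.Perm (Fin 45), (∀ i, act X.cls g (X.linkTT i) = X.linkTT (π i)) ∧
      ∀ i j, Model.perp (π i) (π j) = Model.perp i j := by
  have h : ∀ i, ∃ j, act X.cls g (X.linkTT i) = X.linkTT j := fun i => by
    have hl := linked_act (hc := X.cls) g (X.linked_base i)
    rw [hg] at hl
    rcases X.eq_link_of_linked hl with e | e
    · exact absurd ((act X.cls g).injective (e.trans hg.symm)) (X.linkTT_ne_base i)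
    · exact e
  choose π hπ using h
  have hinj : Function.Injective π := fun i j e =>
    X.linkTT_inj ((act X.cls g).injective (by rw [hπ, hπ, e]))
  refine ⟨Equiv.ofBijective π (Finite.injective_iff_bijective.1 hinj), hπ, fun i j => ?_⟩
  rw [Bool.eq_iff_iff, ← X.linked_link_iff, ← X.linked_link_iff, Equiv.ofBijective_apply,
    Equiv.ofBijective_apply, ← hπ, ← hπ, linked_act_iff]

theorem linkPerm_unique {g : ↥(centralizer ({z} : Set G))} {π π' : Equiv.Perm (Fin 45)}
    (h : ∀ i, act X.cls g (X.linkTT i) = X.linkTT (π i))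
    (h' : ∀ i, act X.cls g (X.linkTT i) = X.linkTT (π' i)) : π = π' :=
  Equiv.ext fun i => X.linkTT_inj ((h i).symm.trans (h' i))

theorem card_TT_stab :
    Nat.card ↥((MulAction.stabilizer (Equiv.Perm (TT D z)) X.baseTT).comap (actC X.cls)) = 24 * 53084160 := by
  letI : MulAction ↥(CC z) (TT D z) := MulAction.compHom _ (actC X.cls)
  have e : MulAction.stabilizer ↥(CC z) X.baseTT =
      (MulAction.stabilizer (Equiv.Perm (TT D z)) X.baseTT).comap (actC X.cls) := rfl
  have horb : MulAction.orbit ↥(CC z) X.baseTT = Set.univ :=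
    Set.eq_univ_of_forall fun T => X.env.actC_transitive X.baseTT T
  have h := (MulAction.stabilizer ↥(CC z) X.baseTT).card_mul_index
  rw [MulAction.index_stabilizer, horb, Set.ncard_univ, X.card_TT, e, X.card_CC] at h
  omega

theorem card_Zfix_ge : 24576 ≤ Nat.card ↥(Zfix X.baseTT) := by
  set St := (MulAction.stabilizer (Equiv.Perm (TT D z)) X.baseTT).comap (actC X.cls) with hSt
  have hex : ∀ g : ↥St, ∃ π : Equiv.Perm (Fin 45),
      (∀ i, actC X.cls g.1 (X.linkTT i) = X.linkTT (π i)) ∧
      ∀ i j, Model.perp (π i) (π j) = Model.perp i j :=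
    fun g => X.exists_linkPerm g.2
  choose ψ hψ hψp using hex
  let Ψ : ↥St →* Equiv.Perm (Fin 45) := MonoidHom.mk' ψ fun g k =>
    X.linkPerm_unique (hψ (g * k)) fun i => by
      rw [Equiv.Perm.mul_apply, ← hψ g, ← hψ k]
      exact congrArg (fun π : Equiv.Perm (TT D z) => π (X.linkTT i)) (map_mul (actC X.cls) g.1 k.1)
  have hrange : Nat.card ↥Ψ.range ≤ 51840 := by
    refine Model.card_le_51840 _ ?_
    rintro _ ⟨g, rfl⟩
    exact hψp g
  have hker : Nat.card ↥Ψ.ker ≤ Nat.card ↥(Zfix X.baseTT) := by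
    refine Nat.card_le_card_of_injective (fun g : ↥Ψ.ker => (⟨((g.1 : ↥St).1 : ↥(CC z)).1, ?_⟩ : ↥(Zfix X.baseTT)))
      fun g k h => Subtype.ext (Subtype.ext (Subtype.ext (congrArg (fun v : ↥(Zfix X.baseTT) => v.1) h)))
    refine ⟨(g.1 : ↥St).1.2, fun T hT => ?_⟩
    rcases X.eq_link_of_linked hT with rfl | ⟨i, rfl⟩
    · exact congrArg Subtype.val (g.1 : ↥St).2
    · have h := hψ g.1 i
      rw [show ψ g.1 = 1 from MonoidHom.mem_ker.1 g.2, Equiv.Perm.one_apply] at h
      exact congrArg Subtype.val h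
  have h := Ψ.ker.card_mul_index
  rw [index_ker, show Nat.card ↥St = 24 * 53084160 from X.card_TT_stab] at h
  have h2 := Nat.mul_le_mul hker hrange
  rw [h] at h2
  omega

/-- The kernel on the linked tetrads. -/
theorem card_Zfix : Nat.card ↥(Zfix X.baseTT) = 24576 := by
  refine le_antisymm ?_ X.card_Zfix_ge
  have h := X.tet
  have hset := X.hset
  have hconj : ∀ {k : G}, k ∈ Zfix X.baseTT → Tet D z (k * a * k⁻¹) (k * b * k⁻¹) (k * c * k⁻¹) (k * d * k⁻¹) :=
    fun hk => h.conj_of_commute X.cls (mem_CC.1 hk.1).2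
  have o1 : {y | ∃ k ∈ Zfix X.baseTT, k * a * k⁻¹ = y} ⊆ X.baseTT.1 := by
    rintro _ ⟨k, hk, rfl⟩
    exact conj_mem_of_Zfix hk (linked_self hset _) (Or.inl rfl)
  set H1 := Zfix X.baseTT ⊓ centralizer ({a} : Set G) with hH1
  set H2 := H1 ⊓ centralizer ({b} : Set G) with hH2
  have o2 : {y | ∃ k ∈ H1, k * b * k⁻¹ = y} ⊆ {b, c, d} := by
    rintro _ ⟨k, ⟨hk, hka⟩, rfl⟩
    have h' := hconj hk
    rw [conj_self_of_commute (mem_centralizer_singleton_iff.1 hka)] at h'
    exact h.subset_of_common hset X.env.sep h'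
  have e2 : H2 = Qg D z ⊓ X.Kd := by
    rw [← X.Zfix_inf_Kd]
    ext k
    constructor
    · rintro ⟨⟨hk, hka⟩, hkb⟩
      have ea := conj_self_of_commute (mem_centralizer_singleton_iff.1 hka)
      have eb := conj_self_of_commute (mem_centralizer_singleton_iff.1 hkb)
      have h' := hconj hk
      rw [ea, eb] at h'
      have hc := (h.subset_of_common hset X.env.sep h'.swap').resolve_left h'.nbc.symm
      have hd := (h.subset_of_common hset X.env.sep h'.swap''.swap').resolve_left h'.nbd.symm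
      rcases hc with hc | hc
      · exact ⟨hk, X.mem_Kd_of_three (mem_CC.1 hk.1).2 (mem_centralizer_singleton_iff.1 hka)
          (mem_centralizer_singleton_iff.1 hkb) (mul_inv_eq_iff_eq_mul.1 hc)⟩
      · rcases hd with hd | hd
        · exact (X.no_swap hk ea eb hc hd).elim
        · exact absurd (hc.trans hd.symm) h'.ncd
    · rintro ⟨hk, hkK⟩
      obtain ⟨ha, hb, -, -⟩ := X.mem_Kd.1 hkK
      exact ⟨⟨hk, mem_centralizer_singleton_iff.2 ha⟩, mem_centralizer_singleton_iff.2 hb⟩
  have n1 := Set.ncard_le_ncard o1 (Set.toFinite _)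
  have n2 := Set.ncard_le_ncard o2 (Set.toFinite _)
  rw [show X.baseTT.1.ncard = 4 from (Nat.card_coe_set_eq _).symm.trans (card_members_of_tt _)] at n1
  rw [Set.ncard_insert_of_notMem (show b ∉ ({c, d} : Set G) by simp [h.nbc, h.nbd]) (Set.toFinite _),
    Set.ncard_pair h.ncd] at n2
  have h1 := M23.card_orbit_conj_mul (Zfix X.baseTT) a
  have h2 := M23.card_orbit_conj_mul H1 b
  rw [← hH2, e2, X.card_Qg_inf] at h2
  rw [← hH1] at h1
  nlinarith [h1, h2, n1, n2]

theorem cube_mem_Qg {g : G} (hg : g ∈ Zfix X.baseTT) : g ^ 3 ∈ Qg D z := by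
  have hle := Qg_le_Zfix X.env X.baseTT
  haveI : ((Qg D z).subgroupOf (Zfix X.baseTT)).Normal :=
    ⟨fun q hq k => Qg_conj X.cls (mem_CC.1 k.2.1).2 hq⟩
  have hc : Nat.card ↥((Qg D z).subgroupOf (Zfix X.baseTT)) = 2 ^ 13 := by
    rw [Nat.card_congr (Subgroup.subgroupOfEquivOfLe hle).toEquiv, X.card_Qg]
  have h := ((Qg D z).subgroupOf (Zfix X.baseTT)).card_mul_index
  rw [hc, X.card_Zfix] at h
  have h3 : ((Qg D z).subgroupOf (Zfix X.baseTT)).index = 3 := by omega
  have hm := Subgroup.pow_index_mem ((Qg D z).subgroupOf (Zfix X.baseTT)) ⟨g, hg⟩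
  rw [h3] at hm
  exact hm

theorem exists_chart_link (u : Fin 45) :
    ∃ (F' : Type) (_ : Field F') (_ : Fintype F') (Y : Chart D z (X.member u 0) (X.member u (sc X.hF 1))
      (X.member u (sc X.hF 2)) (X.member u (sc X.hF 3)) F') (p : Fin 45),
      Y.baseTT = X.linkTT u ∧ X.baseTT = Y.linkTT p := by
  obtain ⟨F', i1, i2, ⟨Y⟩⟩ := exists_chart X.env (X.std_tet u)
  have hYb : Y.baseTT = X.linkTT u := rfl
  rcases Y.eq_link_of_linked (T := X.baseTT) (hYb ▸ (X.linked_base u).symm) with e | ⟨p, e⟩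
  · exact absurd (e.trans hYb).symm (X.linkTT_ne_base u)
  · exact ⟨F', i1, i2, Y, p, hYb, e⟩

theorem card_far_link (u : Fin 45) :
    Nat.card {T : TT D z // ¬ Linked X.baseTT T ∧ Linked (X.linkTT u) T} = 32 := by
  obtain ⟨F', i1, i2, Y, p, hYb, hp⟩ := X.exists_chart_link u
  let Φ : {q : Fin 45 // Model.perp p q = false} → {T : TT D z // ¬ Linked X.baseTT T ∧ Linked (X.linkTT u) T} :=
    fun q => ⟨Y.linkTT q.1, fun h => by
      rw [hp, Y.linked_link_iff, q.2] at h
      exact absurd h Bool.false_ne_true, hYb ▸ Y.linked_base q.1⟩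
  have hΦ : Function.Bijective Φ := by
    refine ⟨fun q r h => Subtype.ext (Y.linkTT_inj (congrArg Subtype.val h)), fun ⟨T, hT, hTu⟩ => ?_⟩
    rcases Y.eq_link_of_linked (hYb ▸ hTu) with rfl | ⟨q, rfl⟩
    · exact absurd (hYb ▸ X.linked_base u) hT
    · refine ⟨⟨q, ?_⟩, rfl⟩
      rw [hp, Y.linked_link_iff] at hT
      exact Bool.eq_false_iff.2 hT
  rw [← Nat.card_congr (Equiv.ofBijective Φ hΦ), Nat.card_eq_fintype_card, Fintype.card_subtype]
  exact Model.far_count' p

/-- The links among five pairwise linked ones to which a tetrad is linked. -/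
noncomputable def frameLinks (X : Chart D z a b c d F) (T : TT D z) : Finset (Fin 45) :=
  letI : DecidablePred fun f => Linked (X.linkTT f) T := _root_.Classical.decPred _
  Model.frame.toFinset.filter fun f => Linked (X.linkTT f) T

theorem frameLinks_le_two {T : TT D z} (hT : ¬ Linked X.baseTT T) : (X.frameLinks T).card ≤ 2 := by
  classical
  by_contra hgt
  obtain ⟨u, v, w, hu, hv, hw, huv, huw, hvw⟩ := Finset.two_lt_card_iff.1 (not_le.1 hgt)
  simp only [frameLinks, Finset.mem_filter, List.mem_toFinset] at hu hv hw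
  obtain ⟨F', i1, i2, Y, p, hYb, hp⟩ := X.exists_chart_link u
  have hperp := Model.frame_facts.2.2
  have get : ∀ T' : TT D z, Linked (X.linkTT u) T' → T' ≠ X.linkTT u → ∃ q, T' = Y.linkTT q := fun T' h hne =>
    (Y.eq_link_of_linked (hYb ▸ h)).resolve_left fun e => hne (e.trans hYb)
  obtain ⟨x, hx⟩ := get T hu.2 (fun e => hT (e ▸ X.linked_base u))
  obtain ⟨q, hq⟩ := get _ ((X.linked_link_iff u v).2 (hperp u hu.1 v hv.1)) (fun e => huv (X.linkTT_inj e).symm)
  obtain ⟨r, hr⟩ := get _ ((X.linked_link_iff u w).2 (hperp u hu.1 w hw.1)) (fun e => huw (X.linkTT_inj e).symm)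
  have hpx : Model.perp p x = false := by
    rw [Bool.eq_false_iff, ne_eq, ← Y.linked_link_iff, ← hp, ← hx]
    exact hT
  have hqr : q ≠ r := fun e => hvw (X.linkTT_inj (hq.trans (e ▸ hr.symm)))
  have hmem : ∀ {s : Fin 45} {j : Fin 45}, X.linkTT j = Y.linkTT s → Linked (X.linkTT j) T →
      s ∈ (List.finRange 45).filter fun q => Model.perp p q && Model.perp x q := fun {s j} he hl => by
    refine List.mem_filter.2 ⟨List.mem_finRange _, ?_⟩
    rw [Bool.and_eq_true, ← Y.linked_link_iff, ← Y.linked_link_iff, ← hp, ← hx, ← he]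
    exact ⟨X.linked_base j, hl.symm⟩
  have h3 := List.all_eq_true.1 ((List.all_eq_true.1 (Model.common_three p x hpx).2) q (hmem hq hv.2)) r
    (hmem hr hw.2)
  have hqr' : Model.perp q r = true := by
    rw [← Y.linked_link_iff, ← hq, ← hr, X.linked_link_iff]
    exact hperp v hv.1 w hw.1
  simp [hqr, hqr'] at h3

/-- A tetrad not linked to the base is linked to two of the five. -/
theorem frameLinks_two {T : TT D z} (hT : ¬ Linked X.baseTT T) : (X.frameLinks T).card = 2 := by
  classical
  haveI : Fintype (TT D z) := Fintype.ofFinite _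
  set S : Finset (TT D z) := Finset.univ.filter fun T => ¬ Linked X.baseTT T with hS
  have hScard : S.card = 80 := by
    rw [← X.card_far, Nat.card_eq_fintype_card, Fintype.card_subtype]
  have h32 : ∀ f : Fin 45, (S.filter fun T => Linked (X.linkTT f) T).card = 32 := fun f => by
    rw [← X.card_far_link f, Nat.card_eq_fintype_card, Fintype.card_subtype, hS, Finset.filter_filter]
  have hsum : ∑ T ∈ S, (X.frameLinks T).card = 160 := by
    rw [show ∑ T ∈ S, (X.frameLinks T).card = ∑ f ∈ Model.frame.toFinset, (S.filter fun T => Linked (X.linkTT f) T).card from ?_,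
      Finset.sum_congr rfl (fun f _ => h32 f), Finset.sum_const, List.toFinset_card_of_nodup Model.frame_facts.2.1]
    · rfl
    · simp only [frameLinks, Finset.card_filter]
      exact Finset.sum_comm
  have heq := (Finset.sum_eq_sum_iff_of_le (g := fun _ => 2) fun T hT =>
    X.frameLinks_le_two (Finset.mem_filter.1 hT).2).1 (by rw [hsum, Finset.sum_const, hScard, smul_eq_mul])
  exact heq T (Finset.mem_filter.2 ⟨Finset.mem_univ _, hT⟩)

/-- The kernel on the linked tetrads fixes every tetrad. -/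
theorem Zfix_act {g : ↥(CC z)} (hg : (g : G) ∈ Zfix X.baseTT) : actC X.cls g = 1 := by
  classical
  refine Equiv.ext fun T => ?_
  by_cases hT : Linked X.baseTT T
  · exact Subtype.ext (hg.2 T hT)
  obtain ⟨u, hu⟩ := Finset.card_pos.1 (show 0 < (X.frameLinks T).card by rw [X.frameLinks_two hT]; norm_num)
  simp only [frameLinks, Finset.mem_filter] at hu
  obtain ⟨F', i1, i2, Y, p, hYb, hp⟩ := X.exists_chart_link u
  set g' : ↥(centralizer ({z} : Set G)) := Subgroup.inclusion CC_le g with hg'
  have hfixb : ∀ S, Linked X.baseTT S → act X.cls g' S = S := fun S hS => Subtype.ext (hg.2 S hS)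
  obtain ⟨π, hπ, hπp⟩ := Y.exists_linkPerm (g := g') (by rw [hYb]; exact hfixb _ (X.linked_base u))
  obtain ⟨q, rfl⟩ : ∃ q, T = Y.linkTT q :=
    (Y.eq_link_of_linked (hYb ▸ hu.2)).resolve_left fun e => hT (e ▸ hYb ▸ X.linked_base u)
  have hperpfix : ∀ r, Model.perp p r = true → π r = r := fun r hr => by
    refine Y.linkTT_inj ((hπ r).symm.trans (hfixb _ ?_))
    rw [hp]
    exact (Y.linked_link_iff p r).2 hr
  have hcube : ∀ r, π (π (π r)) = r := fun r => by
    have h3 : act X.cls (g' ^ 3) = (1 : Equiv.Perm (TT D z)) :=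
      act_of_Qg X.hset X.cls X.env.sep (g' ^ 3) (X.cube_mem_Qg hg)
    rw [map_pow] at h3
    refine Y.linkTT_inj ?_
    rw [← hπ, ← hπ, ← hπ]
    exact Equiv.congr_fun h3 (Y.linkTT r)
  have hpq : Model.perp p q = false := by
    rw [Bool.eq_false_iff, ne_eq, ← Y.linked_link_iff, ← hp]
    exact hT
  have hfix : π q = q := by
    by_contra hne
    set L := (List.finRange 45).filter fun y => Nat.land (Model.perpRows.getD y.val 0) (Model.perpRows.getD p.val 0) ==
      Nat.land (Model.perpRows.getD q.val 0) (Model.perpRows.getD p.val 0) with hL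
    have hlen : L.length = 2 := by
      rw [hL, ← List.countP_eq_length_filter]
      exact Model.pattern_two p q hpq
    have hnd : L.Nodup := (List.nodup_finRange _).filter _
    have hmemL : ∀ y, (∀ r, Model.perp p r = true → Model.perp y r = Model.perp q r) → y ∈ L := by
      intro y hy
      refine List.mem_filter.2 ⟨List.mem_finRange _, beq_iff_eq.2 (Nat.eq_of_testBit_eq fun j => ?_)⟩
      show Nat.testBit (_ &&& _) j = Nat.testBit (_ &&& _) j
      rw [Nat.testBit_and, Nat.testBit_and]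
      by_cases hj : j < 45
      · by_cases hb : Model.perp p ⟨j, hj⟩ = true
        · exact congrArg (· && _) (hy ⟨j, hj⟩ hb)
        · rw [show (Model.perpRows.getD p.val 0).testBit j = false from Bool.eq_false_iff.2 hb]
          simp
      · rw [Nat.testBit_lt_two_pow ((Model.rowp_lt p).trans_le (Nat.pow_le_pow_right (by norm_num) (not_lt.1 hj)))]
        simp
    have hiter : ∀ y, (∀ r, Model.perp p r = true → Model.perp y r = Model.perp q r) →
        ∀ r, Model.perp p r = true → Model.perp (π y) r = Model.perp q r := fun y hy r hr => by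
      have := hπp y r
      rwa [hperpfix r hr, hy r hr] at this
    have hq1 := hiter q fun _ _ => rfl
    have h1 := hmemL q fun _ _ => rfl
    have h2 := hmemL _ hq1
    have h3 := hmemL _ (hiter _ hq1)
    obtain ⟨y₁, y₂, hLe⟩ := List.length_eq_two.1 hlen
    rw [hLe] at h1 h2 h3
    simp only [List.mem_cons, List.not_mem_nil, or_false] at h1 h2 h3
    have n1 : π (π q) ≠ π q := fun e => hne (π.injective e)
    have n2 : π (π q) ≠ q := fun e => hne (by have h' := hcube q; rwa [e] at h')
    rcases h1 with rfl | rfl <;> rcases h2 with e2 | e2 <;> rcases h3 with e3 | e3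
    all_goals first
      | exact hne e2
      | exact n2 e3
      | exact n1 (e3.trans e2.symm)
  exact (hπ q).trans (by rw [hfix]; rfl)

end Chart

end CfsgLib.FischerTetrad
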