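import Cfsg.Agent.Lib.FischerTetrad.ModelCheck

/-!
Lines of the forty-five points, and points with the same neighbours collinear with a point.
-/

set_option autoImplicit false
set_option maxRecDepth 100000

namespace CfsgLib.FischerTetrad.Model

/-- The other four points of a line through each point. -/
def lineRel : List (List ℕ) := [[15, 16, 20, 24], [15, 17, 21, 22], [15, 18, 19, 23], [12, 16, 27, 38], [12, 17, 28, 36], [12, 18, 26, 37], [9, 16, 29, 42], [9, 19, 32, 36], [9, 22, 26, 39], [6, 16, 29, 42], [6, 17, 30, 43], [6, 18, 31, 44], [3, 16, 27, 38], [3, 19, 30, 41], [3, 22, 33, 44], [0, 16, 20, 24], [0, 15, 20, 24], [1, 15, 21, 22], [2, 15, 19, 23], [2, 15, 18, 23], [0, 15, 16, 24], [1, 15, 17, 22], [1, 15, 17, 21], [2, 15, 18, 19], [0, 15, 16, 20], [0, 26, 30, 34], [0, 25, 30, 34], [1, 25, 31, 32], [2, 25, 29, 33], [2, 25, 28, 33], [0, 25, 26, 34], [1, 25, 27, 32], [1, 25, 27, 31], [2, 25, 28, 29], [0, 25, 26, 30], [0, 36, 40, 44], [0, 35, 40, 44], [1, 35, 41, 42], [2, 35, 39, 43],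 [2, 35, 38, 43], [0, 35, 36, 44], [1, 35, 37, 42], [1, 35, 37, 41], [2, 35, 38, 39], [0, 35, 36, 40]]

/-- The transvection at a point is the product of those at the other four points of a line through it. -/
theorem line_rel (p : Fin 45) : ∃ r1 r2 r3 r4, r1 ≠ p ∧ r2 ≠ p ∧ r3 ≠ p ∧ r4 ≠ p ∧ perp p r1 = true ∧
    perp p r2 = true ∧ perp p r3 = true ∧ perp p r4 = true ∧
    ∀ x, rf r1 (rf r2 (rf r3 (rf r4 x))) = rf p x := by
  have h : ∀ p : Fin 45, (fun l : List (Fin 45) => decide (p ∉ l) && l.all (fun r => perp p r) &&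
      ((List.finRange 45).all fun x => decide (rf (l.getD 0 0) (rf (l.getD 1 0) (rf (l.getD 2 0) (rf (l.getD 3 0) x)))
        = rf p x)) && decide (l.length = 4))
      ((lineRel.getD p.val []).map fun n => (⟨n % 45, Nat.mod_lt _ (by omega)⟩ : Fin 45)) = true := by
    decide +kernel
  have hp := h p
  set l := (lineRel.getD p.val []).map fun n => (⟨n % 45, Nat.mod_lt _ (by omega)⟩ : Fin 45) with hl
  simp only [Bool.and_eq_true, decide_eq_true_eq, List.all_eq_true] at hp
  obtain ⟨⟨⟨hn, hperp⟩, hrel⟩, hlen⟩ := hp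
  obtain ⟨r1, r2, r3, r4, e⟩ : ∃ r1 r2 r3 r4, l = [r1, r2, r3, r4] := by
    match l, hlen with
    | [r1, r2, r3, r4], _ => exact ⟨r1, r2, r3, r4, rfl⟩
  rw [e] at hn hperp hrel
  simp only [List.mem_cons, List.not_mem_nil, or_false, not_or] at hn
  obtain ⟨n1, n2, n3, n4⟩ := hn
  exact ⟨r1, r2, r3, r4, Ne.symm n1, Ne.symm n2, Ne.symm n3, Ne.symm n4, hperp r1 (by simp), hperp r2 (by simp),
    hperp r3 (by simp), hperp r4 (by simp), fun x => hrel x (List.mem_finRange x)⟩

/-- Three points are collinear with two which are not collinear. -/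
theorem common_three' : ∀ p x, perp p x = false →
    (Finset.univ.filter fun q : Fin 45 => perp p q = true ∧ perp x q = true).card = 3 := by decide +kernel

/-- Two rows agreeing on the neighbours of a point agree there as numbers. -/
theorem land_eq_of {p y q : Fin 45} (h : ∀ r, perp p r = true → perp y r = perp q r) :
    Nat.land (perpRows.getD y.val 0) (perpRows.getD p.val 0) =
      Nat.land (perpRows.getD q.val 0) (perpRows.getD p.val 0) := by
  refine Nat.eq_of_testBit_eq fun j => ?_
  show Nat.testBit (_ &&& _) j = Nat.testBit (_ &&& _) j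
  rw [Nat.testBit_and, Nat.testBit_and]
  by_cases hj : j < 45
  · by_cases hb : perp p ⟨j, hj⟩ = true
    · exact congrArg (· && _) (h ⟨j, hj⟩ hb)
    · rw [show (perpRows.getD p.val 0).testBit j = false from Bool.eq_false_iff.2 hb]
      simp
  · rw [Nat.testBit_lt_two_pow ((rowp_lt p).trans_le (Nat.pow_le_pow_right (by norm_num) (not_lt.1 hj)))]
    simp

end CfsgLib.FischerTetrad.Model
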