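import Cfsg.Agent.Lib.FischerTetrad.ModelCheck
import Cfsg.Agent.Lib.FischerTetrad.ChainSmall
import Cfsg.Agent.Lib.FischerTetrad.ChainBig
import Cfsg.Agent.Lib.FischerTetrad.ChainStab

/-!
The group generated by forty-five reflections of the model: faithful on 47 points, transitive on eighty.
-/

set_option autoImplicit false
set_option maxRecDepth 100000

namespace CfsgLib.FischerTetrad.Model

open CfsgLib.Comp

/-- The code of a reflection. -/
def rp (k : ℕ) : ℕ := refRows.getD k 0

/-- The image of a point under a reflection. -/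
def gk (k t : ℕ) : ℕ := PermCode.get (rp k) t

/-- The reflection at a point of the forty-five, on the 128 points. -/
noncomputable def rs (i : Fin 45) : Equiv.Perm (Fin 128) := PermCode.val 128 (rp (i.val + 1))

/-- The group they generate. -/
noncomputable def HB : Subgroup (Equiv.Perm (Fin 128)) := PermCode.span 128 wBigGens

theorem refs_ok : ∀ k : Fin 47, PermCode.okb 128 (rp k.val) = true := by decide +kernel

theorem rs_apply (i : Fin 45) (x : Fin 128) : (rs i x : ℕ) = gk (i.val + 1) x :=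
  PermCode.val_apply (PermCode.ok_of_okb (refs_ok ⟨i.val + 1, by omega⟩)) x

theorem gk_link : ∀ i j : Fin 45, gk (i.val + 1) (j.val + 1) = (rf i j).val + 1 := by decide +kernel

theorem gk_base : ∀ i : Fin 45, gk (i.val + 1) 0 = 0 ∧ gk (i.val + 1) 126 = 127 ∧ gk (i.val + 1) 127 = 126 := by
  decide +kernel

theorem gk_far : ∀ i : Fin 45, ∀ t : Fin 80, 46 ≤ gk (i.val + 1) (t.val + 46) ∧ gk (i.val + 1) (t.val + 46) < 126 := by
  decide +kernel

theorem wBig_gens : wBigGens = [6, 13, 24, 31, 41].map rp := by decide +kernel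

theorem rBig_gens : rBigGens = [1, 13, 15, 16].map rp := by decide +kernel

theorem gk_invol : ∀ i : Fin 45, ∀ x : Fin 128, gk (i.val + 1) (gk (i.val + 1) x.val) = x.val := by decide +kernel

theorem rBig_fix : ∀ i ∈ ([0, 12, 14, 15] : List (Fin 45)), i ∈ sigma0 ∧ gk (i.val + 1) 46 = 46 := by
  decide +kernel

theorem gen_cases {s : Equiv.Perm (Fin 128)} (h : ∃ p ∈ wBigGens, PermCode.val 128 p = s) : ∃ i, rs i = s := by
  obtain ⟨p, hp, rfl⟩ := h
  rw [wBig_gens] at hp
  simp only [List.map_cons, List.map_nil, List.mem_cons, List.not_mem_nil, or_false] at hp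
  rcases hp with rfl | rfl | rfl | rfl | rfl
  exacts [⟨5, rfl⟩, ⟨12, rfl⟩, ⟨23, rfl⟩, ⟨30, rfl⟩, ⟨40, rfl⟩]

theorem stab_gen_cases {s : Equiv.Perm (Fin 128)} (h : ∃ p ∈ rBigGens, PermCode.val 128 p = s) :
    ∃ i ∈ sigma0, rs i = s ∧ gk (i.val + 1) 46 = 46 := by
  obtain ⟨p, hp, rfl⟩ := h
  rw [rBig_gens] at hp
  simp only [List.map_cons, List.map_nil, List.mem_cons, List.not_mem_nil, or_false] at hp
  rcases hp with rfl | rfl | rfl | rfl
  exacts [⟨0, (rBig_fix 0 (by simp)).1, rfl, (rBig_fix 0 (by simp)).2⟩,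
    ⟨12, (rBig_fix 12 (by simp)).1, rfl, (rBig_fix 12 (by simp)).2⟩,
    ⟨14, (rBig_fix 14 (by simp)).1, rfl, (rBig_fix 14 (by simp)).2⟩,
    ⟨15, (rBig_fix 15 (by simp)).1, rfl, (rBig_fix 15 (by simp)).2⟩]

theorem rs_sift : ∀ i : Fin 45, PermCode.sift 128 wBigChain (rp (i.val + 1)) = true := by decide +kernel

theorem rs_mem (i : Fin 45) : rs i ∈ HB :=
  PermCode.mem_span wBig_check (refs_ok ⟨i.val + 1, by omega⟩) (rs_sift i)

theorem HB_le {S : Subgroup (Equiv.Perm (Fin 128))} (h : ∀ i, rs i ∈ S) : HB ≤ S :=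
  (Subgroup.closure_le S).2 fun _ hs => by
    obtain ⟨i, rfl⟩ := gen_cases hs
    exact h i

/-- The 47 points: the forty-five and the parity pair. -/
def iota (x : Fin 47) : Fin 128 :=
  if h : x.val < 45 then ⟨x.val + 1, by omega⟩ else ⟨x.val + 81, by omega⟩

theorem iota_inj : Function.Injective iota := by decide +kernel

theorem small_big : ∀ n : Fin 5, ∀ x : Fin 47, ∀ y : Fin 47,
    PermCode.get (wSmallGens.getD n.val 0) x.val = y.val →
    PermCode.get (wBigGens.getD n.val 0) (iota x).val = (iota y).val := by decide +kernel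

theorem small_ok : wSmallGens.length = 5 ∧ wBigGens.length = 5 ∧
    (∀ n : Fin 5, PermCode.okb 47 (wSmallGens.getD n.val 0) = true) ∧
    ∀ n : Fin 5, PermCode.okb 128 (wBigGens.getD n.val 0) = true := by decide +kernel

theorem small_val (n : Fin 5) (x : Fin 47) : PermCode.val 128 (wBigGens.getD n.val 0) (iota x) =
    iota (PermCode.val 47 (wSmallGens.getD n.val 0) x) := by
  refine Fin.ext ?_
  rw [PermCode.val_apply (PermCode.ok_of_okb (small_ok.2.2.2 n))]
  exact small_big n x _ (PermCode.val_apply (PermCode.ok_of_okb (small_ok.2.2.1 n)) x).symm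

theorem mem_getD {L : List ℕ} (hL : L.length = 5) {p : ℕ} (hp : p ∈ L) : ∃ n : Fin 5, L.getD n.val 0 = p := by
  obtain ⟨n, hn, rfl⟩ := List.mem_iff_getElem.1 hp
  exact ⟨⟨n, by omega⟩, by simp [List.getD, hn]⟩

/-- An element fixing the 47 points is trivial. -/
theorem eq_one_of_fix {h : Equiv.Perm (Fin 128)} (hh : h ∈ HB) (hfix : ∀ x, h (iota x) = iota x) : h = 1 := by
  have hex : ∀ g : HB, ∃ σ : Equiv.Perm (Fin 47), σ ∈ PermCode.span 47 wSmallGens ∧
      ∀ x, g.1 (iota x) = iota (σ x) := by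
    rintro ⟨g, hg⟩
    refine Subgroup.closure_induction (fun s hs => ?_) ⟨1, one_mem _, fun x => rfl⟩
      (fun p q _ _ ⟨σ, h1, e1⟩ ⟨τ, h2, e2⟩ => ⟨σ * τ, mul_mem h1 h2, fun x => by
        rw [Equiv.Perm.mul_apply, e2, e1, Equiv.Perm.mul_apply]⟩)
      (fun p _ ⟨σ, h1, e1⟩ => ⟨σ⁻¹, inv_mem h1, fun x => by
        have := e1 (σ⁻¹ x)
        rw [← Equiv.Perm.mul_apply σ, mul_inv_cancel, Equiv.Perm.one_apply] at this
        rw [← this]
        exact p.symm_apply_apply _⟩) hg
    obtain ⟨p, hp, rfl⟩ := hs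
    obtain ⟨n, rfl⟩ := mem_getD small_ok.2.1 hp
    refine ⟨_, PermCode.one_le 47 wSmallGens (s := wSmallGens.getD n.val 0) ?_, small_val n⟩
    have hn : n.val < wSmallGens.length := by rw [small_ok.1]; exact n.2
    rw [show wSmallGens.getD n.val 0 = wSmallGens[n.val] from by simp [List.getD, hn]]
    exact List.getElem_mem hn
  choose res hres hrese using hex
  let R : HB →* Equiv.Perm (Fin 47) := MonoidHom.mk' res fun g g' => Equiv.ext fun x => iota_inj (by
    rw [← hrese, Subgroup.coe_mul, Equiv.Perm.mul_apply, hrese, hrese]; rfl)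
  have hrange : R.range = PermCode.span 47 wSmallGens := by
    refine le_antisymm ?_ ((Subgroup.closure_le _).2 ?_)
    · rintro _ ⟨g, rfl⟩
      exact hres g
    · rintro _ ⟨p, hp, rfl⟩
      obtain ⟨n, rfl⟩ := mem_getD small_ok.1 hp
      have hn : n.val < wBigGens.length := by rw [small_ok.2.1]; exact n.2
      have hmem : PermCode.val 128 (wBigGens.getD n.val 0) ∈ HB := by
        refine PermCode.one_le 128 wBigGens ?_
        rw [show wBigGens.getD n.val 0 = wBigGens[n.val] from by simp [List.getD, hn]]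
        exact List.getElem_mem hn
      exact ⟨⟨_, hmem⟩, Equiv.ext fun x => iota_inj ((hrese ⟨_, hmem⟩ x).symm.trans (small_val n x))⟩
  have hker : Nat.card R.ker = 1 := by
    have h := R.ker.card_mul_index
    rw [Subgroup.index_ker, hrange, wSmall_card] at h
    have hH : Nat.card ↥HB = 51840 := wBig_card
    rw [hH] at h
    omega
  have hm : (⟨h, hh⟩ : HB) ∈ R.ker :=
    MonoidHom.mem_ker.2 (Equiv.ext fun x => iota_inj ((hrese ⟨h, hh⟩ x).symm.trans (hfix x)))
  rw [Subgroup.card_eq_one.1 hker, Subgroup.mem_bot] at hm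
  exact congrArg Subtype.val hm

/-- One round of the orbit. -/
def reachStep (s : List ℕ) : List ℕ :=
  (List.range 128).filter fun t => s.contains t || (List.range 45).any fun i => s.any fun x => gk (i + 1) x == t

theorem reach_all : ∀ t : Fin 80, (reachStep (reachStep (reachStep [46]))).contains (t.val + 46) = true := by
  decide +kernel

theorem reach_step {s : List ℕ} (hs : ∀ t ∈ s, ∃ h ∈ HB, (h 46 : Fin 128).val = t) :
    ∀ t ∈ reachStep s, ∃ h ∈ HB, (h 46 : Fin 128).val = t := by
  intro t ht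
  simp only [reachStep, List.mem_filter, List.mem_range, Bool.or_eq_true, List.contains_eq_mem,
    decide_eq_true_eq, List.any_eq_true, beq_iff_eq] at ht
  rcases ht.2 with h | ⟨i, hi, x, hx, rfl⟩
  · exact hs t h
  · obtain ⟨h, hh, rfl⟩ := hs x hx
    exact ⟨rs ⟨i, hi⟩ * h, mul_mem (rs_mem _) hh, rs_apply _ _⟩

/-- The eighty points form one orbit. -/
theorem orbit_far (t : Fin 128) (h1 : 46 ≤ t.val) (h2 : t.val < 126) : ∃ h ∈ HB, h 46 = t := by
  have h3 := reach_all ⟨t.val - 46, by omega⟩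
  rw [show (t.val - 46) + 46 = t.val by omega, List.contains_eq_mem, decide_eq_true_eq] at h3
  obtain ⟨h, hh, e⟩ := reach_step (reach_step (reach_step (s := [46]) (fun t ht => by
    rw [List.mem_singleton.1 ht]; exact ⟨1, one_mem _, rfl⟩))) _ h3
  exact ⟨h, hh, Fin.ext e⟩

/-- The eighty points are preserved. -/
theorem HB_far {h : Equiv.Perm (Fin 128)} (hh : h ∈ HB) (t : Fin 128) (h1 : 46 ≤ t.val) (h2 : t.val < 126) :
    46 ≤ (h t).val ∧ (h t).val < 126 := by
  have hstep : ∀ i, ∀ t : Fin 128, 46 ≤ t.val ∧ t.val < 126 → 46 ≤ (rs i t).val ∧ (rs i t).val < 126 := by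
    intro i t ht
    have h := gk_far i ⟨t.val - 46, by omega⟩
    rw [show (t.val - 46) + 46 = t.val by omega] at h
    rwa [rs_apply]
  suffices H : ∀ t : Fin 128, 46 ≤ t.val ∧ t.val < 126 → 46 ≤ (h t).val ∧ (h t).val < 126 from H t ⟨h1, h2⟩
  refine Subgroup.closure_induction'' (p := fun g _ => ∀ t : Fin 128, 46 ≤ t.val ∧ t.val < 126 →
    46 ≤ (g t).val ∧ (g t).val < 126) (fun s hs => ?_) (fun s hs => ?_) (fun t ht => ht)
    (fun p q _ _ hp hq t ht => hp (q t) (hq t ht)) hh
  · obtain ⟨i, rfl⟩ := gen_cases hs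
    exact hstep i
  · obtain ⟨i, rfl⟩ := gen_cases hs
    have hinv : (rs i)⁻¹ = rs i := inv_eq_of_mul_eq_one_right (Equiv.ext fun x => Fin.ext (by
      rw [Equiv.Perm.mul_apply, rs_apply, rs_apply, gk_invol i x]; rfl))
    rw [hinv]
    exact hstep i

/-- The stabiliser of the standard far point is generated by four reflections. -/
theorem stab_le {h : Equiv.Perm (Fin 128)} (hh : h ∈ HB) (hfix : h 46 = 46) :
    h ∈ PermCode.span 128 rBigGens := by
  set S := (MulAction.stabilizer HB (46 : Fin 128)).map HB.subtype with hS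
  have hr : PermCode.span 128 rBigGens ≤ S := (Subgroup.closure_le _).2 fun s hs => by
    obtain ⟨i, -, rfl, hi⟩ := stab_gen_cases hs
    exact ⟨⟨rs i, rs_mem i⟩, MulAction.mem_stabilizer_iff.2 (Fin.ext ((rs_apply i 46).trans hi)), rfl⟩
  have horb : 80 ≤ (MulAction.orbit HB (46 : Fin 128)).ncard := by
    let f : Fin 80 → Fin 128 := fun t => ⟨t.val + 46, by omega⟩
    have hsub : Set.range f ⊆ MulAction.orbit HB (46 : Fin 128) := by
      rintro _ ⟨t, rfl⟩
      obtain ⟨h, hh, e⟩ := orbit_far (f t) (Nat.le_add_left _ _) (show t.val + 46 < 126 by omega)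
      exact ⟨⟨h, hh⟩, e⟩
    refine le_trans (le_of_eq ?_) (Set.ncard_le_ncard hsub (Set.toFinite _))
    rw [Set.ncard_range_of_injective fun s t e => Fin.ext (by simpa [f] using congrArg Fin.val e), Nat.card_eq_fintype_card, Fintype.card_fin]
  have hcard : Nat.card S ≤ 648 := by
    rw [hS, ← Nat.card_congr (Subgroup.equivMapOfInjective _ HB.subtype HB.subtype_injective).toEquiv]
    have h1 := (MulAction.stabilizer HB (46 : Fin 128)).card_mul_index
    have hH : Nat.card ↥HB = 51840 := wBig_card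
    rw [MulAction.index_stabilizer, hH] at h1
    nlinarith [h1, horb]
  rw [Subgroup.eq_of_le_of_card_ge hr (by rw [rBig_card]; exact hcard)]
  exact ⟨⟨h, hh⟩, MulAction.mem_stabilizer_iff.2 hfix, rfl⟩

theorem far_sigma : ∀ t : Fin 80, (∀ i : Fin 45, (gk (i.val + 1) (t.val + 46) == t.val + 46) = sigma0.contains i) →
    t.val + 46 = 46 ∨ t.val + 46 = gk 0 46 := by decide +kernel

theorem gk_zero_comm : ∀ i : Fin 45, ∀ t : Fin 126, gk 0 (gk (i.val + 1) t.val) = gk (i.val + 1) (gk 0 t.val) := by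
  decide +kernel

theorem gk_zero_near : ∀ t : Fin 46, gk 0 t.val = t.val := by decide +kernel

theorem gk_zero_far : ∀ t : Fin 80, 46 ≤ gk 0 (t.val + 46) ∧ gk 0 (t.val + 46) < 126 := by decide +kernel

theorem gk_lt : ∀ k : Fin 47, ∀ t : Fin 126, gk k.val t.val < 126 := by decide +kernel

theorem x0_base : gk 46 0 = gk 0 46 ∧ gk 46 46 = 46 ∧ ∀ t : Fin 126, gk 46 (gk 46 t.val) = t.val := by
  decide +kernel

theorem x0_link : ∀ u : Fin 45, gk 46 (u.val + 1) = if u ∈ sigma0 then u.val + 1 else gk (u.val + 1) 46 := by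
  decide +kernel

/-- The points where the reflection at the standard far point is known at first. -/
def known0 : List ℕ :=
  0 :: 46 :: gk 46 0 :: ((List.range 45).map (fun u => u + 1) ++ (List.range 45).map (fun u => gk 46 (u + 1)))

/-- One step of the derivation is valid. -/
def stepOk (known : List ℕ) (e : ℕ × ℕ × ℕ) : Bool :=
  known.contains e.2.2 &&
    (if h : e.2.1 < 45 then
      (e.1 == gk (e.2.1 + 1) e.2.2) &&
        (if sigma0.contains (⟨e.2.1, h⟩ : Fin 45) then gk 46 e.1 == gk (e.2.1 + 1) (gk 46 e.2.2)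
         else known.contains (gk (e.2.1 + 1) (gk 46 e.2.2)) &&
          (gk 46 e.1 == gk (e.2.1 + 1) (gk 46 (gk (e.2.1 + 1) (gk 46 e.2.2)))))
     else e.1 == gk 46 e.2.2)

/-- The derivation is valid. -/
def chainOk : List (ℕ × ℕ × ℕ) → List ℕ → Bool
  | [], _ => true
  | e :: l, known => stepOk known e && chainOk l (e.1 :: known)

theorem derivation_ok : chainOk derivation known0 = true := by decide +kernel

theorem derivation_cover : ∀ t : Fin 126, (known0 ++ derivation.map Prod.fst).contains t.val = true := by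
  decide +kernel

end CfsgLib.FischerTetrad.Model
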