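import Cfsg.Agent.Lib.FischerTetrad.Count
import Cfsg.Agent.Lib.LargeXS.OfCommutators

/-!
The centraliser of the product in the derived group, and the extraspecial group generated by the pairs.
-/

set_option autoImplicit false
set_option linter.unusedSectionVars false

namespace CfsgLib.FischerTetrad

open Subgroup CfsgLib.Classical.Herm HermSpace
open CfsgLib.ThreeTrans (link mul_self inv_eq braid conj_self_of_commute commute_conj_iff')
open CfsgLib.FischerType CfsgLib.FischerInvol CfsgLib.FischerTriple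
open CfsgLib.FischerOrder

variable {G : Type*} [Group G] {D : Set G} {z a b c d : G}

/-- The members centralising the product. -/
def members (D : Set G) (z : G) : Set G := {x | x ∈ D ∧ Commute x z}

/-- The centraliser of the product in the derived group. -/
def CC (z : G) : Subgroup G := _root_.commutator G ⊓ centralizer ({z} : Set G)

theorem mem_CC {g : G} : g ∈ CC z ↔ g ∈ _root_.commutator G ∧ Commute g z := by
  show g ∈ _root_.commutator G ∧ g ∈ centralizer ({z} : Set G) ↔ _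
  rw [mem_centralizer_singleton_iff]
  rfl

theorem Qg_le_CC (hc : Cfsg.IsThreeTranspositionClass D) : Qg D z ≤ CC z :=
  le_inf (Qg_le_commutator hc) (Qg_le_centralizer hc)

/-- A pair product from a member far from the tetrad moves one member to another. -/
theorem pair_conj (hset : Cfsg.IsThreeTranspositionSet D) {x : G} (h : Tet D z a b c d) (hx : x ∈ D)
    (hxz : Commute x z) (hxa : ¬ Commute x a) :
    x * cj a b x * a * (x * cj a b x)⁻¹ = b := by
  have hxb := (h.commute_none hset hx hxz hxa).1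
  have ha2 := mul_self hset h.ma
  have hx2 := mul_self hset hx
  have ia := inv_eq hset h.ma
  have ib := inv_eq hset h.mb
  have ix := inv_eq hset hx
  have e1 : (a * b)⁻¹ * a * (a * b) = a := by
    have : Commute (a * b)⁻¹ a := ((Commute.refl a).mul_left h.cab.symm).inv_left
    rw [this.eq, mul_assoc, inv_mul_cancel, mul_one]
  calc x * cj a b x * a * (x * cj a b x)⁻¹
      = x * (a * b * (x * ((a * b)⁻¹ * a * (a * b)) * x⁻¹) * (a * b)⁻¹) * x⁻¹ := by unfold cj; group
    _ = x * (a * b * (a * x * a) * (b⁻¹ * a⁻¹)) * x⁻¹ := by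
      rw [e1, mul_inv_rev, ix, braid hset hx h.ma hxa]
    _ = x * ((b * (a * a)) * x * ((a * b) * a)) * x := by
      rw [ia, ib, ix]; nth_rewrite 1 [h.cab.eq]; simp only [mul_assoc]
    _ = x * (b * x * b) * x := by
      rw [ha2, mul_one, h.cab.eq, mul_assoc b a a, ha2, mul_one]
    _ = (x * x) * b * (x * x) := by rw [← braid hset hx h.mb hxb]; simp only [mul_assoc]
    _ = b := by rw [hx2, one_mul, mul_one]

/-- Two elements acting inside the four-group commute there. -/
theorem Kl.comm {p q : G} (hp : Kl p a b c d) (hq : Kl q a b c d) {x : G} (hx : x ∈ ({a, b, c, d} : Set G)) :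
    p * q * x * (p * q)⁻¹ = q * p * x * (q * p)⁻¹ ∧ p * p * x * (p * p)⁻¹ = x := by
  have e : ∀ r s : G, r * s * x * (r * s)⁻¹ = r * (s * x * s⁻¹) * r⁻¹ := fun r s => by group
  rw [e, e, e]
  rcases hx with rfl | rfl | rfl | rfl <;>
  rcases hp with ⟨p1, p2, p3, p4⟩ | ⟨p1, p2, p3, p4⟩ | ⟨p1, p2, p3, p4⟩ | ⟨p1, p2, p3, p4⟩ <;>
    rcases hq with ⟨q1, q2, q3, q4⟩ | ⟨q1, q2, q3, q4⟩ | ⟨q1, q2, q3, q4⟩ | ⟨q1, q2, q3, q4⟩ <;>
    simp only [p1, p2, p3, p4, q1, q2, q3, q4, and_self]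

variable [Finite G]

/-- Any two tetrads with an order on each are conjugate in the derived centraliser. -/
theorem Env.exists_move (E : Env D) {p q r s p' q' r' s' : G} (h : Tet D z p q r s)
    (h' : Tet D z p' q' r' s') :
    ∃ g ∈ CC z, g * p * g⁻¹ = p' ∧ g * q * g⁻¹ = q' ∧ g * r * g⁻¹ = r' ∧ g * s * g⁻¹ = s' := by
  obtain ⟨g, hg⟩ := E.trans _ _ h.com h.nodup rfl h'.com h'.nodup rfl
  simp only [List.map_cons, List.map_nil, List.cons.injEq, and_true] at hg
  obtain ⟨g1, g2, g3, g4⟩ := hg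
  have hgz : Commute g z := by
    refine mul_inv_eq_iff_eq_mul.1 ?_
    rw [← h.prod, show g * (p * q * r * s) * g⁻¹ =
      g * p * g⁻¹ * (g * q * g⁻¹) * (g * r * g⁻¹) * (g * s * g⁻¹) by group, g1, g2, g3, g4, h'.prod, h.prod]
  rcases mem_or_mul_mem E.S.cls h.ma g with hL | hL
  · exact ⟨g, mem_CC.2 ⟨hL, hgz⟩, g1, g2, g3, g4⟩
  · have e : ∀ {y}, Commute p y → g * p * y * (g * p)⁻¹ = g * y * g⁻¹ := fun {y} hy => by
      rw [show g * p * y * (g * p)⁻¹ = g * (p * y * p⁻¹) * g⁻¹ by group, conj_self_of_commute hy]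
    exact ⟨g * p, mem_CC.2 ⟨hL, hgz.mul_left h.comm_z.1⟩, (e (Commute.refl p)).trans g1,
      (e h.cab).trans g2, (e h.cac).trans g3, (e h.cad).trans g4⟩

/-- The product is neither trivial nor moved by its factors. -/
theorem Env.z_ne_one (E : Env D) (h : Tet D z a b c d) : z ≠ 1 := by
  intro e
  refine E.prod_ne (A := []) (B := [a, b, c, d]) Com.nil List.nodup_nil h.com h.nodup (by simp) (by simp) ?_
  rw [h.list_prod, e]
  rfl

theorem card_members_of_tt (T : TT D z) : Nat.card T.1 = 4 := by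
  obtain ⟨p, q, r, s, hT, e⟩ := T.2
  rw [Nat.card_coe_set_eq, e, Set.ncard_insert_of_notMem (by simp [hT.nab, hT.nac, hT.nad]) (Set.toFinite _),
    Set.ncard_insert_of_notMem (by simp [hT.nbc, hT.nbd]) (Set.toFinite _), Set.ncard_pair hT.ncd]

namespace Chart

variable {F : Type} [Field F] [Fintype F] (X : Chart D z a b c d F)

include X

theorem ncard_members : (members D z).ncard = 504 := by
  let Φ : (Σ T : TT D z, T.1) → members D z := fun p => ⟨p.2.1, p.1.mem_D p.2.2⟩
  have hΦ : Function.Bijective Φ := by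
    refine ⟨?_, fun ⟨x, hx⟩ => ?_⟩
    · rintro ⟨T, x, hx⟩ ⟨T', x', hx'⟩ h
      obtain rfl : x = x' := congrArg Subtype.val h
      obtain rfl : T = T' := TT.eq_of_mem X.hset X.env.sep hx hx'
      rfl
    · obtain ⟨T, hT⟩ := X.exists_tt hx.1 hx.2
      exact ⟨⟨T, x, hT⟩, rfl⟩
  haveI : Fintype (TT D z) := Fintype.ofFinite _
  have h := Nat.card_congr (Equiv.ofBijective Φ hΦ)
  rw [Nat.card_sigma, Finset.sum_congr rfl (fun T _ => card_members_of_tt T), Finset.sum_const,
    Finset.card_univ, ← Nat.card_eq_fintype_card, X.card_TT, Nat.card_coe_set_eq, smul_eq_mul] at h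
  exact h.symm

theorem mem_Kd_of_three {k : G} (hk : Commute k z) (ha : Commute k a) (hb : Commute k b) (hc : Commute k c) :
    k ∈ X.Kd := by
  refine X.mem_Kd.2 ⟨ha, hb, hc, ?_⟩
  have e : d = (a * b * c)⁻¹ * z := by rw [← X.tet.prod, inv_mul_cancel_left]
  rw [e]
  exact ((ha.mul_right hb).mul_right hc).inv_right.mul_right hk

theorem a_mem_Kd : a ∈ X.Kd :=
  X.mem_Kd.2 ⟨Commute.refl a, X.tet.cab, X.tet.cac, X.tet.cad⟩

theorem card_CKd : Nat.card ↥(_root_.commutator G ⊓ X.Kd) = 53084160 := by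
  have hset := X.hset
  let f : ↥(_root_.commutator G ⊓ X.Kd) × Bool → X.Kd := fun p =>
    ⟨p.1.1 * bp a p.2, mul_mem p.1.2.2 (by cases p.2 <;> [exact one_mem _; exact X.a_mem_Kd])⟩
  have ha2 := mul_self hset X.tet.ma
  have hf : Function.Bijective f := by
    refine ⟨?_, fun k => ?_⟩
    · rintro ⟨p, i⟩ ⟨q, j⟩ h
      have h' := congrArg (Subtype.val : X.Kd → G) h
      cases i <;> cases j <;> simp [f, bp] at h'
      · rw [h']
      · refine absurd ?_ (X.not_mem_L X.tet.ma)
        have := (_root_.commutator G).mul_mem ((_root_.commutator G).inv_mem q.2.1) p.2.1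
        rwa [h', inv_mul_cancel_left] at this
      · refine absurd ?_ (X.not_mem_L X.tet.ma)
        have := (_root_.commutator G).mul_mem ((_root_.commutator G).inv_mem p.2.1) q.2.1
        rwa [← h', inv_mul_cancel_left] at this
      · rw [h']
    · rcases mem_or_mul_mem X.cls X.tet.ma (k : G) with h | h
      · exact ⟨(⟨k, h, k.2⟩, false), Subtype.ext (by simp [f, bp])⟩
      · exact ⟨(⟨_, h, mul_mem k.2 X.a_mem_Kd⟩, true), Subtype.ext (by simp [f, bp, mul_assoc, ha2])⟩
  have h := Nat.card_congr (Equiv.ofBijective f hf)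
  rw [Nat.card_prod, X.card_Kd, Nat.card_eq_fintype_card (α := Bool), Fintype.card_bool] at h
  omega

/-- The centraliser of the product in the derived group has order `2 ^ 13 * 3 * 6531840`. -/
theorem card_CC : Nat.card ↥(CC z) = 24576 * 6531840 := by
  have E := X.env
  have h := X.tet
  have hset := X.hset
  have hconj : ∀ {k : G}, k ∈ CC z → ∀ {p q r s}, Tet D z p q r s →
      Tet D z (k * p * k⁻¹) (k * q * k⁻¹) (k * r * k⁻¹) (k * s * k⁻¹) := fun hk _ _ _ _ hp =>
    hp.conj_of_commute X.cls (mem_CC.1 hk).2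
  have o1 : {y | ∃ k ∈ CC z, k * a * k⁻¹ = y} = members D z := by
    ext y
    constructor
    · rintro ⟨k, hk, rfl⟩
      exact ⟨(hconj hk h).ma, (hconj hk h).comm_z.1⟩
    · intro hy
      obtain ⟨T, hT⟩ := X.exists_tt hy.1 hy.2
      obtain ⟨p, q, r, h', -⟩ := T.exists_first hT
      obtain ⟨g, hg, e, -⟩ := E.exists_move h h'
      exact ⟨g, hg, e⟩
  set H1 := CC z ⊓ centralizer ({a} : Set G) with hH1
  set H2 := H1 ⊓ centralizer ({b} : Set G) with hH2
  have o2 : {y | ∃ k ∈ H1, k * b * k⁻¹ = y} = {b, c, d} := by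
    ext y
    constructor
    · rintro ⟨k, ⟨hk, hka⟩, rfl⟩
      have h' := hconj hk h
      rw [conj_self_of_commute (mem_centralizer_singleton_iff.1 hka)] at h'
      exact h.subset_of_common hset E.sep h'
    · intro hy
      have key : ∀ {q r s}, Tet D z a q r s → ∃ k ∈ H1, k * b * k⁻¹ = q := fun h' => by
        obtain ⟨g, hg, ea, eb, -⟩ := E.exists_move h h'
        exact ⟨g, ⟨hg, mem_centralizer_singleton_iff.2 (mul_inv_eq_iff_eq_mul.1 ea)⟩, eb⟩
      rcases hy with rfl | rfl | rfl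
      exacts [key h, key h.swap', key h.swap''.swap']
  have o3 : {y | ∃ k ∈ H2, k * c * k⁻¹ = y} = {c, d} := by
    ext y
    constructor
    · rintro ⟨k, ⟨⟨hk, hka⟩, hkb⟩, rfl⟩
      have h' := hconj hk h
      rw [conj_self_of_commute (mem_centralizer_singleton_iff.1 hka),
        conj_self_of_commute (mem_centralizer_singleton_iff.1 hkb)] at h'
      exact (h.subset_of_common hset E.sep h'.swap').resolve_left h'.nbc.symm
    · intro hy
      have key : ∀ {r s}, Tet D z a b r s → ∃ k ∈ H2, k * c * k⁻¹ = r := fun h' => by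
        obtain ⟨g, hg, ea, eb, ec, -⟩ := E.exists_move h h'
        exact ⟨g, ⟨⟨hg, mem_centralizer_singleton_iff.2 (mul_inv_eq_iff_eq_mul.1 ea)⟩,
          mem_centralizer_singleton_iff.2 (mul_inv_eq_iff_eq_mul.1 eb)⟩, ec⟩
      rcases hy with rfl | rfl
      exacts [key h, key h.swap'']
  have e3 : H2 ⊓ centralizer ({c} : Set G) = _root_.commutator G ⊓ X.Kd := by
    ext k
    constructor
    · rintro ⟨⟨⟨hk, ha⟩, hb⟩, hc⟩
      exact ⟨(mem_CC.1 hk).1, X.mem_Kd_of_three (mem_CC.1 hk).2 (mem_centralizer_singleton_iff.1 ha)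
        (mem_centralizer_singleton_iff.1 hb) (mem_centralizer_singleton_iff.1 hc)⟩
    · rintro ⟨hL, hk⟩
      obtain ⟨ha, hb, hc, -⟩ := X.mem_Kd.1 hk
      exact ⟨⟨⟨mem_CC.2 ⟨hL, X.Kd_comm_z hk⟩, mem_centralizer_singleton_iff.2 ha⟩,
        mem_centralizer_singleton_iff.2 hb⟩, mem_centralizer_singleton_iff.2 hc⟩
  have n2 : ({b, c, d} : Set G).ncard = 3 := by
    rw [Set.ncard_insert_of_notMem (by simp [h.nbc, h.nbd]) (Set.toFinite _), Set.ncard_pair h.ncd]
  have h1 := M23.card_orbit_conj_mul (CC z) a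
  have h2 := M23.card_orbit_conj_mul H1 b
  have h3 := M23.card_orbit_conj_mul H2 c
  rw [o1, X.ncard_members] at h1
  rw [o2, n2] at h2
  rw [o3, Set.ncard_pair h.ncd, e3, X.card_CKd] at h3
  rw [← hH1] at h1
  rw [← hH2] at h2
  omega

theorem exists_far : ∃ x, x ∈ D ∧ Commute x z ∧ ¬ Commute x a := by
  obtain ⟨x, hx⟩ := Set.nonempty_of_ncard_ne_zero
    (show (farSet D z a).ncard ≠ 0 by rw [X.ncard_farSet]; norm_num)
  exact ⟨x, hx⟩

/-- The pair subgroup has order `2 ^ 13`. -/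
theorem card_Qg : Nat.card ↥(Qg D z) = 2 ^ 13 := by
  have h := X.tet
  have hset := X.hset
  obtain ⟨x, hx, hxz, hxa⟩ := X.exists_far
  have hkl : ∀ {q}, q ∈ Qg D z → Kl q a b c d := fun hq => Qg_kl hset X.cls X.env.sep hq h
  have o1 : {y | ∃ k ∈ Qg D z, k * a * k⁻¹ = y} = ({a, b, c, d} : Set G) := by
    ext y
    constructor
    · rintro ⟨k, hk, rfl⟩
      have e := (hkl hk).image
      rw [← e]
      exact ⟨a, Or.inl rfl, rfl⟩
    · have key : ∀ {p q r}, Tet D z a p q r → ∃ k ∈ Qg D z, k * a * k⁻¹ = p := fun h' =>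
        ⟨_, pair_mem (h'.far_tet hset X.cls hx hxz hxa), pair_conj hset h' hx hxz hxa⟩
      rintro (rfl | rfl | rfl | rfl)
      exacts [⟨1, one_mem _, by simp⟩, key h, key h.swap', key h.swap''.swap']
  have e1 : Qg D z ⊓ centralizer ({a} : Set G) = Qg D z ⊓ X.Kd := by
    ext k
    constructor
    · rintro ⟨hk, hka⟩
      have ea := conj_self_of_commute (mem_centralizer_singleton_iff.1 hka)
      rcases hkl hk with ⟨-, q2, q3, q4⟩ | ⟨q1, -⟩ | ⟨q1, -⟩ | ⟨q1, -⟩
      · exact ⟨hk, X.mem_Kd.2 ⟨mem_centralizer_singleton_iff.1 hka, mul_inv_eq_iff_eq_mul.1 q2,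
          mul_inv_eq_iff_eq_mul.1 q3, mul_inv_eq_iff_eq_mul.1 q4⟩⟩
      · exact absurd (ea.symm.trans q1) h.nab
      · exact absurd (ea.symm.trans q1) h.nac
      · exact absurd (ea.symm.trans q1) h.nad
    · rintro ⟨hk, hkK⟩
      exact ⟨hk, mem_centralizer_singleton_iff.2 (X.mem_Kd.1 hkK).1⟩
  have h1 := M23.card_orbit_conj_mul (Qg D z) a
  rw [o1, e1, X.card_Qg_inf, Set.ncard_insert_of_notMem (by simp [h.nab, h.nac, h.nad]) (Set.toFinite _),
    Set.ncard_insert_of_notMem (by simp [h.nbc, h.nbd]) (Set.toFinite _), Set.ncard_pair h.ncd] at h1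
  omega

theorem xv_orth {u : Fin 4 → F} (h : ∀ i, (stdHerm X.hF 4).h (xv X.hF i) u = 0) : u = 0 := by
  obtain ⟨n, h0, h1, h2, h3⟩ := Model.dec4_surj ((iotaEquiv X.hF).symm (u 0)) ((iotaEquiv X.hF).symm (u 1))
    ((iotaEquiv X.hF).symm (u 2)) ((iotaEquiv X.hF).symm (u 3))
  have e : u = fun k => iotaEquiv X.hF (Model.dec4 n.val k) := by
    funext k
    fin_cases k <;> simp [h0, h1, h2, h3]
  have hn : ∀ i, Model.hK (Model.gv i) (Model.dec4 n.val) = 0 := fun i => by
    have := h i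
    rw [e] at this
    change (stdHerm X.hF 4).h (fun k => iotaEquiv X.hF (Model.gv i k))
      (fun k => iotaEquiv X.hF (Model.dec4 n.val k)) = 0 at this
    rw [h_map, map_eq_zero_iff _ (iotaEquiv X.hF).injective] at this
    exact this
  rw [e]
  funext k
  rw [Model.orth_zero n hn k, map_zero]
  rfl

/-- Only the product itself fixes every member. -/
theorem eq_one_or_z_of_fix {g : G} (_hgz : Commute g z) (h : ∀ x ∈ members D z, Commute g x) :
    g = 1 ∨ g = z := by
  have hset := X.hset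
  have hmem : ∀ {x}, x ∈ X.baseTT.1 → x ∈ members D z := fun hx => X.baseTT.mem_D hx
  obtain ⟨m1, m2, m3, m4⟩ := X.tet.mem_tt
  have hK : g ∈ X.Kd := X.mem_Kd.2 ⟨h a (hmem m1), h b (hmem m2), h c (hmem m3), h d (hmem m4)⟩
  have hfix : ∀ i l, g * X.member i l * g⁻¹ = X.member i l := fun i l =>
    conj_self_of_commute (h _ (TT.mem_D (X.linkTT i) (X.mem_linkTT.2 ⟨l, rfl⟩)))
  obtain ⟨u, hu⟩ := X.exists_par ⟨g, hK⟩ (X.rho_eq_one_of_fix _ fun i => ⟨0, 0, hfix i 0⟩)
  have hu0 : u = 0 := X.xv_orth fun i => by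
    have := (X.member_inj ((Par.conj_member X hu i 0).symm.trans (hfix i 0))).2
    rwa [zero_add] at this
  subst hu0
  obtain ⟨⟨i, j, k⟩, m, hg⟩ : ∃ i m, pr3 a b c i * bp d m = g := by
    rcases Par.zero_mem X hu with h' | h' <;> obtain ⟨i, hi⟩ := (mem_closure_three hset X.tet.tri).1 h'
    · exact ⟨i, false, by simp [bp, hi]⟩
    · refine ⟨i, true, ?_⟩
      show pr3 a b c i * d = g
      rw [hi, mul_assoc, mul_self hset X.tet.md, mul_one]
  obtain ⟨x, hx, hxz, hxa⟩ := X.exists_far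
  obtain ⟨nb, nc, nd⟩ := X.tet.commute_none hset hx hxz hxa
  set s : List G := (if i then [a] else []) ++ (if j then [b] else []) ++ (if k then [c] else []) ++
    (if m then [d] else []) with hs
  have hp : s.prod = g := by
    rw [← hg]
    cases i <;> cases j <;> cases k <;> cases m <;> simp [hs, pr3, bp, mul_assoc]
  by_cases hall : i = true ∧ j = true ∧ k = true ∧ m = true
  · obtain ⟨rfl, rfl, rfl, rfl⟩ := hall
    refine Or.inr ?_
    rw [← hg, ← X.tet.prod]
    rfl
  by_cases hnone : s = []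
  · exact Or.inl (by rw [← hp, hnone]; rfl)
  exfalso
  have hsub : ∀ y ∈ s, y ∈ [a, b, c, d] := by
    cases i <;> cases j <;> cases k <;> cases m <;> simp [hs]
  have hlen : s.length ≤ 3 := by
    cases i <;> cases j <;> cases k <;> cases m <;> simp [hs] at hall ⊢
  have hnd : s.Nodup := by
    have h' := X.tet
    cases i <;> cases j <;> cases k <;> cases m <;>
      simp [hs, h'.nab, h'.nac, h'.nad, h'.nbc, h'.nbd, h'.ncd]
  obtain ⟨y, hy⟩ := List.exists_mem_of_ne_nil s hnone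
  have hxy := (X.tet.com.sub hsub).commute_of_prod hset hnd hx (by rw [hp]; exact (h x ⟨hx, hxz⟩).symm) hlen y hy
  have := hsub y hy
  simp only [List.mem_cons, List.not_mem_nil, or_false] at this
  rcases this with rfl | rfl | rfl | rfl
  exacts [hxa hxy, nb hxy, nc hxy, nd hxy]

/-- Only the product centralises all pairs. -/
theorem eq_one_or_z_of_comm {g : G} (hgz : Commute g z) (h : ∀ q ∈ Qg D z, Commute g q) : g = 1 ∨ g = z := by
  refine X.eq_one_or_z_of_fix hgz fun x hx => ?_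
  obtain ⟨T, hT⟩ := X.exists_tt hx.1 hx.2
  obtain ⟨p, q, r, h', -⟩ := T.exists_first hT
  have key : ∀ {y w v}, Tet D z x y w v → g * x * g⁻¹ = x ∨ g * x * g⁻¹ = y := fun {y w v} ht => by
    have e := conj_self_of_commute (h _ (pair_mem ht))
    rw [show g * (x * y) * g⁻¹ = g * x * g⁻¹ * (g * y * g⁻¹) by group] at e
    exact pair_unique_of X.hset X.env.S.eq_of_sameComm ht.ma ht.mb
      (CfsgLib.ThreeTransp.class_conj_mem X.cls g ht.ma) (CfsgLib.ThreeTransp.class_conj_mem X.cls g ht.mb)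
      ht.nab (fun e' => ht.nab (mul_left_cancel (mul_right_cancel e'))) ht.cab
      ((commute_conj_iff' g x y).2 ht.cab) e.symm
  rcases key h' with e | e
  · exact mul_inv_eq_iff_eq_mul.1 e
  · rcases key h'.swap' with e' | e'
    · exact mul_inv_eq_iff_eq_mul.1 e'
    · exact absurd (e.symm.trans e') h'.nbc

/-- The pair subgroup is extraspecial. -/
theorem isExtraspecial_Qg : Cfsg.IsExtraspecial 2 ↥(Qg D z) := by
  have hset := X.hset
  have hcz : ∀ {q}, q ∈ Qg D z → Commute q z := fun hq =>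
    mem_centralizer_singleton_iff.1 (Qg_le_centralizer X.cls hq)
  have hfix : ∀ {g}, g ∈ Qg D z → (∀ {p q r s x}, Tet D z p q r s → x ∈ ({p, q, r, s} : Set G) →
      g * x * g⁻¹ = x) → g = 1 ∨ g = z := by
    intro g hg hall
    refine X.eq_one_or_z_of_fix (hcz hg) fun x hx => ?_
    obtain ⟨T, hT⟩ := X.exists_tt hx.1 hx.2
    obtain ⟨p, q, r, h', -⟩ := T.exists_first hT
    exact mul_inv_eq_iff_eq_mul.1 (hall h' (Or.inl rfl))
  have hone : ∀ {x : ↥(Qg D z)}, (x : G) = 1 → x = 1 := fun h => Subtype.ext h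
  refine CfsgLib.LargeXS.isExtraspecial_of (IsPGroup.of_card X.card_Qg)
    (c := ⟨z, z_mem_Qg X.tet⟩) (fun e => X.env.z_ne_one X.tet (congrArg Subtype.val e)) (fun x y => ?_)
    (fun x => ?_) (fun x hx => ?_) (fun y => Subtype.ext (hcz y.2).eq) ?_
  · refine (hfix (x * y * x⁻¹ * y⁻¹).2 fun {p q r s w} h' hw => ?_).imp hone (fun h => Subtype.ext h)
    have hkl : ∀ v : ↥(Qg D z), Kl (v : G) p q r s := fun v => Qg_kl hset X.cls X.env.sep v.2 h'
    simp only [Subgroup.coe_mul, Subgroup.coe_inv]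
    set w' := (x : G)⁻¹ * (y : G)⁻¹ * w * ((x : G)⁻¹ * (y : G)⁻¹)⁻¹ with hw'
    have hw'mem : w' ∈ ({p, q, r, s} : Set G) := by
      have e := ((hkl x).inv.mul (hkl y).inv).image
      rw [← e]
      exact ⟨w, hw, rfl⟩
    have e := ((hkl x).comm (hkl y) hw'mem).1
    calc (x : G) * y * (x : G)⁻¹ * (y : G)⁻¹ * w * ((x : G) * y * (x : G)⁻¹ * (y : G)⁻¹)⁻¹
        = (x : G) * y * w' * ((x : G) * y)⁻¹ := by rw [hw']; group
      _ = (y : G) * x * w' * ((y : G) * x)⁻¹ := e
      _ = w := by rw [hw']; group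
  · refine (hfix (x * x).2 fun {p q r s w} h' hw => ?_).imp hone (fun h => Subtype.ext h)
    exact ((Qg_kl hset X.cls X.env.sep x.2 h').comm (Qg_kl hset X.cls X.env.sep x.2 h') hw).2
  · exact (X.eq_one_or_z_of_comm (hcz x.2) fun q hq =>
      (congrArg Subtype.val (hx ⟨q, hq⟩)).symm).imp hone (fun h => Subtype.ext h)
  · by_contra hne
    simp only [not_exists, not_and_or, ne_eq, not_not] at hne
    have h2 : (Set.univ : Set ↥(Qg D z)) ⊆ {1, ⟨z, z_mem_Qg X.tet⟩} := fun x _ => hne x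
    have h3 := Set.ncard_le_ncard h2 (Set.toFinite _)
    rw [Set.ncard_univ, X.card_Qg] at h3
    have h4 := Set.ncard_insert_le (1 : ↥(Qg D z)) {⟨z, z_mem_Qg X.tet⟩}
    rw [Set.ncard_singleton] at h4
    omega

end Chart

end CfsgLib.FischerTetrad
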