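import Cfsg.Agent.Lib.FischerTetrad.Refl
import Cfsg.Agent.Lib.FischerTetrad.ModelRecog
import Cfsg.Agent.Lib.FischerTetrad.OrthoData

/-!
The tetrads numbered as the 126 points of the model, with the same reflections.
-/

set_option autoImplicit false
set_option linter.unusedSectionVars false

namespace CfsgLib.FischerTetrad

open Subgroup
open CfsgLib.ThreeTrans (link mul_self inv_eq conj_self_of_commute)
open CfsgLib.FischerType CfsgLib.FischerInvol CfsgLib.FischerTriple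
open CfsgLib.FischerM24 (C2 odd)
open Model (gk rs HB)

theorem c2_cases : ∀ x : C2, x = 1 ∨ x = odd := by decide

theorem odd_ne : odd ≠ (1 : C2) := by decide

variable {G : Type*} [Group G] [Finite G] {D : Set G} {z a b c d : G} {F : Type} [Field F] [Fintype F]

namespace Chart

variable (X : Chart D z a b c d F)

include X

/-- A member of a linked tetrad with its model. -/
noncomputable def gI (X : Chart D z a b c d F) (i : Fin 45) :
    ↥(centralizer ({z} : Set G)) × Equiv.Perm (Fin 128) :=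
  (⟨X.member i 0, mem_centralizer_singleton_iff.2 (TT.mem_D (X.linkTT i) (X.mem_linkTT.2 ⟨0, rfl⟩)).2⟩, rs i)

/-- The subdirect group. -/
noncomputable def KK (X : Chart D z a b c d F) : Subgroup (↥(centralizer ({z} : Set G)) × Equiv.Perm (Fin 128)) :=
  Subgroup.closure (Set.range X.gI)

theorem act_gI (i : Fin 45) : act X.cls (X.gI i).1 = refl X.cls (X.linkTT i) :=
  (refl_eq X.env (X.mem_linkTT.2 ⟨0, rfl⟩)).symm

omit X in
theorem rs_mul_self (i : Fin 45) : rs i * rs i = 1 := Equiv.ext fun x => Fin.ext (by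
  rw [Equiv.Perm.mul_apply, Model.rs_apply, Model.rs_apply, Model.gk_invol i x]; rfl)

theorem gI_inv (i : Fin 45) : (X.gI i)⁻¹ = X.gI i :=
  inv_eq_of_mul_eq_one_right (Prod.ext (Subtype.ext (mul_self X.hset (X.member_mem i 0).1.1.1)) (rs_mul_self i))

theorem KK_induction {P : ↥(centralizer ({z} : Set G)) × Equiv.Perm (Fin 128) → Prop} (h1 : P 1)
    (hg : ∀ i, P (X.gI i)) (hm : ∀ p q, P p → P q → P (p * q))
    {p : ↥(centralizer ({z} : Set G)) × Equiv.Perm (Fin 128)} (hp : p ∈ X.KK) : P p :=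
  Subgroup.closure_induction'' (p := fun x _ => P x) (fun x hx => by obtain ⟨i, rfl⟩ := hx; exact hg i)
    (fun x hx => by obtain ⟨i, rfl⟩ := hx; rw [X.gI_inv]; exact hg i) h1 (fun p q _ _ => hm p q) hp

theorem KK_act_mem {p : ↥(centralizer ({z} : Set G)) × Equiv.Perm (Fin 128)} (hp : p ∈ X.KK) :
    act X.cls p.1 ∈ X.Wl ∧ p.2 ∈ HB := by
  refine X.KK_induction (P := fun p => act X.cls p.1 ∈ X.Wl ∧ p.2 ∈ HB) ⟨?_, one_mem _⟩
    (fun i => ⟨?_, Model.rs_mem i⟩) (fun p q hp hq => ⟨?_, mul_mem hp.2 hq.2⟩) hp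
  · rw [Prod.fst_one, map_one]; exact one_mem _
  · rw [X.act_gI]; exact X.refl_mem_Wl i
  · rw [Prod.fst_mul, map_mul]; exact mul_mem hp.1 hq.1

theorem exists_of_Wl {w : Equiv.Perm (TT D z)} (hw : w ∈ X.Wl) : ∃ p ∈ X.KK, act X.cls p.1 = w := by
  have hle : X.Wl ≤ X.KK.map ((act X.cls).comp (MonoidHom.fst _ _)) := (closure_le _).2 (by
    rintro _ ⟨i, rfl⟩
    exact ⟨X.gI i, subset_closure ⟨i, rfl⟩, X.act_gI i⟩)
  exact hle hw

theorem exists_of_HB {h : Equiv.Perm (Fin 128)} (hh : h ∈ HB) : ∃ p ∈ X.KK, p.2 = h := by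
  have hle : HB ≤ X.KK.map (MonoidHom.snd _ _) :=
    Model.HB_le fun i => ⟨X.gI i, subset_closure ⟨i, rfl⟩, rfl⟩
  exact hle hh

theorem KK_link {p : ↥(centralizer ({z} : Set G)) × Equiv.Perm (Fin 128)} (hp : p ∈ X.KK) (j : Fin 45) :
    ∃ k : Fin 45, (p.2 ⟨j.val + 1, by omega⟩).val = k.val + 1 ∧ act X.cls p.1 (X.linkTT j) = X.linkTT k := by
  revert j
  refine X.KK_induction (P := fun p => ∀ j : Fin 45, ∃ k : Fin 45,
    (p.2 ⟨j.val + 1, by omega⟩).val = k.val + 1 ∧ act X.cls p.1 (X.linkTT j) = X.linkTT k) (fun j => ?_)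
    (fun i j => ?_) (fun p q hp hq j => ?_) hp
  · exact ⟨j, rfl, by rw [Prod.fst_one, map_one]; rfl⟩
  · refine ⟨Model.rf i j, ?_, by rw [X.act_gI, X.refl_link]⟩
    exact (Model.rs_apply i _).trans (Model.gk_link i j)
  · obtain ⟨k, h1, e1⟩ := hq j
    obtain ⟨l, h2, e2⟩ := hp k
    refine ⟨l, ?_, by rw [Prod.fst_mul, map_mul, Equiv.Perm.mul_apply, e1, e2]⟩
    rw [Prod.snd_mul, Equiv.Perm.mul_apply, show q.2 ⟨j.val + 1, by omega⟩ = ⟨k.val + 1, by omega⟩ from Fin.ext h1]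
    exact h2

theorem KK_parity {φ : G →* C2} (hφ : ∀ x ∈ D, φ x = odd)
    {p : ↥(centralizer ({z} : Set G)) × Equiv.Perm (Fin 128)} (hp : p ∈ X.KK) :
    p.2 126 = (if φ p.1 = 1 then 126 else 127) ∧ p.2 127 = (if φ p.1 = 1 then 127 else 126) := by
  refine X.KK_induction (P := fun p => p.2 126 = (if φ p.1 = 1 then 126 else 127) ∧
    p.2 127 = (if φ p.1 = 1 then 127 else 126)) ?_ (fun i => ?_) (fun p q hp hq => ?_) hp
  · simp
  · have h1 : φ ((X.gI i).1 : G) = odd := hφ _ (X.member_mem i 0).1.1.1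
    rw [if_neg (by rw [h1]; exact odd_ne), if_neg (by rw [h1]; exact odd_ne)]
    exact ⟨Fin.ext ((Model.rs_apply i _).trans (Model.gk_base i).2.1),
      Fin.ext ((Model.rs_apply i _).trans (Model.gk_base i).2.2)⟩
  · obtain ⟨p1, p2⟩ := hp
    obtain ⟨q1, q2⟩ := hq
    simp only [Prod.snd_mul, Prod.fst_mul, Subgroup.coe_mul, map_mul, Equiv.Perm.mul_apply, q1, q2]
    have hsq : odd * odd = (1 : C2) := by decide
    rcases c2_cases (φ p.1) with e | e <;> rcases c2_cases (φ q.1) with e' | e' <;>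
      simp_all [odd_ne, hsq]

theorem refl_base_ne_one : refl X.cls X.baseTT ≠ 1 := by
  intro e
  obtain ⟨x, hx, hxz, hxa⟩ := X.exists_far
  obtain ⟨T, hT⟩ := X.exists_tt hx hxz
  exact refl_moves X.env (fun h => hxa ((X.linked_base_iff hT).1 h)) (Equiv.congr_fun e T)

theorem act_eq_one {p : ↥(centralizer ({z} : Set G)) × Equiv.Perm (Fin 128)} (hp : p ∈ X.KK)
    (hlink : ∀ j, act X.cls p.1 (X.linkTT j) = X.linkTT j) {φ : G →* C2} (hφ : ∀ x ∈ D, φ x = odd) :
    (φ p.1 = 1 → act X.cls p.1 = 1) ∧ (φ p.1 ≠ 1 → act X.cls p.1 = refl X.cls X.baseTT) := by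
  have hb : act X.cls p.1 X.baseTT = X.baseTT := (X.Wl_spec (X.KK_act_mem hp).1).1
  have hfix : ∀ g : ↥(centralizer ({z} : Set G)), (g : G) ∈ _root_.commutator G →
      act X.cls g X.baseTT = X.baseTT → (∀ j, act X.cls g (X.linkTT j) = X.linkTT j) → act X.cls g = 1 := by
    intro g hL h1 h2
    have hC : (g : G) ∈ CC z := mem_CC.2 ⟨hL, mem_centralizer_singleton_iff.1 g.2⟩
    refine X.Zfix_act (g := ⟨g, hC⟩) ⟨hC, fun T hT => ?_⟩
    rcases X.eq_link_of_linked hT with rfl | ⟨j, rfl⟩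
    exacts [congrArg Subtype.val h1, congrArg Subtype.val (h2 j)]
  have hker : ∀ {g : G}, g ∈ _root_.commutator G → φ g = 1 := fun hg =>
    MonoidHom.mem_ker.1 (Abelianization.commutator_subset_ker φ hg)
  set aa : ↥(centralizer ({z} : Set G)) := ⟨a, mem_centralizer_singleton_iff.2 X.tet.comm_z.1⟩
  have ha : refl X.cls X.baseTT = act X.cls aa := refl_eq X.env (Or.inl rfl)
  rcases mem_or_mul_mem X.cls X.tet.ma (p.1 : G) with hL | hL
  · exact ⟨fun _ => hfix _ hL hb hlink, fun h => absurd (hker hL) h⟩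
  · have h1 : φ p.1 ≠ 1 := fun h1 => by
      have := hker hL
      rw [map_mul, h1, one_mul, hφ a X.tet.ma] at this
      exact odd_ne this
    refine ⟨fun h => absurd h h1, fun _ => ?_⟩
    have h2 : act X.cls (p.1 * aa) = 1 := by
      refine hfix _ hL ?_ fun j => ?_
      · rw [map_mul, ← ha, Equiv.Perm.mul_apply, refl_linked X.env (linked_self X.hset _), hb]
      · rw [map_mul, ← ha, Equiv.Perm.mul_apply, refl_linked X.env (X.linked_base j), hlink]
    rw [map_mul, ← ha] at h2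
    rw [eq_inv_of_mul_eq_one_left h2, inv_eq_of_mul_eq_one_right (refl_mul_self X.env _)]

theorem act_one_iff {p : ↥(centralizer ({z} : Set G)) × Equiv.Perm (Fin 128)} (hp : p ∈ X.KK) :
    act X.cls p.1 = 1 ↔ p.2 = 1 := by
  obtain ⟨d₀, hd⟩ := X.env.data
  obtain ⟨φ, hφ⟩ := hd.exists_parity
  constructor
  · intro h
    have hlink : ∀ j, act X.cls p.1 (X.linkTT j) = X.linkTT j := fun j => by rw [h]; rfl
    have h1 : φ p.1 = 1 := by
      by_contra hne
      exact X.refl_base_ne_one (((X.act_eq_one hp hlink hφ).2 hne).symm.trans h)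
    refine Model.eq_one_of_fix (X.KK_act_mem hp).2 fun x => ?_
    unfold Model.iota
    split
    · obtain ⟨k, hk, e⟩ := X.KK_link hp ⟨x.val, by omega⟩
      rw [hlink] at e
      obtain rfl := X.linkTT_inj e
      exact Fin.ext hk
    · have hp' := X.KK_parity hφ hp
      rw [if_pos h1, if_pos h1] at hp'
      rcases (show x.val = 45 ∨ x.val = 46 by omega) with hx | hx
      · simp only [hx]; exact hp'.1
      · simp only [hx]; exact hp'.2
  · intro h
    have hlink : ∀ j, act X.cls p.1 (X.linkTT j) = X.linkTT j := fun j => by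
      obtain ⟨k, hk, e⟩ := X.KK_link hp j
      rw [h] at hk
      rw [e, show k = j from Fin.ext (by simpa using hk.symm)]
    refine (X.act_eq_one hp hlink hφ).1 ?_
    by_contra hne
    have hp' := (X.KK_parity hφ hp).1
    rw [h, if_neg hne] at hp'
    exact absurd hp' (by decide)

theorem KK_same {p q : ↥(centralizer ({z} : Set G)) × Equiv.Perm (Fin 128)} (hp : p ∈ X.KK) (hq : q ∈ X.KK)
    (h : p.2 = q.2) : act X.cls p.1 = act X.cls q.1 := by
  have h1 := (X.act_one_iff (mul_mem (inv_mem hp) hq)).2 (by rw [Prod.snd_mul, Prod.snd_inv, h, inv_mul_cancel])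
  rw [Prod.fst_mul, Prod.fst_inv, map_mul, map_inv, inv_mul_eq_one] at h1
  exact h1

theorem fix_x0 {T : TT D z} (hT : X.IsStd T) {p : ↥(centralizer ({z} : Set G)) × Equiv.Perm (Fin 128)}
    (hp : p ∈ X.KK) (h : p.2 46 = 46) : act X.cls p.1 T = T := by
  obtain ⟨h1, h2⟩ := X.KK_act_mem hp
  let K' := X.KK ⊓ (MulAction.stabilizer (Equiv.Perm (TT D z)) T).comap ((act X.cls).comp (MonoidHom.fst _ _))
  have hle : CfsgLib.Comp.PermCode.span 128 Model.rBigGens ≤ K'.map (MonoidHom.snd _ _) :=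
    (closure_le _).2 fun s hs => by
      obtain ⟨i, hi, rfl, -⟩ := Model.stab_gen_cases hs
      refine ⟨X.gI i, ⟨subset_closure ⟨i, rfl⟩, MulAction.mem_stabilizer_iff.2 ?_⟩, rfl⟩
      show act X.cls (X.gI i).1 T = T
      rw [X.act_gI]
      exact refl_linked X.env (X.mem_sigma.1 (by rw [hT.2, List.mem_toFinset]; exact hi))
  obtain ⟨q, ⟨hq, hqT⟩, e⟩ := hle (Model.stab_le h2 h)
  rw [X.KK_same hp hq e.symm]
  exact MulAction.mem_stabilizer_iff.1 hqT

/-- A point over a tetrad. -/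
def Num (X : Chart D z a b c d F) (T₀ : TT D z) (t : Fin 128) (T : TT D z) : Prop :=
  (t.val = 0 ∧ T = X.baseTT) ∨ (∃ i : Fin 45, t.val = i.val + 1 ∧ T = X.linkTT i) ∨
    ∃ p ∈ X.KK, p.2 46 = t ∧ act X.cls p.1 T₀ = T

theorem exists_num (T₀ : TT D z) (t : Fin 126) : ∃ T, X.Num T₀ ⟨t.val, by omega⟩ T := by
  by_cases h0 : t.val = 0
  · exact ⟨_, Or.inl ⟨h0, rfl⟩⟩
  by_cases h1 : t.val < 46
  · exact ⟨_, Or.inr (Or.inl ⟨⟨t.val - 1, by omega⟩, by show t.val = t.val - 1 + 1; omega, rfl⟩)⟩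
  obtain ⟨h, hh, e⟩ := Model.orbit_far ⟨t.val, by omega⟩ (by show 46 ≤ t.val; omega) (by show t.val < 126; omega)
  obtain ⟨p, hp, rfl⟩ := X.exists_of_HB hh
  exact ⟨_, Or.inr (Or.inr ⟨p, hp, e, rfl⟩)⟩

theorem num_unique {T₀ : TT D z} (hT : X.IsStd T₀) {t : Fin 128} {T T' : TT D z} (h : X.Num T₀ t T)
    (h' : X.Num T₀ t T') : T = T' := by
  have far : ∀ {p : ↥(centralizer ({z} : Set G)) × Equiv.Perm (Fin 128)}, p ∈ X.KK → 46 ≤ (p.2 46).val :=
    fun hp => (Model.HB_far (X.KK_act_mem hp).2 46 (le_of_eq rfl) (by decide)).1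
  rcases h with ⟨e, rfl⟩ | ⟨i, e, rfl⟩ | ⟨p, hp, e, rfl⟩ <;>
    rcases h' with ⟨e', rfl⟩ | ⟨j, e', rfl⟩ | ⟨q, hq, e', rfl⟩
  · rfl
  · omega
  · have := far hq; rw [e'] at this; omega
  · omega
  · rw [show i = j from Fin.ext (by omega)]
  · have := far hq; rw [e'] at this; omega
  · have := far hp; rw [e] at this; omega
  · have := far hp; rw [e] at this; omega
  · have h1 := X.fix_x0 hT (mul_mem (inv_mem hp) hq) (by
      rw [Prod.snd_mul, Prod.snd_inv, Equiv.Perm.mul_apply, e', ← e]; exact p.2.symm_apply_apply 46)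
    rw [Prod.fst_mul, Prod.fst_inv, map_mul, map_inv, Equiv.Perm.mul_apply] at h1
    exact (Equiv.Perm.inv_eq_iff_eq.1 h1).symm

theorem num_cover {T₀ : TT D z} (hT : X.IsStd T₀) (T : TT D z) : ∃ t : Fin 128, t.val < 126 ∧ X.Num T₀ t T := by
  by_cases hl : Linked X.baseTT T
  · rcases X.eq_link_of_linked hl with rfl | ⟨i, rfl⟩
    · exact ⟨0, by decide, Or.inl ⟨rfl, rfl⟩⟩
    · exact ⟨⟨i.val + 1, by omega⟩, by show i.val + 1 < 126; omega, Or.inr (Or.inl ⟨i, rfl, rfl⟩)⟩
  · obtain ⟨w, hw, e⟩ := X.far_transitive hT.1 hl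
    obtain ⟨p, hp, rfl⟩ := X.exists_of_Wl hw
    exact ⟨p.2 46, (Model.HB_far (X.KK_act_mem hp).2 46 (le_of_eq rfl) (by decide)).2,
      Or.inr (Or.inr ⟨p, hp, rfl, e⟩)⟩

/-- The tetrads are numbered by the points of the model, with the same reflections. -/
theorem exists_phi : ∃ φ : Fin 126 ≃ TT D z, ∀ (k : Fin 47) (t : Fin 126),
    refl X.cls (φ (k.castLE (by norm_num))) (φ t) = φ (Model.ref126 k t) := by
  classical
  obtain ⟨x, hx, hxz, hxa⟩ := X.exists_far
  obtain ⟨T₁, hT₁⟩ := X.exists_tt hx hxz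
  obtain ⟨w₁, -, hstd⟩ := X.exists_std (T := T₁) fun h => hxa ((X.linked_base_iff hT₁).1 h)
  set T₀ := w₁ T₁
  choose f hf using fun t => X.exists_num T₀ t
  have huniq : ∀ {t : Fin 126} {T}, X.Num T₀ ⟨t.val, by omega⟩ T → f t = T := fun h => X.num_unique hstd (hf _) h
  have hsurj : Function.Surjective f := fun T => by
    obtain ⟨t, ht, hn⟩ := X.num_cover hstd T
    exact ⟨⟨t.val, ht⟩, huniq hn⟩
  haveI : Fintype (TT D z) := Fintype.ofFinite _
  have hbij : Function.Bijective f := (Fintype.bijective_iff_surjective_and_card f).2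
    ⟨hsurj, by rw [Fintype.card_fin, ← Nat.card_eq_fintype_card, X.card_TT]⟩
  refine ⟨Equiv.ofBijective f hbij, fun k t => ?_⟩
  simp only [Equiv.ofBijective_apply]
  have href : ∀ (k : Fin 47) (t : Fin 126), ((Model.ref126 k t : Fin 126) : ℕ) = gk k.val t.val := fun k t =>
    CfsgLib.Comp.PermCode.val_apply (CfsgLib.Comp.PermCode.ok_of_okb (Model.ref126_ok k)) t
  let ft : ∀ n : ℕ, n < 126 → TT D z := fun n h => f ⟨n, h⟩
  have fcongr : ∀ {n m : ℕ} (hn : n < 126) (hm : m < 126), n = m → f ⟨n, hn⟩ = f ⟨m, hm⟩ :=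
    fun hn hm e => congrArg f (Fin.ext e)
  have f0 : f ⟨0, by omega⟩ = X.baseTT := huniq (Or.inl ⟨rfl, rfl⟩)
  have flink : ∀ i : Fin 45, f ⟨i.val + 1, by omega⟩ = X.linkTT i := fun i =>
    huniq (Or.inr (Or.inl ⟨i, rfl, rfl⟩))
  have f46 : f ⟨46, by omega⟩ = T₀ := huniq (Or.inr (Or.inr ⟨1, one_mem _, rfl, by rw [Prod.fst_one, map_one]; rfl⟩))
  -- the reflections at the linked tetrads
  have hlinkrefl : ∀ (i : Fin 45) (n : ℕ) (hn : n < 126) (hn' : gk (i.val + 1) n < 126),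
      refl X.cls (X.linkTT i) (f ⟨n, hn⟩) = f ⟨gk (i.val + 1) n, hn'⟩ := by
    intro i n hn hn'
    rcases hf ⟨n, hn⟩ with ⟨e, hT⟩ | ⟨j, e, hT⟩ | ⟨p, hp, e, hT⟩
    · rw [hT, refl_linked X.env (X.linked_base i).symm, fcongr hn' (by omega) (show gk (i.val + 1) n = 0 by
        rw [show n = 0 from e]; exact (Model.gk_base i).1), f0]
    · rw [hT, X.refl_link, fcongr hn' (by omega) (show gk (i.val + 1) n = (Model.rf i j).val + 1 by
        rw [show n = j.val + 1 from e]; exact Model.gk_link i j), flink]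
    · refine (huniq (Or.inr (Or.inr ⟨X.gI i * p, mul_mem (subset_closure ⟨i, rfl⟩) hp, ?_, ?_⟩))).symm
      · rw [Prod.snd_mul, Equiv.Perm.mul_apply, e]
        exact Fin.ext (Model.rs_apply i _)
      · rw [Prod.fst_mul, map_mul, Equiv.Perm.mul_apply, X.act_gI, hT]
  -- the reflection at the base
  have hcomm : ∀ (i : Fin 45) (T : TT D z), refl X.cls X.baseTT (refl X.cls (X.linkTT i) T) =
      refl X.cls (X.linkTT i) (refl X.cls X.baseTT T) := by
    intro i T
    have hb : act X.cls (memOf (X.linkTT i)) X.baseTT = X.baseTT := refl_linked X.env (X.linked_base i).symm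
    have h := refl_conj X.env (memOf (X.linkTT i)) X.baseTT
    rw [hb] at h
    have h' := Equiv.congr_fun (eq_mul_inv_iff_mul_eq.1 h) T
    exact h'
  have hbase46 : refl X.cls X.baseTT T₀ = f ⟨gk 0 46, (Model.gk_lt 0 ⟨46, by omega⟩)⟩ := by
    obtain ⟨⟨s, hs⟩, e⟩ := hsurj (refl X.cls X.baseTT T₀)
    have hA := X.std_refl hstd
    rw [← e] at hA
    have hs46 : 46 ≤ s := by
      by_contra hlt
      rcases hf ⟨s, hs⟩ with ⟨-, hT⟩ | ⟨j, -, hT⟩ | ⟨p, hp, e', -⟩
      · exact hA.1 (hT ▸ linked_self X.hset _)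
      · exact hA.1 (hT ▸ X.linked_base j)
      · have := (Model.HB_far (X.KK_act_mem hp).2 46 (le_of_eq rfl) (by decide)).1
        rw [e'] at this
        exact hlt this
    have hsig : ∀ i : Fin 45, (gk (i.val + 1) s == s) = Model.sigma0.contains i := by
      intro i
      rw [Bool.eq_iff_iff, beq_iff_eq, List.contains_eq_mem, decide_eq_true_eq, ← List.mem_toFinset, ← hA.2,
        X.mem_sigma]
      have hlt : gk (i.val + 1) s < 126 := Model.gk_lt ⟨i.val + 1, by omega⟩ ⟨s, hs⟩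
      constructor
      · intro hfix
        by_contra hnl
        exact refl_moves X.env hnl ((hlinkrefl i s hs hlt).trans (fcongr hlt hs hfix))
      · intro hl
        exact congrArg Fin.val (hbij.injective ((hlinkrefl i s hs hlt).symm.trans (refl_linked X.env hl)))
    have h := Model.far_sigma ⟨s - 46, by omega⟩
    rw [show (⟨s - 46, by omega⟩ : Fin 80).val + 46 = s from Nat.sub_add_cancel hs46] at h
    rcases h hsig with h | h
    · exfalso
      rw [fcongr hs (by omega) h, f46] at e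
      exact refl_moves X.env hstd.1 e.symm
    · rw [← e]
      exact fcongr _ _ h
  have hbase : ∀ (n : ℕ) (hn : n < 126) (hn' : gk 0 n < 126),
      refl X.cls X.baseTT (f ⟨n, hn⟩) = f ⟨gk 0 n, hn'⟩ := by
    intro n hn hn'
    rcases hf ⟨n, hn⟩ with ⟨e, hT⟩ | ⟨j, e, hT⟩ | ⟨p, hp, e, -⟩
    · change n = 0 at e
      subst e
      rw [f0, refl_linked X.env (linked_self X.hset _), fcongr hn' (by omega) (show gk 0 0 = 0 from Model.gk_zero_near 0), f0]
    · change n = j.val + 1 at e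
      subst e
      rw [flink, refl_linked X.env (X.linked_base j),
        fcongr hn' hn (show gk 0 (j.val + 1) = j.val + 1 from Model.gk_zero_near ⟨j.val + 1, by omega⟩), flink]
    · have key : ∀ (m : ℕ) (hm : m < 126),
          refl X.cls X.baseTT (f ⟨m, hm⟩) = f ⟨gk 0 m, Model.gk_lt 0 ⟨m, hm⟩⟩ →
          ∀ hlt : (p.2 ⟨m, by omega⟩).val < 126,
            refl X.cls X.baseTT (f ⟨_, hlt⟩) = f ⟨gk 0 (p.2 ⟨m, by omega⟩).val, Model.gk_lt 0 ⟨_, hlt⟩⟩ := by
        intro m hm h hlt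
        refine (X.KK_induction (P := fun p => ∀ (m : ℕ) (hm : m < 126),
          refl X.cls X.baseTT (f ⟨m, hm⟩) = f ⟨gk 0 m, Model.gk_lt 0 ⟨m, hm⟩⟩ →
          ∃ hlt : (p.2 ⟨m, by omega⟩).val < 126,
            refl X.cls X.baseTT (f ⟨_, hlt⟩) = f ⟨gk 0 (p.2 ⟨m, by omega⟩).val, Model.gk_lt 0 ⟨_, hlt⟩⟩)
          (fun m hm h => ⟨hm, h⟩) (fun i m hm h => ?_) (fun p q hp hq m hm h => ?_) hp m hm h).2
        · have hv : ((rs i ⟨m, by omega⟩ : Fin 128) : ℕ) = gk (i.val + 1) m := Model.rs_apply i _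
          have hlt : gk (i.val + 1) m < 126 := Model.gk_lt ⟨i.val + 1, by omega⟩ ⟨m, hm⟩
          have hlt' : ((X.gI i).2 ⟨m, by omega⟩ : Fin 128).val < 126 := hv.trans_lt hlt
          refine ⟨hlt', ?_⟩
          have hc := Model.gk_zero_comm i ⟨m, hm⟩
          rw [fcongr hlt' hlt hv, ← hlinkrefl i m hm hlt, hcomm, h,
            hlinkrefl i (gk 0 m) _ (Model.gk_lt ⟨i.val + 1, by omega⟩ ⟨gk 0 m, Model.gk_lt 0 ⟨m, hm⟩⟩)]
          refine fcongr _ _ ?_
          show gk (i.val + 1) (gk 0 m) = gk 0 ((rs i ⟨m, by omega⟩ : Fin 128) : ℕ)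
          rw [hv]
          exact hc.symm
        · obtain ⟨h1, h2⟩ := hq m hm h
          exact hp _ h1 h2
      have hlt : (p.2 ⟨46, by omega⟩).val < 126 := by
        rw [show p.2 ⟨46, _⟩ = ⟨n, _⟩ from e]; exact hn
      have h := key 46 (by omega) (by rw [f46]; exact hbase46) hlt
      have hv : (p.2 ⟨46, by omega⟩).val = n := congrArg Fin.val e
      exact (congrArg (refl X.cls X.baseTT) (fcongr hn hlt hv.symm)).trans
        (h.trans (fcongr _ _ (congrArg (gk 0) hv)))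
  -- the reflection at the standard far tetrad
  set R := refl X.cls T₀ with hR
  have hRR : ∀ T, R (R T) = T := refl_refl X.env T₀
  let P : ℕ → Prop := fun n => ∃ (hn : n < 126) (hn' : gk 46 n < 126), R (f ⟨n, hn⟩) = f ⟨gk 46 n, hn'⟩
  have hP : ∀ {n : ℕ}, P n → P (gk 46 n) := by
    rintro n ⟨hn, hn', h⟩
    have e : gk 46 (gk 46 n) = n := Model.x0_base.2.2 ⟨n, hn⟩
    refine ⟨hn', e.symm ▸ hn, ?_⟩
    rw [← h, hRR]
    exact fcongr _ _ e.symm
  have hPl : ∀ u : Fin 45, P (u.val + 1) := by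
    intro u
    refine ⟨by omega, Model.gk_lt 46 ⟨u.val + 1, by omega⟩, ?_⟩
    rw [flink]
    have hv := Model.x0_link u
    by_cases hu : u ∈ Model.sigma0
    · rw [if_pos hu] at hv
      rw [fcongr _ (by omega) hv, flink]
      exact refl_linked X.env (X.mem_sigma.1 (by rw [hstd.2, List.mem_toFinset]; exact hu)).symm
    · rw [if_neg hu] at hv
      have hnl : ¬ Linked (X.linkTT u) T₀ := fun hl =>
        hu (by rw [← List.mem_toFinset, ← hstd.2]; exact X.mem_sigma.2 hl)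
      rw [hR, ← refl_swap X.env hnl, ← f46, hlinkrefl u 46 _ (Model.gk_lt ⟨u.val + 1, by omega⟩ ⟨46, by omega⟩)]
      exact fcongr _ _ hv.symm
  have hP0 : P 0 := by
    refine ⟨by omega, Model.gk_lt 46 ⟨0, by omega⟩, ?_⟩
    rw [f0, hR, ← refl_swap X.env hstd.1, hbase46]
    exact fcongr _ _ Model.x0_base.1.symm
  have hknown : ∀ n ∈ Model.known0, P n := by
    intro n hn
    simp only [Model.known0, List.mem_cons, List.mem_append, List.mem_map, List.mem_range] at hn
    rcases hn with rfl | rfl | rfl | ⟨u, hu, rfl⟩ | ⟨u, hu, rfl⟩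
    · exact hP0
    · refine ⟨by omega, Model.gk_lt 46 ⟨46, by omega⟩, ?_⟩
      rw [f46, hR, refl_linked X.env (linked_self X.hset _), fcongr _ (by omega) Model.x0_base.2.1, f46]
    · exact hP hP0
    · exact hPl ⟨u, hu⟩
    · exact hP (hPl ⟨u, hu⟩)
  have hstep : ∀ (known : List ℕ), (∀ n ∈ known, P n) → ∀ e, Model.stepOk known e = true → P e.1 := by
    rintro known hk ⟨t, v, y⟩ hok
    simp only [Model.stepOk, Bool.and_eq_true, List.contains_eq_mem, decide_eq_true_eq] at hok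
    obtain ⟨hy, hok⟩ := hok
    obtain ⟨hyn, hyn', hRy⟩ := hk y hy
    by_cases hv : v < 45
    · rw [dif_pos hv] at hok
      simp only [Bool.and_eq_true, beq_iff_eq] at hok
      obtain ⟨ht, hok⟩ := hok
      subst ht
      set i : Fin 45 := ⟨v, hv⟩
      have hi : ∀ (n : ℕ) (hn : n < 126), gk (v + 1) n < 126 := fun n hn =>
        Model.gk_lt ⟨v + 1, by omega⟩ ⟨n, hn⟩
      refine ⟨hi y hyn, Model.gk_lt 46 ⟨_, hi y hyn⟩, ?_⟩
      have hft : f ⟨gk (v + 1) y, hi y hyn⟩ = refl X.cls (X.linkTT i) (f ⟨y, hyn⟩) :=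
        (hlinkrefl i y hyn _).symm
      have hconj : refl X.cls (R (X.linkTT i)) = R * refl X.cls (X.linkTT i) * R⁻¹ :=
        refl_conj X.env (memOf T₀) (X.linkTT i)
      have hswap : ∀ T, R (refl X.cls (X.linkTT i) T) = refl X.cls (R (X.linkTT i)) (R T) := fun T => by
        rw [hconj, Equiv.Perm.mul_apply, Equiv.Perm.mul_apply]
        exact congrArg (fun x => R (refl X.cls (X.linkTT i) x)) (R.symm_apply_apply T).symm
      rw [hft, hswap, hRy]
      by_cases hs : i ∈ Model.sigma0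
      · rw [if_pos hs, beq_iff_eq] at hok
        have hRi : R (X.linkTT i) = X.linkTT i :=
          refl_linked X.env (X.mem_sigma.1 (by rw [hstd.2, List.mem_toFinset]; exact hs)).symm
        rw [hRi, hlinkrefl i _ hyn' (hi _ hyn')]
        exact fcongr _ _ hok.symm
      · rw [if_neg hs] at hok
        simp only [Bool.and_eq_true, List.contains_eq_mem, decide_eq_true_eq, beq_iff_eq] at hok
        have hnl : ¬ Linked (X.linkTT i) T₀ := fun hl =>
          hs (by rw [← List.mem_toFinset, ← hstd.2]; exact X.mem_sigma.2 hl)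
        obtain ⟨h1, h2, hRz⟩ := hk _ hok.1
        have hRi : R (X.linkTT i) = refl X.cls (X.linkTT i) T₀ := (refl_swap X.env hnl).symm
        have hconj2 : refl X.cls (refl X.cls (X.linkTT i) T₀) =
            refl X.cls (X.linkTT i) * R * (refl X.cls (X.linkTT i))⁻¹ :=
          refl_conj X.env (memOf (X.linkTT i)) T₀
        rw [hRi, hconj2, inv_eq_of_mul_eq_one_right (refl_mul_self X.env _), Equiv.Perm.mul_apply,
          Equiv.Perm.mul_apply, hlinkrefl i _ hyn' h1, hRz, hlinkrefl i _ h2 (hi _ h2)]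
        exact fcongr _ _ hok.2.symm
    · rw [dif_neg hv, beq_iff_eq] at hok
      exact hok ▸ hP ⟨hyn, hyn', hRy⟩
  have hchain : ∀ (l : List (ℕ × ℕ × ℕ)) (known : List ℕ), (∀ n ∈ known, P n) → Model.chainOk l known = true →
      ∀ n ∈ l.map Prod.fst, P n := by
    intro l
    induction l with
    | nil => exact fun _ _ _ n hn => absurd hn List.not_mem_nil
    | cons e l ih =>
      intro known hk hok n hn
      simp only [Model.chainOk, Bool.and_eq_true] at hok
      have he := hstep known hk e hok.1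
      rcases List.mem_cons.1 hn with rfl | hn
      · exact he
      · exact ih (e.1 :: known) (fun m hm => (List.mem_cons.1 hm).elim (fun h => h ▸ he) (hk m)) hok.2 n hn
  have hall : ∀ t : Fin 126, P t.val := fun t => by
    have h := Model.derivation_cover t
    rw [List.contains_eq_mem, decide_eq_true_eq, List.mem_append] at h
    exact h.elim (hknown _) (hchain _ _ hknown Model.derivation_ok _)
  -- all forty-seven
  obtain ⟨k, hk⟩ := k
  have hkt := href ⟨k, hk⟩ t
  have hlt : gk k t.val < 126 := Model.gk_lt ⟨k, hk⟩ t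
  rw [show Model.ref126 ⟨k, hk⟩ t = ⟨gk k t.val, hlt⟩ from Fin.ext hkt]
  show refl X.cls (f ⟨k, by omega⟩) (f t) = _
  by_cases h0 : k = 0
  · subst h0
    rw [f0]
    exact hbase t.val t.2 hlt
  by_cases h1 : k < 46
  · obtain ⟨i, rfl⟩ : ∃ i : Fin 45, k = i.val + 1 := ⟨⟨k - 1, by omega⟩, by show k = k - 1 + 1; omega⟩
    rw [flink]
    exact hlinkrefl i t.val t.2 hlt
  · obtain rfl : k = 46 := by omega
    rw [f46]
    obtain ⟨_, _, h⟩ := hall t
    exact h

end Chart

end CfsgLib.FischerTetrad
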