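import Cfsg.Agent.Lib.FischerTetrad.Kernel
import Cfsg.Agent.Lib.FischerTetrad.ModelLine

/-!
The reflections at tetrads, and their transitivity on the eighty tetrads not linked to the base.
-/

set_option autoImplicit false
set_option linter.unusedSectionVars false

namespace CfsgLib.FischerTetrad

open Subgroup
open CfsgLib.ThreeTrans (link mul_self inv_eq braid conj_self_of_commute commute_conj_iff')
open CfsgLib.FischerType CfsgLib.FischerInvol CfsgLib.FischerTriple

variable {G : Type*} [Group G] {D : Set G} {z : G}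

/-- A member of a tetrad as an element of the centraliser of the product. -/
noncomputable def memOf (T : TT D z) : ↥(centralizer ({z} : Set G)) :=
  ⟨T.nonempty.choose, mem_centralizer_singleton_iff.2 (T.mem_D T.nonempty.choose_spec).2⟩

/-- The reflection at a tetrad. -/
noncomputable def refl (hc : Cfsg.IsThreeTranspositionClass D) (T : TT D z) : Equiv.Perm (TT D z) :=
  act hc (memOf T)

theorem memOf_mem (T : TT D z) : ((memOf T : ↥(centralizer ({z} : Set G))) : G) ∈ T.1 :=
  T.nonempty.choose_spec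

variable [Finite G] (E : Env D)

include E

theorem refl_eq {T : TT D z} {x : G} (hx : x ∈ T.1) :
    refl E.S.cls T = act E.S.cls ⟨x, mem_centralizer_singleton_iff.2 (T.mem_D hx).2⟩ := by
  have hset := E.S.cls.1
  obtain ⟨p, q, r, h, e⟩ := T.exists_first hx
  have hy : (memOf T : ↥(centralizer ({z} : Set G))).1 ∈ ({x, p, q, r} : Set G) := by
    have e' : T.1 = ({x, p, q, r} : Set G) := (congrArg Subtype.val e).symm
    have hy := memOf_mem T
    rw [e'] at hy
    exact hy
  set xx : ↥(centralizer ({z} : Set G)) := ⟨x, mem_centralizer_singleton_iff.2 (T.mem_D hx).2⟩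
  have hQ : x * (memOf T).1 ∈ Qg D z := by
    rcases hy with e | e | e | e <;> rw [e]
    · rw [mul_self hset h.ma]; exact one_mem _
    exacts [pair_mem h, pair_mem h.swap', pair_mem h.swap''.swap']
  have h1 : act E.S.cls (xx * memOf T) = (1 : Equiv.Perm (TT D z)) :=
    act_of_Qg hset E.S.cls E.sep _ hQ
  have h2 : xx * xx = 1 := Subtype.ext (mul_self hset h.ma)
  show act E.S.cls (memOf T) = act E.S.cls xx
  rw [show memOf T = xx * (xx * memOf T) by rw [← mul_assoc, h2, one_mul], map_mul, h1, mul_one]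

theorem refl_mul_self (T : TT D z) : refl E.S.cls T * refl E.S.cls T = 1 := by
  rw [refl, ← map_mul, show memOf T * memOf T = 1 from Subtype.ext (mul_self E.S.cls.1 (T.mem_D (memOf_mem T)).1),
    map_one]

theorem refl_refl (T S : TT D z) : refl E.S.cls T (refl E.S.cls T S) = S :=
  Equiv.congr_fun (refl_mul_self E T) S

theorem refl_linked {S T : TT D z} (h : Linked S T) : refl E.S.cls S T = T := by
  obtain ⟨t, ht⟩ := T.nonempty
  refine act_eq_of_mem E.S.cls.1 E.S.cls E.sep _ ht ?_
  rw [conj_self_of_commute (h.all E.S.cls.1 _ (memOf_mem S) t ht)]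
  exact ht

theorem refl_conj (g : ↥(centralizer ({z} : Set G))) (T : TT D z) :
    refl E.S.cls (act E.S.cls g T) = act E.S.cls g * refl E.S.cls T * (act E.S.cls g)⁻¹ := by
  rw [refl_eq E (T := act E.S.cls g T) (conj_mem_move E.S.cls (g : G) (mem_centralizer_singleton_iff.1 g.2)
    (memOf_mem T)), refl, ← map_mul, ← map_inv, ← map_mul]
  rfl

theorem refl_swap {S T : TT D z} (h : ¬ Linked S T) : refl E.S.cls S T = refl E.S.cls T S := by
  have hset := E.S.cls.1
  have hs := memOf_mem S
  have ht := memOf_mem T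
  have hnc : ¬ Commute (memOf S).1 (memOf T).1 := fun hc' => h ⟨_, hs, _, ht, hc'⟩
  refine act_eq_of_mem hset E.S.cls E.sep _ ht ?_
  rw [inv_eq hset (S.mem_D hs).1, braid hset (S.mem_D hs).1 (T.mem_D ht).1 hnc]
  nth_rewrite 2 [← inv_eq hset (T.mem_D ht).1]
  exact conj_mem_move E.S.cls _ (T.mem_D ht).2 hs

theorem refl_moves {S T : TT D z} (h : ¬ Linked S T) : refl E.S.cls S T ≠ T := by
  intro e
  have hset := E.S.cls.1
  have hs := memOf_mem S
  have ht := memOf_mem T
  have hnc : ¬ Commute (memOf S).1 (memOf T).1 := fun hc' => h ⟨_, hs, _, ht, hc'⟩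
  have hm : (memOf S).1 * (memOf T).1 * (memOf S).1⁻¹ ∈ (refl E.S.cls S T).1 :=
    conj_mem_move E.S.cls _ (S.mem_D hs).2 ht
  rw [e] at hm
  have hc' := (linked_self hset T).all hset _ hm _ ht
  rw [inv_eq hset (S.mem_D hs).1, braid hset (S.mem_D hs).1 (T.mem_D ht).1 hnc] at hc'
  have := (commute_conj_iff' (memOf T).1 ((memOf T).1 * (memOf S).1 * (memOf T).1) (memOf T).1).2 hc'
  rw [inv_eq hset (T.mem_D ht).1, mul_self hset (T.mem_D ht).1, one_mul] at this
  refine hnc ?_
  have e2 : (memOf T).1 * ((memOf T).1 * (memOf S).1 * (memOf T).1) * (memOf T).1 = (memOf S).1 := by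
    rw [← mul_assoc, ← mul_assoc, mul_self hset (T.mem_D ht).1, one_mul, mul_assoc,
      mul_self hset (T.mem_D ht).1, mul_one]
  rwa [e2] at this

namespace Chart

variable {a b c d : G} {F : Type} [Field F] [Fintype F] (X : Chart D z a b c d F)

omit E

include X

theorem refl_link (i j : Fin 45) : refl X.cls (X.linkTT i) (X.linkTT j) = X.linkTT (Model.rf i j) := by
  have hi : X.member i 0 ∈ (X.linkTT i).1 := X.mem_linkTT.2 ⟨0, rfl⟩
  have hj : X.member j 0 ∈ (X.linkTT j).1 := X.mem_linkTT.2 ⟨0, rfl⟩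
  rw [refl_eq X.env hi]
  refine act_eq_of_mem X.hset X.cls X.env.sep _ hj ?_
  obtain ⟨n, hn⟩ := X.conj_member i j 0 0
  exact X.mem_linkTT.2 ⟨n, hn⟩

/-- The group generated by the reflections at the linked tetrads. -/
noncomputable def Wl (X : Chart D z a b c d F) : Subgroup (Equiv.Perm (TT D z)) :=
  Subgroup.closure (Set.range fun i => refl X.cls (X.linkTT i))

theorem refl_mem_Wl (i : Fin 45) : refl X.cls (X.linkTT i) ∈ X.Wl := subset_closure ⟨i, rfl⟩

theorem Wl_spec {w : Equiv.Perm (TT D z)} (hw : w ∈ X.Wl) :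
    w X.baseTT = X.baseTT ∧ ∃ g, act X.cls g = w := by
  have hle : X.Wl ≤ MulAction.stabilizer (Equiv.Perm (TT D z)) X.baseTT ⊓ (act X.cls).range := by
    refine (closure_le _).2 ?_
    rintro _ ⟨i, rfl⟩
    exact ⟨MulAction.mem_stabilizer_iff.2 (refl_linked X.env (X.linked_base i).symm), _, rfl⟩
  obtain ⟨h1, g, h2⟩ := hle hw
  exact ⟨MulAction.mem_stabilizer_iff.1 h1, g, h2⟩

open scoped _root_.Classical in
/-- The linked tetrads of the base linked to a tetrad. -/
noncomputable def sigma (X : Chart D z a b c d F) (T : TT D z) : Finset (Fin 45) :=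
  Finset.univ.filter fun i => Linked (X.linkTT i) T

theorem mem_sigma {T : TT D z} {i : Fin 45} : i ∈ X.sigma T ↔ Linked (X.linkTT i) T := by
  simp [sigma]

theorem far_act {g : ↥(centralizer ({z} : Set G))} (hg : act X.cls g X.baseTT = X.baseTT) {T : TT D z} :
    Linked X.baseTT (act X.cls g T) ↔ Linked X.baseTT T := by
  nth_rewrite 1 [← hg]
  exact linked_act_iff g

theorem Wl_far {w : Equiv.Perm (TT D z)} (hw : w ∈ X.Wl) {T : TT D z} :
    Linked X.baseTT (w T) ↔ Linked X.baseTT T := by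
  obtain ⟨h1, g, rfl⟩ := X.Wl_spec hw
  exact X.far_act h1

theorem sigma_act {g : ↥(centralizer ({z} : Set G))} {π : Equiv.Perm (Fin 45)}
    (hπ : ∀ i, act X.cls g (X.linkTT i) = X.linkTT (π i)) (T : TT D z) :
    X.sigma (act X.cls g T) = (X.sigma T).map π.toEmbedding := by
  ext i
  rw [Finset.mem_map_equiv, mem_sigma, mem_sigma]
  have h := linked_act_iff (hc := X.cls) g (T := X.linkTT (π.symm i)) (T' := T)
  rwa [hπ, Equiv.apply_symm_apply] at h

theorem card_sigma_Wl {w : Equiv.Perm (TT D z)} (hw : w ∈ X.Wl) (T : TT D z) :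
    (X.sigma (w T)).card = (X.sigma T).card := by
  obtain ⟨h1, g, rfl⟩ := X.Wl_spec hw
  obtain ⟨π, hπ, -⟩ := X.exists_linkPerm h1
  rw [X.sigma_act hπ, Finset.card_map]

theorem mem_sigma_refl {T : TT D z} {a' i : Fin 45} (h : i ∈ X.sigma T) :
    Model.rf a' i ∈ X.sigma (refl X.cls (X.linkTT a') T) := by
  rw [mem_sigma, ← X.refl_link]
  exact linked_act _ (X.mem_sigma.1 h)

/-- The linked tetrads of a tetrad are closed under the transvections. -/
theorem sigma_closed {T : TT D z} {i j : Fin 45} (hi : i ∈ X.sigma T) (hj : j ∈ X.sigma T) :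
    Model.rf i j ∈ X.sigma T := by
  have h := X.mem_sigma_refl (a' := i) hj
  rwa [refl_linked X.env (X.mem_sigma.1 hi)] at h

/-- Each of them is linked to three others. -/
theorem sigma_three {T : TT D z} (hT : ¬ Linked X.baseTT T) {s : Fin 45} (hs : s ∈ X.sigma T) :
    ((X.sigma T).filter fun t => t ≠ s ∧ Model.perp s t = true).card = 3 := by
  classical
  obtain ⟨F', i1, i2, Y, p, hYb, hp⟩ := X.exists_chart_link s
  obtain ⟨x, hx⟩ : ∃ x, T = Y.linkTT x :=
    (Y.eq_link_of_linked (by rw [hYb]; exact X.mem_sigma.1 hs)).resolve_left fun e => hT (by rw [e, hYb]; exact X.linked_base s)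
  have hpx : Model.perp p x = false := by
    rw [Bool.eq_false_iff, ne_eq, ← Y.linked_link_iff, ← hp, ← hx]
    exact hT
  have hset : ((X.sigma T).filter fun t => t ≠ s ∧ Model.perp s t = true).card =
      (Finset.univ.filter fun q : Fin 45 => Model.perp p q = true ∧ Model.perp x q = true).card := by
    have hex : ∀ t ∈ (X.sigma T).filter fun t => t ≠ s ∧ Model.perp s t = true,
        ∃ q, X.linkTT t = Y.linkTT q := by
      intro t ht
      obtain ⟨-, hts, hperp⟩ := Finset.mem_filter.1 ht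
      refine (Y.eq_link_of_linked (by rw [hYb]; exact (X.linked_link_iff s t).2 hperp)).resolve_left fun e => ?_
      exact hts (X.linkTT_inj (e.trans hYb))
    choose q hq using hex
    refine Finset.card_bij q (fun t ht => ?_) (fun t ht t' ht' e => ?_) fun r hr => ?_
    · rw [Finset.mem_filter, ← Y.linked_link_iff, ← Y.linked_link_iff, ← hp, ← hx, ← hq t ht]
      exact ⟨Finset.mem_univ _, X.linked_base t, (X.mem_sigma.1 (Finset.mem_filter.1 ht).1).symm⟩
    · exact X.linkTT_inj ((hq t ht).trans (e ▸ (hq t' ht').symm))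
    · obtain ⟨-, hpr, hxr⟩ := Finset.mem_filter.1 hr
      have hl : Linked X.baseTT (Y.linkTT r) := by rw [hp]; exact (Y.linked_link_iff p r).2 hpr
      rcases X.eq_link_of_linked hl with e | ⟨t, e⟩
      · have : r = p := Y.linkTT_inj (e.trans hp)
        rw [this, Model.perp_symm, hpx] at hxr
        exact absurd hxr Bool.false_ne_true
      have htT : t ∈ X.sigma T := by
        rw [X.mem_sigma, ← e, hx]
        exact ((Y.linked_link_iff x r).2 hxr).symm
      have hst : Linked (X.linkTT s) (X.linkTT t) := by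
        rw [← hYb, ← e]
        exact Y.linked_base r
      have hts : t ≠ s := fun e' => Y.linkTT_ne_base r (by rw [e, e', hYb])
      have htm : t ∈ (X.sigma T).filter fun t => t ≠ s ∧ Model.perp s t = true :=
        Finset.mem_filter.2 ⟨htT, hts, (X.linked_link_iff s t).1 hst⟩
      exact ⟨t, htm, Y.linkTT_inj ((hq t htm).symm.trans e.symm)⟩
  rw [hset]
  exact Model.common_three' p x hpx

theorem sigma_nonempty {T : TT D z} (hT : ¬ Linked X.baseTT T) : (X.sigma T).Nonempty := by
  classical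
  obtain ⟨u, hu⟩ := Finset.card_pos.1 (show 0 < (X.frameLinks T).card by rw [X.frameLinks_two hT]; norm_num)
  simp only [frameLinks, Finset.mem_filter] at hu
  exact ⟨u, X.mem_sigma.2 hu.2⟩

/-- A tetrad can be moved so that `0` and `15` and a further standard point are linked to it. -/
theorem exists_normal {T : TT D z} (hT : ¬ Linked X.baseTT T) :
    ∃ w ∈ X.Wl, 0 ∈ X.sigma (w T) ∧ (15 : Fin 45) ∈ X.sigma (w T) ∧ (25 : Fin 45) ∈ X.sigma (w T) ∧
      ∃ v, v ∈ X.sigma (w T) ∧ Model.perp 15 v = true ∧ v ∉ Model.frame := by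
  classical
  have hpick : ∀ {T' : TT D z}, ¬ Linked X.baseTT T' → 0 ∈ X.sigma T' → (15 : Fin 45) ∈ X.sigma T' →
      ∀ {s : Fin 45}, (s = 0 ∨ s = 15) → ∃ v ∈ X.sigma T', Model.perp s v = true ∧ v ∉ Model.frame := by
    intro T' hT' h0 h15 s hs
    have hsm : s ∈ X.sigma T' := by rcases hs with rfl | rfl <;> assumption
    by_contra hne
    simp only [not_exists, not_and, not_not] at hne
    have hsub : ((X.sigma T').filter fun t => t ≠ s ∧ Model.perp s t = true) ⊆ (X.frameLinks T').erase s := by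
      intro t ht
      obtain ⟨h1, h2, h3⟩ := Finset.mem_filter.1 ht
      refine Finset.mem_erase.2 ⟨h2, ?_⟩
      simp only [frameLinks, Finset.mem_filter, List.mem_toFinset]
      exact ⟨hne t h1 h3, X.mem_sigma.1 h1⟩
    have h1 := Finset.card_le_card hsub
    rw [X.sigma_three hT' hsm] at h1
    have h2 := (Finset.card_erase_le (a := s) (s := X.frameLinks T'))
    rw [X.frameLinks_two hT'] at h2
    omega
  have step : ∀ a', refl X.cls (X.linkTT a') ∈ X.Wl := X.refl_mem_Wl
  obtain ⟨s, hs⟩ := X.sigma_nonempty hT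
  obtain ⟨w1, hw1, h0⟩ : ∃ w ∈ X.Wl, 0 ∈ X.sigma (w T) := by
    rcases Model.move_first s with rfl | ⟨a', ha⟩ | ⟨a', b', ha⟩
    · exact ⟨1, one_mem _, hs⟩
    · exact ⟨_, step a', ha ▸ X.mem_sigma_refl hs⟩
    · exact ⟨_ * _, mul_mem (step a') (step b'), ha ▸ X.mem_sigma_refl (X.mem_sigma_refl hs)⟩
  have hT1 : ¬ Linked X.baseTT (w1 T) := fun h => hT ((X.Wl_far hw1).1 h)
  have keep : ∀ {a' i : Fin 45} {T' : TT D z}, Model.perp a' i = true → i ∈ X.sigma T' →
      i ∈ X.sigma (refl X.cls (X.linkTT a') T') := fun {a' i T'} hp hi => by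
    have := X.mem_sigma_refl (a' := a') hi
    rwa [Model.rf_fix a' i hp] at this
  obtain ⟨t, ht⟩ : ((X.sigma (w1 T)).filter fun t => t ≠ 0 ∧ Model.perp 0 t = true).Nonempty := by
    rw [← Finset.card_pos, X.sigma_three hT1 h0]; norm_num
  obtain ⟨ht, ht0, htp⟩ := Finset.mem_filter.1 ht
  have sym : ∀ {p q}, Model.perp p q = true → Model.perp q p = true := fun {p q} h => by
    rwa [Model.perp_symm]
  obtain ⟨w2, hw2, h0', h15⟩ : ∃ w ∈ X.Wl, 0 ∈ X.sigma (w T) ∧ (15 : Fin 45) ∈ X.sigma (w T) := by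
    rcases Model.move_second t ht0 htp with rfl | ⟨a', hp, ha⟩ | ⟨a', b', hp, hq, ha⟩
    · exact ⟨w1, hw1, h0, ht⟩
    · exact ⟨_ * w1, mul_mem (step a') hw1, keep (sym hp) h0, ha ▸ X.mem_sigma_refl ht⟩
    · exact ⟨_ * (_ * w1), mul_mem (step a') (mul_mem (step b') hw1), keep (sym hp) (keep (sym hq) h0),
        ha ▸ X.mem_sigma_refl (X.mem_sigma_refl ht)⟩
  have hT2 : ¬ Linked X.baseTT (w2 T) := fun h => hT ((X.Wl_far hw2).1 h)
  obtain ⟨w, hw, hwp, hwf⟩ := hpick hT2 h0' h15 (Or.inl rfl)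
  obtain ⟨w3, hw3, g0, g15, g25⟩ : ∃ u ∈ X.Wl, 0 ∈ X.sigma (u T) ∧ (15 : Fin 45) ∈ X.sigma (u T) ∧
      (25 : Fin 45) ∈ X.sigma (u T) := by
    rcases Model.move_third w hwp hwf with rfl | h25 | ⟨a', hp, hq, h25 | h25⟩
    · exact ⟨w2, hw2, h0', h15, hw⟩
    · exact ⟨w2, hw2, h0', h15, h25 ▸ X.sigma_closed h15 hw⟩
    · exact ⟨_ * w2, mul_mem (step a') hw2, keep (sym hp) h0', keep (sym hq) h15, h25 ▸ X.mem_sigma_refl hw⟩
    · exact ⟨_ * w2, mul_mem (step a') hw2, keep (sym hp) h0', keep (sym hq) h15,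
        h25 ▸ X.sigma_closed (keep (sym hq) h15) (X.mem_sigma_refl hw)⟩
  have hT3 : ¬ Linked X.baseTT (w3 T) := fun h => hT ((X.Wl_far hw3).1 h)
  obtain ⟨v, hv, hvp, hvf⟩ := hpick hT3 g0 g15 (Or.inr rfl)
  exact ⟨w3, hw3, g0, g15, g25, v, hv, hvp, hvf⟩

theorem closeStep_subset {T : TT D z} {s : List (Fin 45)} (hs : ∀ q ∈ s, q ∈ X.sigma T) :
    ∀ q ∈ Model.closeStep s, q ∈ X.sigma T := by
  intro q hq
  simp only [Model.closeStep, List.mem_filter, Bool.or_eq_true, List.contains_eq_mem, decide_eq_true_eq,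
    List.any_eq_true, beq_iff_eq] at hq
  rcases hq.2 with h | ⟨i, hi, j, hj, rfl⟩
  exacts [hs q h, X.sigma_closed (hs i hi) (hs j hj)]

/-- A normalised tetrad: at most eighteen linked, and then the standard ones. -/
theorem normal_bound {T : TT D z} (hT : ¬ Linked X.baseTT T) (h0 : 0 ∈ X.sigma T)
    (h15 : (15 : Fin 45) ∈ X.sigma T) (h25 : (25 : Fin 45) ∈ X.sigma T) {v : Fin 45} (hv : v ∈ X.sigma T)
    (hvp : Model.perp 15 v = true) (hvf : v ∉ Model.frame) :
    (X.sigma T).card < 18 ∨ X.sigma T ⊆ Model.sigma0.toFinset := by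
  classical
  have hcl : ∀ q ∈ Model.closed4 v, q ∈ X.sigma T :=
    X.closeStep_subset (X.closeStep_subset (X.closeStep_subset (by simp [h0, h15, h25, hv])))
  have hok := Model.case_ok v hvp hvf
  simp only [Model.caseOk, Bool.and_eq_true, List.all_eq_true, beq_iff_eq, Bool.or_eq_true, Nat.blt_eq,
    List.contains_eq_mem, decide_eq_true_eq] at hok
  obtain ⟨hfull, hcases⟩ := hok
  have hnd : (Model.closed4 v).Nodup := (List.nodup_finRange _).filter _
  have hsub : X.sigma T ⊆ (Model.addable v).toFinset := by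
    intro q hq
    rw [List.mem_toFinset, Model.addable, List.mem_filter]
    refine ⟨List.mem_finRange _, ?_⟩
    simp only [Bool.or_eq_true, List.contains_eq_mem, decide_eq_true_eq, Bool.not_eq_true',
      List.any_eq_false]
    by_cases hqc : q ∈ Model.closed4 v
    · exact Or.inl hqc
    refine Or.inr fun r hr hperp => hqc ?_
    have hrperp : Model.perp r q = true := by rwa [Model.perp_symm]
    have hqr : q ≠ r := fun e => hqc (e ▸ hr)
    set l := (Model.closed4 v).filter fun t => t != r && Model.perp r t with hl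
    have hlsub : l.toFinset ⊆ (X.sigma T).filter fun t => t ≠ r ∧ Model.perp r t = true := by
      intro t ht
      rw [List.mem_toFinset, hl, List.mem_filter] at ht
      simp only [Bool.and_eq_true, bne_iff_ne] at ht
      exact Finset.mem_filter.2 ⟨hcl t ht.1, ht.2⟩
    have heq := Finset.eq_of_subset_of_card_le hlsub (by
      rw [X.sigma_three hT (hcl r hr), List.toFinset_card_of_nodup (hnd.filter _),
        ← List.countP_eq_length_filter, hfull r hr])
    have hqm : q ∈ l.toFinset := heq ▸ Finset.mem_filter.2 ⟨hq, hqr, hrperp⟩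
    exact (List.mem_filter.1 (List.mem_toFinset.1 hqm)).1
  rcases hcases with h | h
  · exact Or.inl (((Finset.card_le_card hsub).trans (List.toFinset_card_le _)).trans_lt h)
  · refine Or.inr fun q hq => List.mem_toFinset.2 (h q ?_)
    exact List.mem_toFinset.1 (hsub hq)

theorem card_sigma_le {T : TT D z} (hT : ¬ Linked X.baseTT T) : (X.sigma T).card ≤ 18 := by
  obtain ⟨w, hw, h0, h15, h25, v, hv, hvp, hvf⟩ := X.exists_normal hT
  rw [← X.card_sigma_Wl hw]
  rcases X.normal_bound (fun h => hT ((X.Wl_far hw).1 h)) h0 h15 h25 hv hvp hvf with h | h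
  · exact h.le
  · exact (Finset.card_le_card h).trans ((List.toFinset_card_le _).trans Model.sigma0_facts.2.le)

theorem card_sigma {T : TT D z} (hT : ¬ Linked X.baseTT T) : (X.sigma T).card = 18 := by
  classical
  haveI : Fintype (TT D z) := Fintype.ofFinite _
  set S : Finset (TT D z) := Finset.univ.filter fun T => ¬ Linked X.baseTT T with hS
  have hScard : S.card = 80 := by
    rw [← X.card_far, Nat.card_eq_fintype_card, Fintype.card_subtype]
  have h32 : ∀ f : Fin 45, (S.filter fun T => Linked (X.linkTT f) T).card = 32 := fun f => by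
    rw [← X.card_far_link f, Nat.card_eq_fintype_card, Fintype.card_subtype, hS, Finset.filter_filter]
  have hsum : ∑ T ∈ S, (X.sigma T).card = 1440 := by
    rw [show ∑ T ∈ S, (X.sigma T).card = ∑ f : Fin 45, (S.filter fun T => Linked (X.linkTT f) T).card from ?_,
      Finset.sum_congr rfl (fun f _ => h32 f), Finset.sum_const, Finset.card_univ, Fintype.card_fin]
    · rfl
    · simp only [sigma, Finset.card_filter]
      exact Finset.sum_comm
  have heq := (Finset.sum_eq_sum_iff_of_le (g := fun _ => 18) fun T hT =>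
    X.card_sigma_le (Finset.mem_filter.1 hT).2).1 (by rw [hsum, Finset.sum_const, hScard, smul_eq_mul])
  exact heq T (Finset.mem_filter.2 ⟨Finset.mem_univ _, hT⟩)

/-- Standard: linked to exactly the standard eighteen. -/
def IsStd (X : Chart D z a b c d F) (T : TT D z) : Prop :=
  ¬ Linked X.baseTT T ∧ X.sigma T = Model.sigma0.toFinset

theorem exists_std {T : TT D z} (hT : ¬ Linked X.baseTT T) : ∃ w ∈ X.Wl, X.IsStd (w T) := by
  obtain ⟨w, hw, h0, h15, h25, v, hv, hvp, hvf⟩ := X.exists_normal hT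
  have hT' : ¬ Linked X.baseTT (w T) := fun h => hT ((X.Wl_far hw).1 h)
  refine ⟨w, hw, hT', ?_⟩
  have h18 := X.card_sigma hT'
  rcases X.normal_bound hT' h0 h15 h25 hv hvp hvf with h | h
  · omega
  · refine Finset.eq_of_subset_of_card_le h ?_
    rw [h18]
    exact (List.toFinset_card_le _).trans Model.sigma0_facts.2.le

theorem std_refl {T : TT D z} (h : X.IsStd T) : X.IsStd (refl X.cls X.baseTT T) := by
  have hb : refl X.cls X.baseTT X.baseTT = X.baseTT := refl_linked X.env (linked_self X.hset _)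
  refine ⟨fun hl => h.1 ((X.far_act hb).1 hl), ?_⟩
  rw [refl, X.sigma_act (π := 1) (fun i => refl_linked X.env (X.linked_base i)), h.2]
  exact Finset.map_refl

/-- There are at most two standard ones. -/
theorem std_two {T T' : TT D z} (h : X.IsStd T) (h' : X.IsStd T') :
    T' = T ∨ T' = refl X.cls X.baseTT T := by
  classical
  by_contra hne
  rw [not_or] at hne
  have h'' := X.std_refl h
  obtain ⟨F', i1, i2, Y, p, hYb, hp⟩ := X.exists_chart_link 0
  have hex : ∀ {S : TT D z}, X.IsStd S → ∃ x, S = Y.linkTT x ∧ Model.perp p x = false := fun {S} hS => by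
    have hl : Linked (X.linkTT 0) S :=
      X.mem_sigma.1 (by rw [hS.2, List.mem_toFinset]; decide)
    obtain ⟨x, hx⟩ := (Y.eq_link_of_linked (by rw [hYb]; exact hl)).resolve_left fun e => hS.1 (by rw [e, hYb]; exact X.linked_base 0)
    refine ⟨x, hx, ?_⟩
    rw [Bool.eq_false_iff, ne_eq, ← Y.linked_link_iff, ← hp, ← hx]
    exact hS.1
  obtain ⟨x, rfl, hx⟩ := hex h
  obtain ⟨y, hy, hy'⟩ := hex h'
  obtain ⟨w, hw, hw'⟩ := hex h''
  have key : ∀ {r : Fin 45}, X.IsStd (Y.linkTT r) → r ∈ (List.finRange 45).filter fun y =>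
      Nat.land (Model.perpRows.getD y.val 0) (Model.perpRows.getD p.val 0) ==
        Nat.land (Model.perpRows.getD x.val 0) (Model.perpRows.getD p.val 0) := by
    intro r hr
    refine List.mem_filter.2 ⟨List.mem_finRange _, beq_iff_eq.2 (Model.land_eq_of fun q hq => ?_)⟩
    rw [Bool.eq_iff_iff, ← Y.linked_link_iff, ← Y.linked_link_iff]
    have hl : Linked X.baseTT (Y.linkTT q) := by rw [hp]; exact (Y.linked_link_iff p q).2 hq
    rcases X.eq_link_of_linked hl with e | ⟨t, e⟩
    · rw [e]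
      exact ⟨fun hl' => absurd hl'.symm hr.1, fun hl' => absurd hl'.symm h.1⟩
    · rw [e]
      constructor <;> intro hl' <;> refine (X.mem_sigma.1 ?_).symm
      · rw [h.2, ← hr.2]; exact X.mem_sigma.2 hl'.symm
      · rw [hr.2, ← h.2]; exact X.mem_sigma.2 hl'.symm
  have m1 := key h
  have m2 := key (hy ▸ h')
  have m3 := key (hw ▸ h'')
  have hlen := Model.pattern_two p x hx
  rw [List.countP_eq_length_filter] at hlen
  obtain ⟨y₁, y₂, hL⟩ := List.length_eq_two.1 hlen
  rw [hL] at m1 m2 m3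
  simp only [List.mem_cons, List.not_mem_nil, or_false] at m1 m2 m3
  have n1 : y ≠ x := fun e => hne.1 (hy.trans (e ▸ rfl))
  have n2 : w ≠ x := fun e => refl_moves X.env h.1 (hw.trans (e ▸ rfl))
  have n3 : y ≠ w := fun e => hne.2 (hy.trans (e ▸ hw.symm))
  rcases m1 with rfl | rfl <;> rcases m2 with rfl | rfl <;> rcases m3 with rfl | rfl <;>
    first
      | exact n1 rfl
      | exact n2 rfl
      | exact n3 rfl

/-- The reflection at the base agrees at each far tetrad with a product of the others. -/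
theorem refl_base_orbit {T : TT D z} (hT : ¬ Linked X.baseTT T) :
    ∃ w ∈ X.Wl, w T = refl X.cls X.baseTT T := by
  obtain ⟨u, hu⟩ := X.sigma_nonempty hT
  obtain ⟨F', i1, i2, Y, p, hYb, hp⟩ := X.exists_chart_link u
  obtain ⟨x, hx⟩ : ∃ x, T = Y.linkTT x :=
    (Y.eq_link_of_linked (by rw [hYb]; exact X.mem_sigma.1 hu)).resolve_left fun e => hT (by rw [e, hYb]; exact X.linked_base u)
  obtain ⟨r1, r2, r3, r4, n1, n2, n3, n4, q1, q2, q3, q4, hrel⟩ := Model.line_rel p
  have hmem : ∀ {r}, r ≠ p → Model.perp p r = true → refl X.cls (Y.linkTT r) ∈ X.Wl := fun {r} hn hq => by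
    rcases X.eq_link_of_linked (show Linked X.baseTT (Y.linkTT r) by rw [hp]; exact (Y.linked_link_iff p r).2 hq) with e | ⟨t, e⟩
    · exact absurd (Y.linkTT_inj (e.trans hp)) hn
    · rw [e]; exact X.refl_mem_Wl t
  refine ⟨_ * (_ * (_ * _)), mul_mem (hmem n1 q1) (mul_mem (hmem n2 q2) (mul_mem (hmem n3 q3) (hmem n4 q4))), ?_⟩
  rw [hp, hx, Equiv.Perm.mul_apply, Equiv.Perm.mul_apply, Equiv.Perm.mul_apply, Y.refl_link, Y.refl_link,
    Y.refl_link, Y.refl_link, Y.refl_link, hrel]

/-- The linked reflections are transitive on the tetrads not linked to the base. -/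
theorem far_transitive {T T' : TT D z} (hT : ¬ Linked X.baseTT T) (hT' : ¬ Linked X.baseTT T') :
    ∃ w ∈ X.Wl, w T = T' := by
  obtain ⟨w, hw, hs⟩ := X.exists_std hT
  obtain ⟨w', hw', hs'⟩ := X.exists_std hT'
  have back : ∀ {u}, u (w T) = w' T' → ((w'⁻¹ * u * w : Equiv.Perm (TT D z))) T = T' := fun {u} h => by
    rw [Equiv.Perm.mul_apply, Equiv.Perm.mul_apply, h]
    exact w'.symm_apply_apply T'
  rcases X.std_two hs hs' with e | e
  · exact ⟨_, mul_mem (mul_mem (inv_mem hw') (one_mem _)) hw, back (u := 1) (by rw [e]; rfl)⟩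
  · obtain ⟨u, hu, he⟩ := X.refl_base_orbit hs.1
    exact ⟨_, mul_mem (mul_mem (inv_mem hw') hu) hw, back (u := u) (he.trans e.symm)⟩

end Chart

end CfsgLib.FischerTetrad
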