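import Cfsg.Agent.Lib.FischerTetrad.Links
import Cfsg.Agent.Lib.FischerTriple.Main

/-!
The centraliser of the four members: its action in dimension four and the kernel of that action.
-/

set_option autoImplicit false
set_option linter.unusedSectionVars false

namespace CfsgLib.FischerTetrad

open Subgroup CfsgLib.Classical.Herm HermSpace CfsgLib.UnitaryTransv
open CfsgLib.ThreeTrans (link mul_self inv_eq conj_self_of_commute commute_conj_iff')
open CfsgLib.FischerType CfsgLib.FischerInvol CfsgLib.FischerTriple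
open CfsgLib.FischerThompson (v0 hv0 v0_ne_zero Stab resHom qel QCond qel_mem res_qel ker_res qel_inj det_res
  exists_res qel_mul invariant_top h4_diag f_pow_four)
open CfsgLib.FischerType.U6 (proj proj_surjective ptv)

variable {F : Type} [Field F] [Fintype F] (hF : Fintype.card F = 2 ^ 2)

theorem exists_qcond (u : Fin 4 → F) : ∃ c, QCond hF u c := by
  obtain ⟨ω, hω⟩ := CfsgLib.U6Cover.exists_omega hF
  by_cases h0 : (stdHerm hF 4).h u u = 0
  · exact ⟨0, by unfold QCond; rw [h0]; ring⟩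
  · refine ⟨ω, ?_⟩
    unfold QCond
    rw [CfsgLib.U6Cover.fixed_eq_one hF (h4_diag hF u) h0]
    linear_combination hω - two_eq_zero hF

theorem qcond_shift {u : Fin 4 → F} {c : F} (h : QCond hF u c) : QCond hF u (c + 1) := by
  unfold QCond at *
  linear_combination h + (c + 1) * two_eq_zero hF

theorem qcond_cases {u : Fin 4 → F} {c c' : F} (h : QCond hF u c) (h' : QCond hF u c') :
    c' = c ∨ c' = c + 1 := by
  unfold QCond at *
  have h1 : (c + c') * (c + c' + 1) = 0 := by linear_combination h - h' + (c * c' + c' + c' ^ 2) * two_eq_zero hF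
  rcases mul_eq_zero.1 h1 with e | e
  · exact Or.inl (by linear_combination e - c * two_eq_zero hF)
  · exact Or.inr (by linear_combination e - (c + 1) * two_eq_zero hF)

theorem qcond_add {u u' : Fin 4 → F} {c c' : F} (hc : QCond hF u c) (hc' : QCond hF u' c') :
    QCond hF (u + u') (c + c' + (stdHerm hF 4).h u' u) := by
  unfold QCond at *
  rw [(stdHerm hF 4).add_left, (stdHerm hF 4).add_right, (stdHerm hF 4).add_right]
  linear_combination hc + hc' + CfsgLib.FischerThompson.h4_conj hF u' u +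
    (c * c' + c * (stdHerm hF 4).h u' u + c' * (stdHerm hF 4).h u' u) * two_eq_zero hF

/-- The stabiliser of the vector has order `2 ^ 9 * 25920`. -/
theorem card_stab : Nat.card (Stab hF) = 512 * 25920 := by
  have hker : Nat.card (resHom hF).ker = 512 := by
    choose c0 hc0 using exists_qcond hF
    have hq : ∀ p : (Fin 4 → F) × Bool, QCond hF p.1 (cond p.2 (c0 p.1 + 1) (c0 p.1)) := fun p => by
      cases p.2
      exacts [hc0 _, qcond_shift hF (hc0 _)]
    let f : (Fin 4 → F) × Bool → (resHom hF).ker := fun p =>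
      ⟨⟨qel hF p.1 (cond p.2 (c0 p.1 + 1) (c0 p.1)) (hq p),
        qel_mem hF _ _ _⟩, MonoidHom.mem_ker.2 (res_qel hF _ _ _)⟩
    have hf : Function.Bijective f := by
      refine ⟨fun p q h => ?_, fun k => ?_⟩
      · have h' : qel hF p.1 (cond p.2 (c0 p.1 + 1) (c0 p.1)) (hq p) =
            qel hF q.1 (cond q.2 (c0 q.1 + 1) (c0 q.1)) (hq q) :=
          congrArg (fun k : (resHom hF).ker => (k.1 : Stab hF).1) h
        obtain ⟨e1, e2⟩ := qel_inj hF h'
        obtain ⟨u, i⟩ := p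
        obtain ⟨u', j⟩ := q
        obtain rfl : u = u' := e1
        cases i <;> cases j <;> simp at e2 ⊢
      · obtain ⟨u, c, hc, e⟩ := ker_res hF (MonoidHom.mem_ker.1 k.2)
        rcases qcond_cases hF (hc0 u) hc with r | r <;> subst r
        · exact ⟨(u, false), Subtype.ext (Subtype.ext e.symm)⟩
        · exact ⟨(u, true), Subtype.ext (Subtype.ext e.symm)⟩
    rw [← Nat.card_congr (Equiv.ofBijective f hf), Nat.card_prod, Nat.card_fun, Nat.card_eq_fintype_card (α := F),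
      hF, Nat.card_eq_fintype_card (α := Bool), Nat.card_eq_fintype_card (α := Fin 4)]
    norm_num
  have hrange : (resHom hF).range = (detHom (stdHerm hF 4)).ker := by
    ext m
    rw [MonoidHom.mem_ker]
    exact ⟨fun ⟨k, hk⟩ => hk ▸ det_res hF k, fun h => exists_res hF h⟩
  rw [← (resHom hF).ker.card_mul_index, index_ker, hker, hrange, card_detKer_four hF]

variable {G : Type*} [Group G] [Finite G] {D : Set G} {z a b c d : G}

namespace Chart

variable (X : Chart D z a b c d F)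

include X

/-- The centraliser of the four members. -/
def Kd (_X : Chart D z a b c d F) : Subgroup G := C3 a b c ⊓ centralizer ({d} : Set G)

theorem mem_Kd {g : G} : g ∈ X.Kd ↔ Commute g a ∧ Commute g b ∧ Commute g c ∧ Commute g d := by
  show g ∈ C3 a b c ∧ g ∈ centralizer ({d} : Set G) ↔ _
  rw [mem_C3, mem_centralizer_singleton_iff, and_assoc, and_assoc]
  rfl

theorem Kd_comm_z {g : G} (hg : g ∈ X.Kd) : Commute g z := by
  obtain ⟨h1, h2, h3, h4⟩ := X.mem_Kd.1 hg
  rw [← X.tet.prod]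
  exact ((h1.mul_right h2).mul_right h3).mul_right h4

theorem exists_kap (k : X.Kd) :
    ∃ s : Stab X.hF, proj X.hF ⟨s.1, MonoidHom.mem_ker.2 s.2.2⟩ = X.θ ⟨k, k.2.1⟩ := by
  refine exists_stab_of_commute X.hF ?_
  rw [← X.base]
  exact Commute.map (Subtype.ext (mem_centralizer_singleton_iff.1 k.2.2)) X.θ

/-- The isometry fixing the vector over an element of the centraliser. -/
noncomputable def kap (X : Chart D z a b c d F) : X.Kd →* Stab X.hF :=
  MonoidHom.mk' (fun k => (X.exists_kap k).choose) fun k k' => by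
    refine stab_inj X.hF ?_
    rw [(X.exists_kap (k * k')).choose_spec]
    exact (map_mul X.θ ⟨k, k.2.1⟩ ⟨k', k'.2.1⟩).trans ((congrArg₂ (· * ·) (X.exists_kap k).choose_spec.symm
      (X.exists_kap k').choose_spec.symm).trans (map_mul (proj X.hF) _ _).symm)

theorem kap_spec (k : X.Kd) :
    proj X.hF ⟨(X.kap k).1, MonoidHom.mem_ker.2 (X.kap k).2.2⟩ = X.θ ⟨k, k.2.1⟩ :=
  (X.exists_kap k).choose_spec

/-- The action in dimension four. -/
noncomputable def rho (X : Chart D z a b c d F) : X.Kd →* Unit' (stdHerm X.hF 4) := (resHom X.hF).comp X.kap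

theorem kap_eq_one_iff (k : X.Kd) : X.kap k = 1 ↔ (k : G) ∈ closure ({a, b, c} : Set G) := by
  constructor
  · intro h
    refine X.ker_le ⟨k, k.2.1⟩ ?_
    rw [← X.kap_spec, h]
    exact map_one _
  · intro h
    refine stab_inj X.hF ?_
    rw [X.kap_spec, X.le_ker _ h]
    exact (map_one _).symm

theorem kap_surjective : Function.Surjective X.kap := by
  intro s
  obtain ⟨⟨g, hg⟩, hgs⟩ := X.surj (proj X.hF ⟨s.1, MonoidHom.mem_ker.2 s.2.2⟩)
  have h := X.over_d.conj X ⟨g, hg⟩ ⟨s.1, MonoidHom.mem_ker.2 s.2.2⟩ hgs.symm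
  have h1 : g * d * g⁻¹ = d :=
    (Over.unique X X.over_d h (α := 1) (by rw [one_smul]; exact s.2.1)).symm
  refine ⟨⟨g, hg, mem_centralizer_singleton_iff.2 (mul_inv_eq_iff_eq_mul.1 h1)⟩, stab_inj X.hF ?_⟩
  rw [X.kap_spec]
  exact hgs

theorem card_Kd : Nat.card X.Kd = 4096 * 25920 := by
  have hker : Nat.card X.kap.ker = 8 := by
    have habc : ∀ i, pr3 a b c i ∈ X.Kd := by
      have hle : closure ({a, b, c} : Set G) ≤ X.Kd := (closure_le _).2 (by
        have h := X.tet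
        rintro s (rfl | rfl | rfl) <;> refine X.mem_Kd.2 ?_
        · exact ⟨Commute.refl _, h.cab, h.cac, h.cad⟩
        · exact ⟨h.cab.symm, Commute.refl _, h.cbc, h.cbd⟩
        · exact ⟨h.cac.symm, h.cbc.symm, Commute.refl _, h.ccd⟩)
      exact fun i => hle ((mem_closure_three X.hset X.tet.tri).2 ⟨i, rfl⟩)
    let f : Bool × Bool × Bool → X.kap.ker := fun i =>
      ⟨⟨pr3 a b c i, habc i⟩,
        MonoidHom.mem_ker.2 ((X.kap_eq_one_iff _).2 ((mem_closure_three X.hset X.tet.tri).2 ⟨i, rfl⟩))⟩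
    have hf : Function.Bijective f := by
      refine ⟨fun i j h => pr3_injective X.env X.tet.tri (congrArg (fun k : X.kap.ker => ((k.1 : X.Kd) : G)) h),
        fun k => ?_⟩
      obtain ⟨i, hi⟩ := (mem_closure_three X.hset X.tet.tri).1 ((X.kap_eq_one_iff _).1 (MonoidHom.mem_ker.1 k.2))
      exact ⟨i, Subtype.ext (Subtype.ext hi)⟩
    rw [← Nat.card_congr (Equiv.ofBijective f hf)]
    simp [Nat.card_prod]
  rw [← X.kap.ker.card_mul_index, index_ker, hker, MonoidHom.range_eq_top.2 X.kap_surjective, card_top,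
    card_stab]

theorem rho_range : X.rho.range = (detHom (stdHerm X.hF 4)).ker := by
  ext m
  rw [MonoidHom.mem_ker]
  constructor
  · rintro ⟨k, rfl⟩
    exact det_res X.hF _
  · intro h
    obtain ⟨s, hs⟩ := exists_res X.hF h
    obtain ⟨k, hk⟩ := X.kap_surjective s
    exact ⟨k, by show resHom X.hF (X.kap k) = m; rw [hk, hs]⟩

theorem card_rho_ker : Nat.card X.rho.ker = 4096 := by
  have h := X.rho.ker.card_mul_index
  rw [index_ker, X.rho_range, card_detKer_four, X.card_Kd] at h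
  omega

/-- The parameter of an element of the kernel. -/
def Par (X : Chart D z a b c d F) (g : G) (u : Fin 4 → F) : Prop :=
  ∃ (h : g ∈ X.Kd) (c' : F) (hc : QCond X.hF u c'), (X.kap ⟨g, h⟩).1 = qel X.hF u c' hc

theorem Par.mem {g : G} {u : Fin 4 → F} (h : X.Par g u) : g ∈ X.Kd := h.1

theorem Par.rho_eq {g : G} {u : Fin 4 → F} (h : X.Par g u) : X.rho ⟨g, Par.mem X h⟩ = 1 := by
  obtain ⟨hg, c', hc, e⟩ := h
  show resHom X.hF (X.kap ⟨g, hg⟩) = 1
  rw [show X.kap ⟨g, hg⟩ = ⟨qel X.hF u c' hc, qel_mem X.hF u c' hc⟩ from Subtype.ext e]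
  exact res_qel X.hF u c' hc

theorem exists_par (k : X.Kd) (h : X.rho k = 1) : ∃ u, X.Par k u := by
  obtain ⟨u, c', hc, e⟩ := ker_res X.hF h
  exact ⟨u, k.2, c', hc, e⟩

theorem Par.mul {g g' : G} {u u' : Fin 4 → F} (h : X.Par g u) (h' : X.Par g' u') : X.Par (g * g') (u + u') := by
  obtain ⟨hg, c1, hc, e⟩ := h
  obtain ⟨hg', c2, hc', e'⟩ := h'
  refine ⟨mul_mem hg hg', _, qcond_add X.hF hc hc', ?_⟩
  rw [← qel_mul X.hF hc hc', ← e, ← e', ← Subgroup.coe_mul, ← map_mul]
  rfl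

theorem Par.unique {g : G} {u u' : Fin 4 → F} (h : X.Par g u) (h' : X.Par g u') : u = u' := by
  obtain ⟨_, c1, hc, e⟩ := h
  obtain ⟨_, c2, hc', e'⟩ := h'
  exact (qel_inj X.hF (e.symm.trans e')).1

theorem add_self_vec (u : Fin 4 → F) : u + u = 0 := smul_add_self_zero X.hF u

theorem par_one : X.Par 1 0 := by
  have hc : QCond X.hF (0 : Fin 4 → F) 0 := by unfold QCond; rw [(stdHerm X.hF 4).zero_left]; ring
  refine ⟨one_mem _, 0, hc, ?_⟩
  rw [show (⟨1, one_mem _⟩ : X.Kd) = 1 from rfl, map_one]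
  exact unit_ext fun x => (CfsgLib.FischerThompson.qFun_zero X.hF x).symm

theorem Par.inv {g : G} {u : Fin 4 → F} (h : X.Par g u) : X.Par g⁻¹ u := by
  obtain ⟨u', h'⟩ := X.exists_par ⟨g⁻¹, inv_mem (Par.mem X h)⟩ (by
    rw [show (⟨g⁻¹, inv_mem (Par.mem X h)⟩ : X.Kd) = ⟨g, Par.mem X h⟩⁻¹ from rfl, map_inv, Par.rho_eq X h, inv_one])
  have h1 := Par.mul X h h'
  rw [mul_inv_cancel] at h1
  have h0 := Par.unique X X.par_one h1
  have : u' = u := by
    calc u' = u + u + u' := by rw [X.add_self_vec, zero_add]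
      _ = u := by rw [add_assoc, ← h0, add_zero]
  rwa [this] at h'

theorem Par.conj {g k : G} {u : Fin 4 → F} (h : X.Par g u) (hk : k ∈ X.Kd) :
    X.Par (k * g * k⁻¹) ((X.rho ⟨k, hk⟩).1 u) := by
  have hg := Par.mem X h
  have hrho : X.rho ⟨k * g * k⁻¹, mul_mem (mul_mem hk hg) (inv_mem hk)⟩ = 1 := by
    rw [show (⟨k * g * k⁻¹, _⟩ : X.Kd) = ⟨k, hk⟩ * ⟨g, hg⟩ * ⟨k, hk⟩⁻¹ from rfl, map_mul, map_mul,
      Par.rho_eq X h, mul_one, map_inv, mul_inv_cancel]
  obtain ⟨u', h'⟩ := X.exists_par _ hrho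
  obtain ⟨_, c', hc, e⟩ := h
  obtain ⟨h1, c2, hc2, e2⟩ := id h'
  have e3 := CfsgLib.FischerThompson.conj_qel X.hF (X.kap ⟨k, hk⟩) u c' hc
  have e4 : (X.kap ⟨k * g * k⁻¹, h1⟩).1 = (X.kap ⟨k, hk⟩).1 * qel X.hF u c' hc * ((X.kap ⟨k, hk⟩).1)⁻¹ := by
    rw [show (⟨k * g * k⁻¹, h1⟩ : X.Kd) = ⟨k, hk⟩ * ⟨g, hg⟩ * ⟨k, hk⟩⁻¹ from rfl, map_mul, map_mul, map_inv, ← e]
    rfl
  change (X.kap ⟨k * g * k⁻¹, h1⟩).1 = _ at e2
  rw [← e4, e2, CfsgLib.FischerThompson.qel_f0, CfsgLib.FischerThompson.wp_add, CfsgLib.FischerThompson.wp_add,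
    CfsgLib.FischerThompson.wp_smul, CfsgLib.FischerThompson.wp_v0, CfsgLib.FischerThompson.wp_f0,
    CfsgLib.FischerThompson.wp_em, smul_zero, add_zero, zero_add] at e3
  change u' = (X.rho ⟨k, hk⟩).1 u at e3
  rwa [e3] at h'

theorem conj_member_Kd (k : X.Kd) (i : Fin 45) (l : F) :
    X.Over ((k : G) * X.member i l * (k : G)⁻¹) ((X.kap k).1.1 (wvec (xv X.hF i) l)) :=
  (X.member_over i l).conj X ⟨k, k.2.1⟩ ⟨_, MonoidHom.mem_ker.2 (X.kap k).2.2⟩ (X.kap_spec k)

theorem Par.conj_member {g : G} {u : Fin 4 → F} (h : X.Par g u) (i : Fin 45) (l : F) :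
    g * X.member i l * g⁻¹ = X.member i (l + (stdHerm X.hF 4).h (xv X.hF i) u) := by
  obtain ⟨hg, c', hc, e⟩ := h
  refine X.member_eq_of_over ?_
  have := X.conj_member_Kd ⟨g, hg⟩ i l
  rwa [e, qel_wvec] at this

theorem member_mem_Kd (i : Fin 45) (l : F) : X.member i l ∈ X.Kd :=
  X.mem_Kd.2 ⟨(X.member_comm_base (Or.inl rfl) i l).symm, (X.member_comm_base (Or.inr (Or.inl rfl)) i l).symm,
    (X.member_comm_base (Or.inr (Or.inr (Or.inl rfl))) i l).symm, X.member_comm_d i l⟩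

theorem par_pair (i : Fin 45) {l : F} (hl : l ≠ 0) :
    X.Par (X.member i 0 * X.member i l) (l ^ 2 • xv X.hF i) := by
  refine ⟨mul_mem (X.member_mem_Kd i 0) (X.member_mem_Kd i l), 1, qcond_iso X.hF (xv_iso X.hF i) _, ?_⟩
  rw [← tv_mul_tv X.hF (xv_iso X.hF i) hl]
  have hm : tv X.hF (wvec (xv X.hF i) 0) (wvec_iso X.hF (xv_iso X.hF i) 0) *
      tv X.hF (wvec (xv X.hF i) l) (wvec_iso X.hF (xv_iso X.hF i) l) ∈ Stab X.hF :=
    ⟨by rw [tv_mul_tv X.hF (xv_iso X.hF i) hl]; exact CfsgLib.FischerThompson.qel_v0 X.hF _ _ _,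
      by rw [map_mul, det_tv, det_tv, one_mul]⟩
  refine congrArg Subtype.val (a₂ := (⟨_, hm⟩ : Stab X.hF)) (stab_inj X.hF ?_)
  rw [X.kap_spec]
  obtain ⟨h0, _, -, e0⟩ := X.member_over i 0
  obtain ⟨h1, _, -, e1⟩ := X.member_over i l
  show X.θ (⟨_, triLink_subset h0⟩ * ⟨_, triLink_subset h1⟩) = _
  rw [map_mul, e0, e1, ptv, ptv, ← map_mul]
  rfl

theorem wvec_image (k : X.Kd) (x : Fin 4 → F) (l : F) :
    CfsgLib.FischerThompson.wp ((X.kap k).1.1 (wvec x l)) = (X.rho k).1 x := by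
  show _ = CfsgLib.FischerThompson.wp ((X.kap k).1.1 (CfsgLib.FischerThompson.em x))
  rw [wvec, map_add, map_smul, (X.kap k).2.1, CfsgLib.FischerThompson.wp_add, CfsgLib.FischerThompson.wp_smul,
    CfsgLib.FischerThompson.wp_v0, smul_zero, add_zero]

/-- The centraliser permutes the lines as its image in dimension four does. -/
theorem conj_member_line (k : X.Kd) {i j : Fin 45} {α : F} (h : (X.rho k).1 (xv X.hF i) = α • xv X.hF j)
    (l : F) : ∃ m, (k : G) * X.member i l * (k : G)⁻¹ = X.member j m := by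
  have hO := X.conj_member_Kd k i l
  have hv : (stdHerm X.hF 6).h ((X.kap k).1.1 (wvec (xv X.hF i) l)) v0 = 0 := by
    nth_rewrite 1 [← (X.kap k).2.1]
    rw [unit_h, h_wvec_v0]
  have e := eq_wvec X.hF hv
  rw [X.wvec_image, h] at e
  have hα : α ≠ 0 := fun h0 => unit_ne_zero (X.rho k) (xv_ne X.hF i) (by rw [h, h0, zero_smul])
  refine ⟨α⁻¹ * ((X.kap k).1.1 (wvec (xv X.hF i) l)) 1,
    (Over.unique X (X.member_over _ _) hO (α := α) ?_).symm⟩
  rw [wvec_smul, ← mul_assoc, mul_inv_cancel₀ hα, one_mul]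
  exact e

/-- An element of the centraliser carrying each line to itself acts trivially in dimension four. -/
theorem rho_eq_one_of_fix (k : X.Kd)
    (h : ∀ i : Fin 45, ∃ l m, (k : G) * X.member i l * (k : G)⁻¹ = X.member i m) : X.rho k = 1 := by
  haveI := CfsgLib.FischerThompson.isSimple_su_four X.hF
  let Kf : Subgroup (detHom (stdHerm X.hF 4)).ker :=
    { carrier := {m | ∀ i, ∃ α : F, m.1.1 (xv X.hF i) = α • xv X.hF i}
      one_mem' := fun i => ⟨1, (one_smul F _).symm⟩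
      mul_mem' := fun {m m'} hm hm' i => by
        obtain ⟨α, hα⟩ := hm i
        obtain ⟨β, hβ⟩ := hm' i
        refine ⟨β * α, ?_⟩
        rw [Subgroup.coe_mul, CfsgLib.Classical.Herm.mul_apply, hβ, map_smul, hα, smul_smul]
      inv_mem' := fun {m} hm i => by
        obtain ⟨α, hα⟩ := hm i
        have hα0 : α ≠ 0 := fun h0 => unit_ne_zero m.1 (xv_ne X.hF i) (by rw [hα, h0, zero_smul])
        refine ⟨α⁻¹, ?_⟩
        have e1 := congrArg (m.1⁻¹).1 hα
        rw [inv_apply_self, map_smul] at e1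
        nth_rewrite 2 [e1]
        rw [smul_smul, inv_mul_cancel₀ hα0, one_smul]
        rfl }
  have hnorm : Kf.Normal := ⟨fun m hm g i => by
    have hiso : (stdHerm X.hF 4).h ((g⁻¹ : _).1.1 (xv X.hF i)) ((g⁻¹ : _).1.1 (xv X.hF i)) = 0 := by
      rw [unit_h, xv_iso]
    obtain ⟨j, β, hβ, e⟩ := xv_complete X.hF hiso (unit_ne_zero _ (xv_ne X.hF i))
    obtain ⟨α, hα⟩ := hm j
    refine ⟨α, ?_⟩
    show g.1.1 (m.1.1 ((g⁻¹ : _).1.1 (xv X.hF i))) = _
    rw [e, map_smul, hα, smul_comm β α, ← e, map_smul]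
    exact congrArg (α • ·) (self_apply_inv g.1 _)⟩
  haveI : IsSimpleGroup (detHom (stdHerm X.hF 4)).ker := by
    haveI := (suEquiv X.hF 4).symm.toEquiv.nontrivial
    exact IsSimpleGroup.isSimpleGroup_of_surjective (suEquiv X.hF 4).toMonoidHom (suEquiv X.hF 4).surjective
  have hk : (⟨X.rho k, X.rho_range ▸ ⟨k, rfl⟩⟩ : (detHom (stdHerm X.hF 4)).ker) ∈ Kf := by
    intro i
    obtain ⟨l, m, e⟩ := h i
    have hO := X.conj_member_Kd k i l
    rw [e] at hO
    obtain ⟨α, -, e'⟩ := (X.member_over i m).smul_of_eq X hO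
    refine ⟨α, ?_⟩
    show (X.rho k).1 (xv X.hF i) = _
    rw [← X.wvec_image k _ l, e', CfsgLib.FischerThompson.wp_smul, wp_wvec]
  rcases hnorm.eq_bot_or_eq_top with e | e
  · rw [e, mem_bot] at hk
    exact congrArg Subtype.val hk
  · exfalso
    obtain ⟨i, j, hij⟩ : ∃ i j : Fin 45, Model.perp i j = false := by decide +kernel
    have hmem : (⟨tv X.hF (xv X.hF i) (xv_iso X.hF i), MonoidHom.mem_ker.2 (det_tv X.hF _ _)⟩ :
        (detHom (stdHerm X.hF 4)).ker) ∈ Kf := by rw [e]; exact mem_top _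
    obtain ⟨α, hα⟩ := hmem j
    obtain ⟨β, hβ, e'⟩ := xv_refl X.hF i j
    rw [tv_apply, e'] at hα
    refine Model.rf_move i j hij (xv_smul_inj X.hF (α := β⁻¹ * α) ?_)
    rw [mul_smul, ← hα, smul_smul, inv_mul_cancel₀ hβ, one_smul]

/-- A product of the four members or that times the first lies in the pair subgroup. -/
theorem four_mem_or {g : G} (hg : g ∈ closure ({a, b, c, d} : Set G)) : g ∈ Qg D z ∨ g * a ∈ Qg D z := by
  have h := X.tet
  have ha2 := mul_self X.hset h.ma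
  have hconj : ∀ {q}, q ∈ Qg D z → a * q * a ∈ Qg D z := fun {q} hq => by
    have := Qg_conj (z := z) X.cls h.comm_z.1 hq
    rwa [inv_eq X.hset h.ma] at this
  refine closure_induction (fun x hx => ?_) (Or.inl (one_mem _)) (fun p q _ _ hp hq => ?_) (fun p _ hp => ?_) hg
  · refine Or.inr ?_
    rcases hx with rfl | rfl | rfl | rfl
    · rw [ha2]; exact one_mem _
    · exact pair_mem h.swap
    · exact pair_mem h.rot2
    · exact pair_mem h.rot3
  · rcases hp with hp | hp <;> rcases hq with hq | hq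
    · exact Or.inl (mul_mem hp hq)
    · exact Or.inr (by rw [mul_assoc]; exact mul_mem hp hq)
    · refine Or.inr ?_
      have e : p * a * (a * q * a) = p * q * a := by
        calc p * a * (a * q * a) = p * (a * a) * q * a := by simp only [mul_assoc]
          _ = _ := by rw [ha2, mul_one]
      exact e ▸ mul_mem hp (hconj hq)
    · refine Or.inl ?_
      have e : p * a * (a * (q * a) * a) = p * q := by
        calc p * a * (a * (q * a) * a) = p * (a * a) * q * (a * a) := by simp only [mul_assoc]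
          _ = _ := by rw [ha2, mul_one, mul_one]
      exact e ▸ mul_mem hp (hconj hq)
  · rcases hp with hp | hp
    · exact Or.inl (inv_mem hp)
    · refine Or.inr ?_
      have e : a * (p * a)⁻¹ * a = p⁻¹ * a := by
        rw [mul_inv_rev, inv_eq X.hset h.ma, ← mul_assoc, ha2, one_mul]
      exact e ▸ hconj (inv_mem hp)

theorem not_mem_L {x : G} (hx : x ∈ D) : x ∉ _root_.commutator G := by
  obtain ⟨e, he⟩ := X.env.data
  exact he.not_mem_commutator x hx

/-- An element with parameter zero is a product of some of the four members. -/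
theorem Par.zero_mem {g : G} (h : X.Par g 0) :
    g ∈ closure ({a, b, c} : Set G) ∨ g * d ∈ closure ({a, b, c} : Set G) := by
  obtain ⟨hk0, c', hc, e⟩ := h
  have hc01 : c' = 0 ∨ c' = 1 := by
    have h00 : QCond X.hF (0 : Fin 4 → F) 0 := by unfold QCond; rw [(stdHerm X.hF 4).zero_left]; ring
    simpa using qcond_cases X.hF h00 hc
  rcases hc01 with rfl | rfl
  · refine Or.inl ((X.kap_eq_one_iff ⟨_, hk0⟩).1 (Subtype.ext ?_))
    rw [e]
    exact unit_ext fun x => CfsgLib.FischerThompson.qFun_zero X.hF x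
  · refine Or.inr ?_
    have hdK : d ∈ X.Kd :=
      X.mem_Kd.2 ⟨X.tet.cad.symm, X.tet.cbd.symm, X.tet.ccd.symm, Commute.refl d⟩
    have hkd : (X.kap ⟨d, hdK⟩).1 = qel X.hF 0 1 hc := by
      rw [← CfsgLib.FischerThompson.tv_eq_qel X.hF hc]
      have hm : tv X.hF v0 (hv0 X.hF) ∈ Stab X.hF :=
        CfsgLib.FischerThompson.tv_eq_qel X.hF hc ▸ qel_mem X.hF _ _ _
      refine congrArg Subtype.val (a₂ := (⟨_, hm⟩ : Stab X.hF)) (stab_inj X.hF ?_)
      rw [X.kap_spec, X.base]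
      rfl
    have h1 : X.kap (⟨_, hk0⟩ * ⟨d, hdK⟩) = 1 := by
      refine Subtype.ext ?_
      rw [map_mul, Subgroup.coe_mul, e, hkd, ← CfsgLib.FischerThompson.tv_eq_qel X.hF hc, tv_sq]
      rfl
    exact (X.kap_eq_one_iff _).1 h1

/-- The kernel in the derived group lies in the pair subgroup. -/
theorem rho_ker_le {g : X.Kd} (hρ : X.rho g = 1) (hL : (g : G) ∈ _root_.commutator G) : (g : G) ∈ Qg D z := by
  have hpp : ∀ i, X.member i 0 * X.member i (sc X.hF 1) ∈ Qg D z := fun i => pair_mem (X.std_tet i)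
  let S : AddSubgroup (Fin 4 → F) :=
    { carrier := {u | ∃ q ∈ Qg D z, X.Par q u}
      zero_mem' := ⟨1, one_mem _, X.par_one⟩
      add_mem' := fun {u v} ⟨q, hq, h⟩ ⟨q', hq', h'⟩ => ⟨q * q', mul_mem hq hq', Par.mul X h h'⟩
      neg_mem' := fun {u} ⟨q, hq, h⟩ => ⟨q, hq, by
        rwa [neg_eq_of_add_eq_zero_left (X.add_self_vec u)]⟩ }
  have hsc : sc X.hF 1 ≠ 0 := fun h => absurd (sc_injective X.hF (h.trans (sc_zero X.hF).symm)) (by decide)
  have htop : S = ⊤ := by
    refine invariant_top (hF := X.hF) S (fun m hm u ⟨q, hq, h⟩ => ?_) (u := sc X.hF 1 ^ 2 • xv X.hF 0) ?_ ?_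
    · obtain ⟨k, hk⟩ : m ∈ X.rho.range := X.rho_range ▸ hm
      refine ⟨(k : G) * q * (k : G)⁻¹, Qg_conj X.cls (X.Kd_comm_z k.2) hq, ?_⟩
      rw [← hk]
      exact Par.conj X h k.2
    · exact ⟨_, hpp 0, X.par_pair 0 hsc⟩
    · exact smul_ne_zero (pow_ne_zero 2 hsc) (xv_ne X.hF 0)
  obtain ⟨u, hu⟩ := X.exists_par g hρ
  obtain ⟨q, hq, hqu⟩ : u ∈ S := htop ▸ AddSubgroup.mem_top u
  have h0 := Par.mul X (Par.inv X hqu) hu
  rw [X.add_self_vec] at h0
  have hmem : q⁻¹ * (g : G) ∈ closure ({a, b, c, d} : Set G) := by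
    have hle : closure ({a, b, c} : Set G) ≤ closure ({a, b, c, d} : Set G) := closure_mono (by
      rintro s (rfl | rfl | rfl) <;> simp)
    rcases Par.zero_mem X h0 with h | h
    · exact hle h
    · have h2 := mul_mem (hle h) (subset_closure (show d ∈ ({a, b, c, d} : Set G) by simp))
      simpa [mul_assoc, mul_self X.hset X.tet.md] using h2
  rcases X.four_mem_or hmem with h | h
  · simpa using mul_mem hq h
  · refine absurd ?_ (X.not_mem_L X.tet.ma)
    have hL' := Qg_le_commutator (z := z) X.cls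
    have := mul_mem (inv_mem (mul_mem (inv_mem (hL' hq)) hL)) (hL' h)
    simpa [mul_assoc] using this

/-- The elements of the pair subgroup fixing the four members form a group of order `2 ^ 11`. -/
theorem card_Qg_inf : Nat.card ↥(Qg D z ⊓ X.Kd) = 2048 := by
  have hset := X.hset
  have haK : a ∈ X.Kd := X.mem_Kd.2 ⟨Commute.refl a, X.tet.cab, X.tet.cac, X.tet.cad⟩
  have hρ : ∀ k : X.Kd, (k : G) ∈ Qg D z → X.rho k = 1 := by
    intro k hk
    refine X.rho_eq_one_of_fix k fun i => ?_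
    have h1 := act_of_Qg hset X.cls X.env.sep ⟨k, Qg_le_centralizer X.cls hk⟩ hk
    have h2 : (k : G) * X.member i 0 * (k : G)⁻¹ ∈ (X.linkTT i).1 := by
      have := conj_mem_move X.cls (k : G) (X.Kd_comm_z k.2) (T := X.linkTT i) (X.mem_linkTT.2 ⟨0, rfl⟩)
      rwa [show move X.cls (k : G) (X.Kd_comm_z k.2) (X.linkTT i) = X.linkTT i from
        Equiv.congr_fun h1 (X.linkTT i)] at this
    obtain ⟨m, hm⟩ := X.mem_linkTT.1 h2
    exact ⟨0, m, hm⟩
  have haρ : X.rho ⟨a, haK⟩ = 1 := by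
    refine X.rho_eq_one_of_fix _ fun i => ⟨0, 0, ?_⟩
    exact conj_self_of_commute (X.member_comm_base (Or.inl rfl) i 0)
  let f : ↥(Qg D z ⊓ X.Kd) × Bool → X.rho.ker := fun p =>
    ⟨⟨p.1.1, p.1.2.2⟩ * cond p.2 ⟨a, haK⟩ 1, MonoidHom.mem_ker.2 (by
      rw [map_mul, hρ _ p.1.2.1, one_mul]
      cases p.2
      exacts [map_one _, haρ])⟩
  have hf : Function.Bijective f := by
    refine ⟨?_, fun k => ?_⟩
    · rintro ⟨p, i⟩ ⟨q, j⟩ h
      have h' := congrArg (fun k : X.rho.ker => ((k.1 : X.Kd) : G)) h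
      cases i <;> cases j <;> simp [f] at h'
      · rw [h']
      · refine absurd ?_ (X.not_mem_L X.tet.ma)
        have := mul_mem (inv_mem (Qg_le_commutator X.cls q.2.1)) (Qg_le_commutator X.cls p.2.1)
        rwa [h', inv_mul_cancel_left] at this
      · refine absurd ?_ (X.not_mem_L X.tet.ma)
        have := mul_mem (inv_mem (Qg_le_commutator X.cls p.2.1)) (Qg_le_commutator X.cls q.2.1)
        rwa [← h', inv_mul_cancel_left] at this
      · rw [h']
    · rcases mem_or_mul_mem X.cls X.tet.ma ((k.1 : X.Kd) : G) with h | h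
      · exact ⟨(⟨_, X.rho_ker_le (MonoidHom.mem_ker.1 k.2) h, k.1.2⟩, false),
          Subtype.ext (Subtype.ext (by simp [f]))⟩
      · have hk' : X.rho (k.1 * ⟨a, haK⟩) = 1 := by rw [map_mul, MonoidHom.mem_ker.1 k.2, haρ, one_mul]
        exact ⟨(⟨_, X.rho_ker_le hk' h, mul_mem k.1.2 haK⟩, true),
          Subtype.ext (Subtype.ext (by simp [f, mul_assoc, mul_self hset X.tet.ma]))⟩
  have h := Nat.card_congr (Equiv.ofBijective f hf)
  rw [Nat.card_prod, X.card_rho_ker, Nat.card_eq_fintype_card (α := Bool), Fintype.card_bool] at h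
  omega

end Chart

end CfsgLib.FischerTetrad
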