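import Cfsg.Agent.Lib.FischerTetrad.Order
import Cfsg.Agent.Lib.FischerTetrad.ChartExists

/-!
An element fixing each tetrad linked to the base does not swap two of its members.
-/

set_option autoImplicit false
set_option linter.unusedSectionVars false

namespace CfsgLib.FischerTetrad

open Subgroup CfsgLib.Classical.Herm HermSpace CfsgLib.UnitaryTransv
open CfsgLib.ThreeTrans (link mul_self inv_eq conj_self_of_commute commute_conj_iff')
open CfsgLib.FischerType CfsgLib.FischerInvol CfsgLib.FischerTriple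
open CfsgLib.FischerThompson (invariant_top)

variable {G : Type*} [Group G] {D : Set G} {z : G}

/-- The elements carrying each tetrad linked to a tetrad to itself. -/
def Zfix (T₀ : TT D z) : Subgroup G where
  carrier := {g | g ∈ CC z ∧ ∀ T : TT D z, Linked T₀ T → (fun x => g * x * g⁻¹) '' T.1 = T.1}
  one_mem' := ⟨one_mem _, fun T _ => by simp⟩
  mul_mem' := fun {g k} hg hk => ⟨mul_mem hg.1 hk.1, fun T hT => by
    conv_rhs => rw [← hg.2 T hT, ← hk.2 T hT, Set.image_image]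
    exact Set.image_congr fun x _ => by group⟩
  inv_mem' := fun {g} hg => ⟨inv_mem hg.1, fun T hT => by
    conv_lhs => rw [← hg.2 T hT, Set.image_image]
    simp [mul_assoc]⟩

theorem conj_mem_of_Zfix {T₀ T : TT D z} {g x : G} (hg : g ∈ Zfix T₀) (hT : Linked T₀ T) (hx : x ∈ T.1) :
    g * x * g⁻¹ ∈ T.1 := hg.2 T hT ▸ ⟨x, hx, rfl⟩

variable [Finite G] {a b c d : G} {F : Type} [Field F] [Fintype F]

theorem Qg_le_Zfix (E : Env D) (T₀ : TT D z) : Qg D z ≤ Zfix T₀ := fun q hq =>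
  ⟨Qg_le_CC E.S.cls hq, fun T _ => by
    obtain ⟨p, p', p'', p''', h, e⟩ := T.2
    rw [e]
    exact (Qg_kl E.S.cls.1 E.S.cls E.sep hq h).image⟩

namespace Chart

variable (X : Chart D z a b c d F)

include X

/-- An element of the four-member centraliser acting on each linked tetrad as itself. -/
theorem rho_eq_one_of_Zfix {k : X.Kd} (h : (k : G) ∈ Zfix X.baseTT) : X.rho k = 1 := by
  refine X.rho_eq_one_of_fix k fun i => ?_
  obtain ⟨m, hm⟩ := X.mem_linkTT.1 (conj_mem_of_Zfix h (X.linked_base i) (X.mem_linkTT.2 ⟨0, rfl⟩))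
  exact ⟨0, m, hm⟩

theorem Zfix_inf_Kd : Zfix X.baseTT ⊓ X.Kd = Qg D z ⊓ X.Kd := by
  refine le_antisymm (fun g hg => ?_) (inf_le_inf_right _ (Qg_le_Zfix X.env _))
  exact ⟨X.rho_ker_le (g := ⟨g, hg.2⟩) (X.rho_eq_one_of_Zfix hg.1) (mem_CC.1 hg.1.1).1, hg.2⟩

/-- The four members do not move the tetrads linked to them. -/
theorem par_zero_of_four {g : G} (hg : g ∈ closure ({a, b, c, d} : Set G)) : X.Par g 0 := by
  have hle : closure ({a, b, c, d} : Set G) ≤ X.Kd ⊓ centralizer (Set.range fun p : Fin 45 × F => X.member p.1 p.2) :=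
    (closure_le _).2 (by
      intro s hs
      obtain ⟨h1, h2, h3, h4⟩ := X.tet.mem_tt
      have hsm : s ∈ X.baseTT.1 := hs
      refine ⟨X.mem_Kd.2 ?_, fun y ⟨p, hp⟩ => hp ▸ (X.member_comm_base hsm p.1 p.2).symm⟩
      have h := linked_self X.hset X.baseTT
      exact ⟨h.all X.hset s hsm a h1, h.all X.hset s hsm b h2, h.all X.hset s hsm c h3, h.all X.hset s hsm d h4⟩)
  have hm := hle hg
  have hfix : ∀ i l, g * X.member i l * g⁻¹ = X.member i l := fun i l =>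
    conj_self_of_commute (show Commute g _ from ((mem_centralizer_iff.1 hm.2) _ ⟨(i, l), rfl⟩).symm)
  obtain ⟨u, hu⟩ := X.exists_par ⟨g, hm.1⟩ (X.rho_eq_one_of_fix _ fun i => ⟨0, 0, hfix i 0⟩)
  have hu0 : u = 0 := X.xv_orth fun i => by
    have := (X.member_inj ((Par.conj_member X hu i 0).symm.trans (hfix i 0))).2
    rwa [zero_add] at this
  rwa [hu0] at hu

theorem sq_inj {x y : F} (h : x ^ 2 = y ^ 2) : x = y := by
  have h2 : (x - y) * (x - y) = 0 := by linear_combination h + (y ^ 2 - x * y) * two_eq_zero X.hF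
  exact sub_eq_zero.1 (mul_self_eq_zero.1 h2)

/-- The parameter of the product of two members of a line. -/
theorem par_pair' (i : Fin 45) (p q : F) : X.Par (X.member i p * X.member i q) ((p + q) ^ 2 • xv X.hF i) := by
  have hset := X.hset
  have one : ∀ l, X.Par (X.member i 0 * X.member i l) (l ^ 2 • xv X.hF i) := fun l => by
    by_cases hl : l = 0
    · subst hl
      rw [mul_self hset (X.member_mem i 0).1.1.1, zero_pow (by norm_num), zero_smul]
      exact X.par_one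
    · exact X.par_pair i hl
  have h := Par.mul X (Par.inv X (one p)) (one q)
  rw [← add_smul, mul_inv_rev, inv_eq hset (X.member_mem i 0).1.1.1, inv_eq hset (X.member_mem i p).1.1.1,
    show p ^ 2 + q ^ 2 = (p + q) ^ 2 by linear_combination -(p * q) * two_eq_zero X.hF] at h
  rwa [show X.member i p * X.member i 0 * (X.member i 0 * X.member i q) = X.member i p * X.member i q by
    rw [mul_assoc, ← mul_assoc (X.member i 0), mul_self hset (X.member_mem i 0).1.1.1, one_mul]] at h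

/-- An element normalising the four members and fixing each linked tetrad is a translation on each of them. -/
theorem translate {τ : G} (hτ : τ ∈ Zfix X.baseTT) (hperm : (fun x => τ * x * τ⁻¹) '' X.baseTT.1 = X.baseTT.1)
    (hsq : τ * τ ∈ X.Kd) (i : Fin 45) :
    ∃ e, ∀ l, τ * X.member i l * τ⁻¹ = X.member i (e + l) := by
  have hτz : Commute τ z := (mem_CC.1 hτ.1).2
  have hnorm4 : ∀ {g}, g ∈ closure ({a, b, c, d} : Set G) → τ * g * τ⁻¹ ∈ closure ({a, b, c, d} : Set G) := by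
    intro g hg
    have e : (closure ({a, b, c, d} : Set G)).map (MulAut.conj τ).toMonoidHom = closure ({a, b, c, d} : Set G) := by
      rw [MonoidHom.map_closure]
      exact congrArg Subgroup.closure hperm
    rw [← e]
    exact ⟨g, hg, rfl⟩
  have hKn : ∀ {k}, k ∈ X.Kd → τ * k * τ⁻¹ ∈ X.Kd := by
    intro k hk
    have hall : ∀ y ∈ X.baseTT.1, Commute k y := by
      obtain ⟨h1, h2, h3, h4⟩ := X.mem_Kd.1 hk
      rintro y (rfl | rfl | rfl | rfl)
      exacts [h1, h2, h3, h4]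
    have hall' : ∀ y ∈ X.baseTT.1, Commute (τ * k * τ⁻¹) y := fun y hy => by
      rw [← hperm] at hy
      obtain ⟨w, hw, rfl⟩ := hy
      exact (commute_conj_iff' τ k w).2 (hall w hw)
    obtain ⟨h1, h2, h3, h4⟩ := X.tet.mem_tt
    exact X.mem_Kd.2 ⟨hall' a h1, hall' b h2, hall' c h3, hall' d h4⟩
  have hrho : ∀ {k} (hk : k ∈ X.Kd), X.rho ⟨τ * k * τ⁻¹, hKn hk⟩ = X.rho ⟨k, hk⟩ := by
    intro k hk
    have hkz := X.Kd_comm_z hk
    have hcomm : τ * k * τ⁻¹ * k⁻¹ ∈ Zfix X.baseTT := by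
      refine ⟨mem_CC.2 ⟨?_, ?_⟩, fun T hT => ?_⟩
      · rw [← commutatorElement_def, _root_.commutator_def]
        exact commutator_mem_commutator (mem_top _) (mem_top _)
      · exact ((hτz.mul_left hkz).mul_left hτz.inv_left).mul_left hkz.inv_left
      · have hk' : Commute k⁻¹ z := hkz.inv_left
        set T' := move X.cls k⁻¹ hk' T with hT'
        have hl : Linked X.baseTT T' := by
          obtain ⟨x, hx⟩ := T.nonempty
          refine ⟨a, Or.inl rfl, _, conj_mem_move X.cls k⁻¹ hk' hx, ?_⟩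
          have hax : Commute a x := hT.all X.hset a (Or.inl rfl) x hx
          have := (commute_conj_iff' k⁻¹ a x).2 hax
          rwa [conj_self_of_commute (X.mem_Kd.1 hk).1.inv_left] at this
        have e1 : (fun x => τ⁻¹ * x * τ⁻¹⁻¹) '' T'.1 = T'.1 := (inv_mem hτ).2 T' hl
        calc (fun x => τ * k * τ⁻¹ * k⁻¹ * x * (τ * k * τ⁻¹ * k⁻¹)⁻¹) '' T.1
            = (fun x => τ * x * τ⁻¹) '' ((fun x => k * x * k⁻¹) ''
                ((fun x => τ⁻¹ * x * τ⁻¹⁻¹) '' T'.1)) := by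
              show _ = _ '' (_ '' (_ '' (_ '' T.1)))
              simp only [Set.image_image]
              exact Set.image_congr fun x _ => by group
          _ = (fun x => τ * x * τ⁻¹) '' T.1 := by
              rw [e1]
              congr 1
              show _ '' (_ '' T.1) = T.1
              simp [Set.image_image, mul_assoc]
          _ = T.1 := hτ.2 T hT
    have hmem : τ * k * τ⁻¹ * k⁻¹ ∈ X.Kd := mul_mem (hKn hk) (inv_mem hk)
    have h1 := X.rho_eq_one_of_Zfix (k := ⟨_, hmem⟩) hcomm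
    rw [show (⟨τ * k * τ⁻¹ * k⁻¹, hmem⟩ : X.Kd) = ⟨τ * k * τ⁻¹, hKn hk⟩ * ⟨k, hk⟩⁻¹ from rfl, map_mul,
      map_inv, mul_inv_eq_one] at h1
    exact h1
  have hsqρ : X.rho ⟨τ * τ, hsq⟩ = 1 := X.rho_eq_one_of_Zfix (mul_mem hτ hτ)
  have hexpar : ∀ {g u}, X.Par g u → ∃ u', X.Par (τ * g * τ⁻¹) u' := fun {g u} hg =>
    X.exists_par ⟨_, hKn (Par.mem X hg)⟩ (by rw [hrho (Par.mem X hg)]; exact Par.rho_eq X hg)
  let S : AddSubgroup (Fin 4 → F) :=
    { carrier := {u | ∃ g, X.Par g u ∧ X.Par (τ * g * τ⁻¹) u}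
      zero_mem' := ⟨1, X.par_one, by rw [mul_one, mul_inv_cancel]; exact X.par_one⟩
      add_mem' := fun {u v} ⟨g, h1, h2⟩ ⟨g', h1', h2'⟩ => ⟨g * g', Par.mul X h1 h1', by
        rw [show τ * (g * g') * τ⁻¹ = τ * g * τ⁻¹ * (τ * g' * τ⁻¹) by group]
        exact Par.mul X h2 h2'⟩
      neg_mem' := fun {u} ⟨g, h1, h2⟩ => ⟨g, by
        rw [neg_eq_of_add_eq_zero_left (X.add_self_vec u)]; exact ⟨h1, h2⟩⟩ }
  have hsc : sc X.hF 1 ≠ 0 := fun h => absurd (sc_injective X.hF (h.trans (sc_zero X.hF).symm)) (by decide)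
  obtain ⟨u, hu, hu0⟩ : ∃ u ∈ S, u ≠ 0 := by
    have hg := X.par_pair 0 hsc
    set g := X.member 0 0 * X.member 0 (sc X.hF 1)
    set u := sc X.hF 1 ^ 2 • xv X.hF 0
    obtain ⟨u', hu'⟩ := hexpar hg
    by_cases he : u' = u
    · exact ⟨u, ⟨g, hg, he ▸ hu'⟩, smul_ne_zero (pow_ne_zero 2 hsc) (xv_ne X.hF 0)⟩
    refine ⟨u + u', ⟨g * (τ * g * τ⁻¹), Par.mul X hg hu', ?_⟩, fun h0 => he ?_⟩
    · have h2 := Par.conj X hg hsq
      rw [hsqρ] at h2
      change X.Par (τ * τ * g * (τ * τ)⁻¹) u at h2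
      rw [show τ * (g * (τ * g * τ⁻¹)) * τ⁻¹ = τ * g * τ⁻¹ * (τ * τ * g * (τ * τ)⁻¹) by group, add_comm]
      exact Par.mul X hu' h2
    · calc u' = u + u + u' := by rw [X.add_self_vec, zero_add]
        _ = u := by rw [add_assoc, h0, add_zero]
  have htop : S = ⊤ := by
    refine invariant_top (hF := X.hF) S (fun m hm v ⟨g, h1, h2⟩ => ?_) hu hu0
    obtain ⟨k, hk⟩ : m ∈ X.rho.range := X.rho_range ▸ hm
    refine ⟨(k : G) * g * (k : G)⁻¹, ?_, ?_⟩
    · rw [← hk]; exact Par.conj X h1 k.2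
    · rw [← hk, show τ * ((k : G) * g * (k : G)⁻¹) * τ⁻¹ =
        τ * (k : G) * τ⁻¹ * (τ * g * τ⁻¹) * (τ * (k : G) * τ⁻¹)⁻¹ by group, ← hrho k.2]
      exact Par.conj X h2 (hKn k.2)
  have hkeep : ∀ {g u}, X.Par g u → X.Par (τ * g * τ⁻¹) u := by
    intro g u hg
    obtain ⟨g', h1, h2⟩ : u ∈ S := htop ▸ AddSubgroup.mem_top u
    have h0 := Par.mul X (Par.inv X h1) hg
    rw [X.add_self_vec] at h0
    have h4 : g'⁻¹ * g ∈ closure ({a, b, c, d} : Set G) := by
      have hle : closure ({a, b, c} : Set G) ≤ closure ({a, b, c, d} : Set G) := closure_mono (by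
        rintro s (rfl | rfl | rfl) <;> simp)
      rcases Par.zero_mem X h0 with h | h
      · exact hle h
      · have h' := mul_mem (hle h) (subset_closure (show d ∈ ({a, b, c, d} : Set G) by simp))
        simpa [mul_assoc, mul_self X.hset X.tet.md] using h'
    have h3 := Par.mul X h2 (X.par_zero_of_four (hnorm4 h4))
    rwa [add_zero, show τ * g' * τ⁻¹ * (τ * (g'⁻¹ * g) * τ⁻¹) = τ * g * τ⁻¹ by group] at h3
  have himg : ∀ l, ∃ m, τ * X.member i l * τ⁻¹ = X.member i m := fun l =>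
    X.mem_linkTT.1 (conj_mem_of_Zfix hτ (X.linked_base i) (X.mem_linkTT.2 ⟨l, rfl⟩))
  obtain ⟨e, he⟩ := himg 0
  refine ⟨e, fun l => ?_⟩
  obtain ⟨m, hm⟩ := himg l
  have h1 := hkeep (X.par_pair' i 0 l)
  rw [show τ * (X.member i 0 * X.member i l) * τ⁻¹ = τ * X.member i 0 * τ⁻¹ * (τ * X.member i l * τ⁻¹) by group,
    he, hm] at h1
  have h2 := Par.unique X (X.par_pair' i e m) h1
  have h3 : e + m = 0 + l := X.sq_inj (smul_left_injective F (xv_ne X.hF i) h2)
  rw [hm, show m = e + l by linear_combination h3 - e * two_eq_zero X.hF]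

/-- A translation of a line acts inside the four-group. -/
theorem kl_translate (i : Fin 45) {g : G} {e : F} (h : ∀ l, g * X.member i l * g⁻¹ = X.member i (e + l)) :
    Kl g (X.member i 0) (X.member i (sc X.hF 1)) (X.member i (sc X.hF 2)) (X.member i (sc X.hF 3)) := by
  by_cases he : e = 0
  · subst he
    refine Or.inl ⟨?_, ?_, ?_, ?_⟩ <;> rw [h, zero_add]
  have hT := X.std_tet i
  refine kl_of_invol hT.nbc hT.nbd hT.ncd hT.nab hT.nac hT.nad fun x hx => ?_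
  obtain ⟨l, rfl⟩ := X.mem_linkTT.1 (show x ∈ (X.linkTT i).1 from hx)
  refine ⟨h l ▸ X.mem_linkTT.2 ⟨_, rfl⟩, fun e' => he ?_, ?_⟩
  · have := (X.member_inj ((h l).symm.trans e')).2
    linear_combination this
  · rw [h, h]
    congr 1
    linear_combination e * two_eq_zero X.hF

/-- A member of the pair subgroup fixing all members of the linked tetrads fixes the four members. -/
theorem comm_base_of_fix {r : G} (hr : r ∈ Qg D z) (hfix : ∀ i l, r * X.member i l * r⁻¹ = X.member i l) :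
    r * a * r⁻¹ = a := by
  obtain ⟨F', i1, i2, ⟨Y⟩⟩ := exists_chart X.env (X.std_tet 0)
  have hYb : Y.baseTT = X.linkTT 0 := rfl
  obtain ⟨p, hp⟩ : ∃ p, X.baseTT = Y.linkTT p := by
    rcases Y.eq_link_of_linked (T := X.baseTT) (hYb ▸ (X.linked_base 0).symm) with e | e
    · exact absurd (hYb ▸ e).symm (X.linkTT_ne_base 0)
    · exact e
  have hrK : r ∈ Y.Kd :=
    Y.mem_Kd.2 ⟨mul_inv_eq_iff_eq_mul.1 (hfix 0 _), mul_inv_eq_iff_eq_mul.1 (hfix 0 _),
      mul_inv_eq_iff_eq_mul.1 (hfix 0 _), mul_inv_eq_iff_eq_mul.1 (hfix 0 _)⟩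
  obtain ⟨t, ht⟩ := Y.exists_par ⟨r, hrK⟩ (Y.rho_eq_one_of_Zfix (Qg_le_Zfix X.env _ hr))
  have hz : ∀ k, k ≠ p → Model.perp p k = true → (stdHerm Y.hF 4).h (xv Y.hF k) t = 0 := by
    intro k hkp hperp
    rcases X.eq_link_of_linked (T := Y.linkTT k) (hp ▸ (Y.linked_link_iff p k).2 hperp) with e | ⟨j, e⟩
    · exact absurd (Y.linkTT_inj (e.trans hp)) hkp
    · obtain ⟨l, hl⟩ := X.mem_linkTT.1 (e ▸ Y.mem_linkTT.2 ⟨0, rfl⟩)
      have h1 := Par.conj_member Y ht k 0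
      rw [hl, hfix, ← hl] at h1
      have := (Y.member_inj h1).2
      rw [zero_add] at this
      exact this.symm
  obtain ⟨k, l, hkp, hlp, hk, hl, α, β, he⟩ := xv_expand Y.hF p
  have h0 : (stdHerm Y.hF 4).h (xv Y.hF p) t = 0 := by
    rw [he, (stdHerm Y.hF 4).add_left, (stdHerm Y.hF 4).smul_left, (stdHerm Y.hF 4).smul_left,
      hz k hkp hk, hz l hlp hl, mul_zero, mul_zero, add_zero]
  obtain ⟨m, hm⟩ := Y.mem_linkTT.1 (hp ▸ (show a ∈ X.baseTT.1 from Or.inl rfl))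
  have h1 := Par.conj_member Y ht p m
  rw [h0, add_zero, ← hm] at h1
  exact h1

/-- Nothing fixing each linked tetrad swaps two members and fixes the other two. -/
theorem no_swap {τ : G} (hτ : τ ∈ Zfix X.baseTT) (ha : τ * a * τ⁻¹ = a) (hb : τ * b * τ⁻¹ = b)
    (hc : τ * c * τ⁻¹ = d) (hd : τ * d * τ⁻¹ = c) : False := by
  have hset := X.hset
  have h := X.tet
  have hperm : (fun x => τ * x * τ⁻¹) '' X.baseTT.1 = X.baseTT.1 := hτ.2 _ (linked_self hset _)
  have hsq : τ * τ ∈ X.Kd := by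
    have e : ∀ x y, τ * x * τ⁻¹ = y → τ * y * τ⁻¹ = x → Commute (τ * τ) x := fun x y h1 h2 =>
      mul_inv_eq_iff_eq_mul.1 (by rw [show τ * τ * x * (τ * τ)⁻¹ = τ * (τ * x * τ⁻¹) * τ⁻¹ by group, h1, h2])
    exact X.mem_Kd.2 ⟨e a a ha ha, e b b hb hb, e c d hc hd, e d c hd hc⟩
  obtain ⟨x, hx, hxz, hxa⟩ := X.exists_far
  have hT' := h.swap'.far_tet hset X.cls hx hxz hxa
  set q := x * cj a c x with hq
  have hqQ : q ∈ Qg D z := pair_mem hT'
  have hqa : q * a * q⁻¹ = c := pair_conj hset h.swap' hx hxz hxa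
  obtain ⟨qc, qb, qd⟩ : q * c * q⁻¹ = a ∧ q * b * q⁻¹ = d ∧ q * d * q⁻¹ = b := by
    rcases Qg_kl hset X.cls X.env.sep hqQ h with ⟨e, -⟩ | ⟨e, -⟩ | ⟨-, e2, e3, e4⟩ | ⟨e, -⟩
    · exact absurd (e.symm.trans hqa) h.nac
    · exact absurd (e.symm.trans hqa) h.nbc
    · exact ⟨e2, e3, e4⟩
    · exact absurd (hqa.symm.trans e) h.ncd
  set r := τ * q * τ⁻¹ * q⁻¹ with hr
  have hrQ : r ∈ Qg D z := mul_mem (Qg_conj X.cls (mem_CC.1 hτ.1).2 hqQ) (inv_mem hqQ)
  have hrc : r * c * r⁻¹ = d := by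
    have e1 : q⁻¹ * c * q⁻¹⁻¹ = a := by rw [← hqa]; group
    have e2 : τ⁻¹ * a * τ⁻¹⁻¹ = a := by nth_rewrite 1 [← ha]; group
    calc r * c * r⁻¹ = τ * (q * (τ⁻¹ * (q⁻¹ * c * q⁻¹⁻¹) * τ⁻¹⁻¹) * q⁻¹) * τ⁻¹ := by rw [hr]; group
      _ = d := by rw [e1, e2, hqa, hc]
  have hfix : ∀ i l, r * X.member i l * r⁻¹ = X.member i l := by
    intro i l
    obtain ⟨e, he⟩ := X.translate hτ hperm hsq i
    have k1 := X.kl_translate i he
    have k2 := Qg_kl hset X.cls X.env.sep hqQ (X.std_tet i)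
    set w := X.member i l
    have hw : τ⁻¹ * q⁻¹ * w * (τ⁻¹ * q⁻¹)⁻¹ ∈ (X.linkTT i).1 := by
      have e' := (k1.inv.mul k2.inv).image
      rw [show (X.linkTT i).1 = ({X.member i 0, X.member i (sc X.hF 1), X.member i (sc X.hF 2),
        X.member i (sc X.hF 3)} : Set G) from rfl, ← e']
      exact ⟨w, X.mem_linkTT.2 ⟨l, rfl⟩, rfl⟩
    calc r * w * r⁻¹ = τ * q * (τ⁻¹ * q⁻¹ * w * (τ⁻¹ * q⁻¹)⁻¹) * (τ * q)⁻¹ := by rw [hr]; group
      _ = q * τ * (τ⁻¹ * q⁻¹ * w * (τ⁻¹ * q⁻¹)⁻¹) * (q * τ)⁻¹ := (k1.comm k2 hw).1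
      _ = w := by group
  have hra := X.comm_base_of_fix hrQ hfix
  rcases Qg_kl hset X.cls X.env.sep hrQ h with ⟨-, -, e, -⟩ | ⟨e, -⟩ | ⟨e, -⟩ | ⟨e, -⟩
  · exact h.ncd (e.symm.trans hrc)
  · exact h.nab (hra.symm.trans e)
  · exact h.nac (hra.symm.trans e)
  · exact h.nad (hra.symm.trans e)

end Chart

end CfsgLib.FischerTetrad
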